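import Cfsg.Agent.H53.SE.PairStruct

/-!
THEOREM V: if involutions at `a` centralised by a common non-trivial element of the pair stabiliser
commute and none of its non-trivial elements centralises all of them, then a swapper inverts every
normal abelian `q`-subgroup of the pair stabiliser normalised by it.  No commutativity of the
involutions at `a` is assumed.
-/

set_option autoImplicit false
set_option linter.style.haveILetI false

namespace Cfsg.Agent.H53.SE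

open Subgroup MulAction
open Cfsg.Agent.H39
open Cfsg.Agent.H73.Bender
open Cfsg.Agent.Cores.SE

universe u v

variable {G : Type u} [Group G] {Ω : Type v} [MulAction G Ω] {S : Subgroup G} {C : Set Ω}

/-- Involutions at `a` centralised by a common non-trivial element of the pair stabiliser of
`(a, b)` commute. -/
def ShareAt (S : Subgroup G) (a b : Ω) : Prop :=
  ∀ e ∈ pair S a b, e ≠ 1 → ∀ s ∈ S, orderOf s = 2 → s • a = a → Commute e s →
    ∀ t ∈ S, orderOf t = 2 → t • a = a → Commute e t → Commute s t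

theorem shareAt_of_commAt {a : Ω} (h : CommAt S a) (b : Ω) : ShareAt S a b :=
  fun _ _ _ s hs hs2 hsa _ t ht ht2 hta _ => h s hs t ht hs2 ht2 hsa hta

variable [Finite G] [Finite Ω]

/-- A non-trivial element of the pair stabiliser inverted by a swapper centralises no involution at
either of the two points. -/
theorem eq_one_of_inverted_of_commute (hS : SE S C) {a b : Ω} (ha : a ∈ C) (hb : b ∈ C)
    (hab : a ≠ b) {w j t : G} (hw : w ∈ S) (hw2 : orderOf w = 2) (hwa : w • a = b)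
    (hj : j ∈ pair S a b) (hjw : w * j * w⁻¹ = j⁻¹) (ht : t ∈ S) (ht2 : orderOf t = 2)
    (hta : t • a = a) (hjt : Commute j t) : j = 1 := by
  set r := w * t * w⁻¹ with hr
  have hrS : r ∈ S := conj_mem_of_mem hw ht
  have hr2 : orderOf r = 2 := by rw [hr, orderOf_conj, ht2]
  have hrb : r • b = b := hwa ▸ conj_smul_of_smul (g := w) hta
  have hjr : Commute j r := by
    have h : Commute (w * j * w⁻¹) r :=
      show w * j * w⁻¹ * (w * t * w⁻¹) = w * t * w⁻¹ * (w * j * w⁻¹) by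
        calc w * j * w⁻¹ * (w * t * w⁻¹) = w * (j * t) * w⁻¹ := by group
          _ = _ := by rw [hjt.eq]; group
    rw [hjw] at h
    exact Commute.inv_left_iff.mp h
  obtain ⟨s, hs, hs2, hsb, hsa, hsr⟩ :=
    hS.exists_swap_of_inv hrS hr2 ht ht2 hb ha (Ne.symm hab) hrb hta
  have hc : Commute j s :=
    commute_swapper hS ha hb hab hrS hr2 hrb hs hs2 hsa hj hjr (by rw [hsr]; exact hjt)
  set d := s * w with hd
  have hdP : d ∈ pair S a b := mem_pair.mpr ⟨mul_mem hs hw, by rw [mul_smul, hwa, hsb],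
    by rw [mul_smul, swap_symm hw2 hwa, hsa]⟩
  have hdj : d * j * d⁻¹ = j⁻¹ := by
    calc d * j * d⁻¹ = s * (w * j * w⁻¹) * s⁻¹ := by rw [hd]; group
      _ = j⁻¹ := by rw [hjw, ← hc.inv_left.eq, mul_inv_cancel_right]
  have h2 : Commute (d ^ 2) j := by
    have e : d ^ 2 * j * (d ^ 2)⁻¹ = j := by
      calc d ^ 2 * j * (d ^ 2)⁻¹ = d * (d * j * d⁻¹) * d⁻¹ := by rw [sq]; group
        _ = d * j⁻¹ * d⁻¹ := by rw [hdj]
        _ = (d * j * d⁻¹)⁻¹ := by group
        _ = j := by rw [hdj, inv_inv]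
    exact mul_inv_eq_iff_eq_mul.mp e
  obtain ⟨k, hk⟩ : Odd (orderOf d) :=
    (hS.odd_pair ha hb hab).of_dvd_nat (Subgroup.orderOf_dvd_natCard _ hdP)
  have hdc : Commute d j := by
    have h3 := h2.pow_left (k + 1)
    rwa [← pow_mul, show 2 * (k + 1) = orderOf d + 1 by omega, pow_succ, pow_orderOf_eq_one,
      one_mul] at h3
  rw [hdc.eq, mul_inv_cancel_right] at hdj
  by_contra hj1
  have hj2 := orderOf_eq_two_of_mul_self (mul_eq_one_iff_eq_inv.mpr hdj) hj1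
  obtain ⟨hjS, hja, hjb⟩ := mem_pair.mp hj
  exact hab (hS.fix_unique hjS hj2 ha hb hja hjb)

/-- LEMMA Y for any prime: a `q`-group with three fixed points centralises an involution at each of
its fixed points. -/
theorem exists_inv_of_three (hS : SE S C) (hF : Faithful S C) (hG : Good S C) {q : ℕ}
    [Fact q.Prime] (X : Subgroup G) (hXS : X ≤ S) (hX : IsPGroup q X)
    (h3 : ∃ a ∈ fixedIn C X, ∃ b ∈ fixedIn C X, ∃ e ∈ fixedIn C X, a ≠ b ∧ e ≠ a ∧ e ≠ b)
    {f : Ω} (hf : f ∈ fixedIn C X) :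
    ∃ i ∈ S, orderOf i = 2 ∧ i • f = f ∧ ∀ x ∈ X, Commute i x := by
  by_cases hdvd : q ∣ invBar S C f
  · exact exists_inv_fixed hS hF hG hf.1 hdvd X hXS hX h3 f hf
  let J := {i : G // i ∈ S ∧ orderOf i = 2 ∧ i • f = f}
  have hact : ∀ p : X, ∀ i : J, (p : G) * i * (p : G)⁻¹ ∈ S ∧
      orderOf ((p : G) * i * (p : G)⁻¹) = 2 ∧ ((p : G) * i * (p : G)⁻¹) • f = f := by
    rintro ⟨p, hp⟩ ⟨i, hi, hi2, hif⟩
    refine ⟨conj_mem_of_mem (hXS hp) hi, by rw [orderOf_conj, hi2], ?_⟩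
    have h' := conj_smul_of_smul (g := p) hif
    rwa [hf.2 p hp] at h'
  letI : MulAction X J :=
    { smul := fun p i => ⟨(p : G) * i * (p : G)⁻¹, hact p i⟩
      one_smul := fun i => Subtype.ext
        (show ((1 : X) : G) * i * ((1 : X) : G)⁻¹ = i by simp)
      mul_smul := fun p p' i => Subtype.ext
        (show ((p * p' : X) : G) * i * ((p * p' : X) : G)⁻¹ =
          p * (p' * i * (p' : G)⁻¹) * (p : G)⁻¹ by simp [mul_assoc]) }
  obtain ⟨⟨i, hi, hi2, hif⟩, hfx⟩ := hX.nonempty_fixed_point_of_prime_not_dvd_card J (by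
    rwa [← invBar_eq_card hF])
  exact ⟨i, hi, hi2, hif, fun x hx =>
    (show Commute x i from
      mul_inv_eq_iff_eq_mul.mp (congrArg Subtype.val (hfx ⟨x, hx⟩))).symm⟩

/-- THEOREM V: a normal abelian `q`-subgroup of the pair stabiliser normalised by a swapper is
inverted by it. -/
theorem inverted_of_normal_abelian (hS : SE S C) (hF : Faithful S C) (hG : Good S C) {a b : Ω}
    (ha : a ∈ C) (hb : b ∈ C) (hab : a ≠ b) {w : G} (hw : w ∈ S) (hw2 : orderOf w = 2)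
    (hwa : w • a = b) (hshare : ShareAt S a b)
    (hfaith : pair S a b ⊓ centralizer (invGen S a : Set G) = ⊥) {q : ℕ} [Fact q.Prime]
    {A : Subgroup G} (hA : A ≤ pair S a b) (hAq : IsPGroup q A) (hAc : IsMulCommutative A)
    (hAn : pair S a b ≤ normalizer (A : Set G)) (hAw : w ∈ normalizer (A : Set G)) :
    ∀ x ∈ A, w * x * w⁻¹ = x⁻¹ := by
  have hc : ∀ x ∈ A, ∀ y ∈ A, x * y = y * x := fun x hx y hy =>
    congrArg Subtype.val (hAc.is_comm.comm (⟨x, hx⟩ : A) ⟨y, hy⟩)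
  have hwm : ∀ x ∈ A, w * x * w⁻¹ ∈ A := fun x hx => (Subgroup.mem_normalizer_iff.mp hAw x).mp hx
  have hww : ∀ x : G, w * (w * x * w⁻¹) * w⁻¹ = x := fun x => by
    rw [inv_eq_of_orderOf_eq_two hw2, show w * (w * x * w) * w = w * w * x * (w * w) by group,
      mul_self_of_orderOf_eq_two hw2, one_mul, mul_one]
  set P : Subgroup G := A ⊓ centralizer ({w} : Set G) with hP
  suffices hPbot : P = ⊥ by
    intro x hx
    have hmem : x * (w * x * w⁻¹) ∈ P := by
      refine ⟨mul_mem hx (hwm x hx), mem_centralizer_singleton_iff.mpr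
        (mul_inv_eq_iff_eq_mul.mp ?_).symm⟩
      calc w * (x * (w * x * w⁻¹)) * w⁻¹ = w * x * w⁻¹ * (w * (w * x * w⁻¹) * w⁻¹) := by group
        _ = x * (w * x * w⁻¹) := by rw [hww]; exact hc _ (hwm x hx) _ hx
    rw [hPbot, mem_bot] at hmem
    exact eq_inv_of_mul_eq_one_right hmem
  by_contra hP0
  -- `P` fixes a third point, so centralises an involution at `a`
  obtain ⟨c, hcC, hwc⟩ := hS.exists_fix hw hw2
  have hca : c ≠ a := fun h => hab (by rw [h] at hwc; rw [← hwa, hwc])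
  have hcb : c ≠ b := fun h => hab (by
    rw [h] at hwc
    rw [← swap_symm hw2 hwa, hwc])
  have hPS : P ≤ S := fun x hx => (mem_pair.mp (hA hx.1)).1
  obtain ⟨t₀, ht₀, ht₀2, ht₀a, ht₀P⟩ := exists_inv_of_three hS hF hG P hPS
    (hAq.to_le inf_le_left)
    ⟨a, ⟨ha, fun x hx => (mem_pair.mp (hA hx.1)).2.1⟩, b,
      ⟨hb, fun x hx => (mem_pair.mp (hA hx.1)).2.2⟩, c,
      ⟨hcC, fun x hx => hS.fix_of_commute (hPS hx) hw hw2
        (mem_centralizer_singleton_iff.mp hx.2) hcC hwc⟩, hab, hca, hcb⟩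
    (f := a) ⟨ha, fun x hx => (mem_pair.mp (hA hx.1)).2.1⟩
  let Inv : G → Prop := fun s => s ∈ S ∧ orderOf s = 2 ∧ s • a = a
  have hconjI : ∀ g ∈ S, g • a = a → ∀ s, Inv s → Inv (g * s * g⁻¹) := by
    rintro g hg hga s ⟨h1, h2, h3⟩
    refine ⟨conj_mem_of_mem hg h1, by rw [orderOf_conj, h2], ?_⟩
    have h := conj_smul_of_smul (g := g) h3
    rwa [hga] at h
  have hmulI : ∀ s r, Inv s → Inv r → Commute s r → s * r ≠ 1 → Inv (s * r) := by
    rintro s r ⟨h1, h2, h3⟩ ⟨h1', h2', h3'⟩ hsr hne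
    refine ⟨mul_mem h1 h1', orderOf_eq_two_of_mul_self ?_ hne, by rw [mul_smul, h3', h3]⟩
    rw [hsr.symm.mul_mul_mul_comm s r, mul_self_of_orderOf_eq_two h2,
      mul_self_of_orderOf_eq_two h2', one_mul]
  let Ac : G → Subgroup G := fun s => A ⊓ centralizer ({s} : Set G)
  have hAc_mem : ∀ s x, x ∈ Ac s ↔ x ∈ A ∧ Commute x s := fun s x => by
    rw [Subgroup.mem_inf, mem_centralizer_singleton_iff]
    rfl
  have hAct₀ : Ac t₀ = P := by
    refine le_antisymm (fun x hx => ?_) fun x hx => (hAc_mem _ _).mpr ⟨hx.1, (ht₀P x hx).symm⟩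
    obtain ⟨hxA, hxt⟩ := (hAc_mem _ _).mp hx
    refine ⟨hxA, mem_centralizer_singleton_iff.mpr ?_⟩
    have hy : Commute (x * (w * x * w⁻¹)) t₀ := (ht₀P _ ⟨mul_mem hxA (hwm x hxA),
      mem_centralizer_singleton_iff.mpr (mul_inv_eq_iff_eq_mul.mp (by
        calc w * (x * (w * x * w⁻¹)) * w⁻¹ = w * x * w⁻¹ * (w * (w * x * w⁻¹) * w⁻¹) := by group
          _ = x * (w * x * w⁻¹) := by rw [hww]; exact hc _ (hwm x hxA) _ hxA)).symm⟩).symm
    have hsig : Commute (w * x * w⁻¹) t₀ := by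
      have h := hxt.inv_left.mul_left hy
      rwa [inv_mul_cancel_left] at h
    have hz : x * (w * x * w⁻¹)⁻¹ = 1 := by
      refine eq_one_of_inverted_of_commute hS ha hb hab hw hw2 hwa
        (hA (mul_mem hxA (inv_mem (hwm x hxA)))) ?_ ht₀ ht₀2 ht₀a (hxt.mul_left hsig.inv_left)
      calc w * (x * (w * x * w⁻¹)⁻¹) * w⁻¹ = w * x * w⁻¹ * (w * (w * x * w⁻¹) * w⁻¹)⁻¹ := by group
        _ = (x * (w * x * w⁻¹)⁻¹)⁻¹ := by rw [hww]; group
    exact (mul_inv_eq_iff_eq_mul.mp (mul_inv_eq_one.mp hz).symm).symm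
  have hcardAc : ∀ s, Inv s → Nat.card (Ac s) = Nat.card P := by
    intro s hs
    obtain ⟨d, hd, hds⟩ := hS.fix_conj ha hb hab ht₀ hs.1 ht₀2 hs.2.1 ht₀a hs.2.2
    have hAd : ∀ x, x ∈ A ↔ d * x * d⁻¹ ∈ A := fun x => Subgroup.mem_normalizer_iff.mp (hAn hd) x
    rw [← hAct₀]
    refine (Nat.card_congr
      { toFun := fun (x : Ac t₀) => (⟨d * (x : G) * d⁻¹, (hAc_mem _ _).mpr ⟨(hAd x).mp ((hAc_mem _ _).mp x.2).1, ?_⟩⟩ : Ac s)
        invFun := fun (x : Ac s) => (⟨d⁻¹ * (x : G) * d, (hAc_mem _ _).mpr ⟨(hAd _).mpr ?_, ?_⟩⟩ : Ac t₀)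
        left_inv := fun x => Subtype.ext (show d⁻¹ * (d * x * d⁻¹) * d = x by group)
        right_inv := fun x => Subtype.ext (show d * (d⁻¹ * x * d) * d⁻¹ = x by group) }).symm
    · rw [← hds]
      show d * x * d⁻¹ * (d * t₀ * d⁻¹) = d * t₀ * d⁻¹ * (d * x * d⁻¹)
      calc d * x * d⁻¹ * (d * t₀ * d⁻¹) = d * ((x : G) * t₀) * d⁻¹ := by group
        _ = _ := by rw [((hAc_mem _ _).mp x.2).2.eq]; group
    · rw [show d * (d⁻¹ * x * d) * d⁻¹ = x by group]
      exact ((hAc_mem _ _).mp x.2).1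
    · show d⁻¹ * x * d * t₀ = t₀ * (d⁻¹ * x * d)
      calc d⁻¹ * x * d * t₀ = d⁻¹ * ((x : G) * (d * t₀ * d⁻¹)) * d := by group
        _ = d⁻¹ * (d * t₀ * d⁻¹ * x) * d := by rw [hds, ((hAc_mem _ _).mp x.2).2.eq]
        _ = _ := by group
  have hle_eq : ∀ s r, Inv s → Inv r → Ac s ≤ Ac r → Ac s = Ac r := fun s r hs hr h =>
    Subgroup.eq_of_le_of_card_ge h (by rw [hcardAc s hs, hcardAc r hr])
  -- the classes of involutions with a common centraliser in `A` are the commuting classes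
  have hclass : ∀ s r, Inv s → Inv r → Ac s = Ac r → Commute s r := by
    intro s r hs hr he
    obtain ⟨e, he1, he2⟩ : ∃ e ∈ Ac s, e ≠ 1 := by
      refine (Ac s).bot_or_exists_ne_one.resolve_left fun h => hP0 ?_
      rw [← Subgroup.card_eq_one, ← hcardAc s hs, h, Subgroup.card_bot]
    exact hshare e (hA ((hAc_mem _ _).mp he1).1) he2 s hs.1 hs.2.1 hs.2.2
      ((hAc_mem _ _).mp he1).2 r hr.1 hr.2.1 hr.2.2 ((hAc_mem _ _).mp (he ▸ he1)).2
  have hAcv : ∀ v ∈ A, ∀ s, Inv s → Ac (v * s * v⁻¹) = Ac s := by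
    intro v hv s hs
    have hvI := hconjI v (mem_pair.mp (hA hv)).1 (mem_pair.mp (hA hv)).2.1 s hs
    refine (hle_eq s _ hs hvI fun x hx => ?_).symm
    obtain ⟨hxA, hxs⟩ := (hAc_mem _ _).mp hx
    have hxv : Commute x v := hc x hxA v hv
    exact (hAc_mem _ _).mpr ⟨hxA, (hxv.mul_right hxs).mul_right hxv.inv_right⟩
  have hcomm : ∀ s r, Inv s → Inv r → Commute s r → Ac s = Ac r := by
    intro s r hs hr hsr
    rcases eq_or_ne s r with rfl | hne
    · rfl
    have hne1 : s * r ≠ 1 := fun h => hne (by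
      rw [← inv_eq_of_orderOf_eq_two hr.2.1]
      exact eq_inv_of_mul_eq_one_left h)
    have hx := hmulI s r hs hr hsr hne1
    by_cases hall : ∀ v ∈ Ac (s * r), Commute v s
    · have hs' : Ac (s * r) = Ac s := hle_eq _ _ hx hs fun v hv =>
        (hAc_mem _ _).mpr ⟨((hAc_mem _ _).mp hv).1, hall v hv⟩
      refine (hle_eq s r hs hr fun v hv => ?_)
      obtain ⟨hvA, hvs⟩ := (hAc_mem _ _).mp hv
      have h := hvs.mul_right ((hAc_mem _ _).mp (hs'.symm ▸ hv)).2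
      rw [← mul_assoc, mul_self_of_orderOf_eq_two hs.2.1, one_mul] at h
      exact (hAc_mem _ _).mpr ⟨hvA, h⟩
    · push Not at hall
      obtain ⟨v, hv, hvs⟩ := hall
      obtain ⟨hvA, hvx⟩ := (hAc_mem _ _).mp hv
      obtain ⟨hvS, hva, -⟩ := mem_pair.mp (hA hvA)
      have hsv := hconjI v hvS hva s hs
      have hrv := hconjI v hvS hva r hr
      have e1 : v * s * v⁻¹ * (v * r * v⁻¹) = s * r := by
        calc v * s * v⁻¹ * (v * r * v⁻¹) = v * (s * r) * v⁻¹ := by group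
          _ = s * r := by rw [hvx.eq, mul_inv_cancel_right]
      have e2 : s * (v * s * v⁻¹) = r * (v * r * v⁻¹) := by
        rw [eq_mul_inv_of_mul_eq e1, inv_eq_of_orderOf_eq_two hrv.2.1]
        simp only [← mul_assoc, mul_self_of_orderOf_eq_two hs.2.1, one_mul]
      have hy1 : s * (v * s * v⁻¹) ≠ 1 := fun h => hvs <| mul_inv_eq_iff_eq_mul.mp <| by
        rw [eq_inv_of_mul_eq_one_right h, inv_eq_of_orderOf_eq_two hs.2.1]
      have hyI := hmulI _ _ hs hsv (hclass _ _ hs hsv (hAcv v hvA s hs).symm) hy1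
      have h1 : Ac s = Ac (s * (v * s * v⁻¹)) := hle_eq _ _ hs hyI fun x hx' =>
        (hAc_mem _ _).mpr ⟨((hAc_mem _ _).mp hx').1, ((hAc_mem _ _).mp hx').2.mul_right
          ((hAc_mem _ _).mp ((hAcv v hvA s hs).symm ▸ hx')).2⟩
      have h2 : Ac r = Ac (s * (v * s * v⁻¹)) := hle_eq _ _ hr hyI fun x hx' => by
        rw [e2]
        exact (hAc_mem _ _).mpr ⟨((hAc_mem _ _).mp hx').1, ((hAc_mem _ _).mp hx').2.mul_right
          ((hAc_mem _ _).mp ((hAcv v hvA r hr).symm ▸ hx')).2⟩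
      exact h1.trans h2.symm
  have htrans : ∀ x y z, Inv x → Inv y → Inv z → Commute x y → Commute y z → Commute x z :=
    fun x y z hx hy hz h h' => hclass x z hx hz ((hcomm x y hx hy h).trans (hcomm y z hy hz h'))
  have hcj : ∀ g x y : G, Commute x y → Commute (g * x * g⁻¹) (g * y * g⁻¹) := fun g x y h => by
    show g * x * g⁻¹ * (g * y * g⁻¹) = g * y * g⁻¹ * (g * x * g⁻¹)
    calc g * x * g⁻¹ * (g * y * g⁻¹) = g * (x * y) * g⁻¹ := by group
      _ = _ := by rw [h.eq]; group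
  -- an involution at `a` fixing every class
  obtain ⟨y, hy, hy1⟩ := P.bot_or_exists_ne_one.resolve_left hP0
  obtain ⟨hyS, hya, -⟩ := mem_pair.mp (hA hy.1)
  obtain ⟨s₁, hs₁, hys⟩ : ∃ s, Inv s ∧ ¬ Commute y s := by
    by_contra! h
    refine hy1 ((Subgroup.mem_bot).mp (hfaith ▸ ⟨hA hy.1, ?_⟩))
    have hle : invGen S a ≤ centralizer ({y} : Set G) := (Subgroup.closure_le _).mpr fun t ht =>
      mem_centralizer_singleton_iff.mpr (h t ht).eq.symm
    exact mem_centralizer_iff.mpr fun g hg => mem_centralizer_singleton_iff.mp (hle hg)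
  have hys1 := hconjI y hyS hya s₁ hs₁
  have hne1 : y * s₁ * y⁻¹ * s₁ ≠ 1 := fun h => hys <| mul_inv_eq_iff_eq_mul.mp <| by
    rw [eq_inv_of_mul_eq_one_left h, inv_eq_of_orderOf_eq_two hs₁.2.1]
  set u := y * s₁ * y⁻¹ * s₁ with hu
  have huI : Inv u := hmulI _ _ hys1 hs₁ (hclass _ _ hys1 hs₁ (hAcv y hy.1 s₁ hs₁)) hne1
  have hufix : ∀ r, Inv r → Commute (u * r * u⁻¹) r := by
    intro r hr
    have hk : ∀ v ∈ A, ∀ x, Inv x → Commute (v * x * v⁻¹) x := fun v hv x hx =>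
      hclass _ _ (hconjI v (mem_pair.mp (hA hv)).1 (mem_pair.mp (hA hv)).2.1 x hx) hx
        (hAcv v hv x hx)
    have h1 := hconjI s₁ hs₁.1 hs₁.2.2 r hr
    have hyi : y⁻¹ • a = a := inv_smul_eq_iff.mpr hya.symm
    have h2 := hconjI y⁻¹ (inv_mem hyS) hyi _ h1
    have h3 := hconjI s₁ hs₁.1 hs₁.2.2 _ h2
    have h4 := hconjI y hyS hya _ h3
    have e : u * r * u⁻¹ = y * (s₁ * (y⁻¹ * (s₁ * r * s₁⁻¹) * y⁻¹⁻¹) * s₁⁻¹) * y⁻¹ := by
      rw [hu]; group
    rw [e]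
    refine htrans _ _ _ h4 h3 hr (hk y hy.1 _ h3) ?_
    have h5 := hcj s₁ _ _ (hk y⁻¹ (inv_mem hy.1) _ h1)
    rwa [show s₁ * (s₁ * r * s₁⁻¹) * s₁⁻¹ = r by
      rw [inv_eq_of_orderOf_eq_two hs₁.2.1,
        show s₁ * (s₁ * r * s₁) * s₁ = s₁ * s₁ * r * (s₁ * s₁) by group,
        mul_self_of_orderOf_eq_two hs₁.2.1, one_mul, mul_one]] at h5
  have hallfix : ∀ s r, Inv s → Inv r → Commute (s * r * s⁻¹) r := by
    intro s r hs hr
    obtain ⟨d, hd, hds⟩ := hS.fix_conj ha hb hab huI.1 hs.1 huI.2.1 hs.2.1 huI.2.2 hs.2.2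
    obtain ⟨hdS, hda, -⟩ := mem_pair.mp hd
    have h := hcj d _ _ (hufix _ (hconjI d⁻¹ (inv_mem hdS) (inv_smul_eq_iff.mpr hda.symm) r hr))
    rw [← hds]
    convert h using 1 <;> group
  have hallcomm : ∀ s r, Inv s → Inv r → Commute s r := by
    intro s r hs hr
    have hrs := hconjI r hr.1 hr.2.2 s hs
    have hsr := hconjI s hs.1 hs.2.2 r hr
    have e : s * r * s⁻¹ * r = s * (r * s * r⁻¹) := by
      rw [inv_eq_of_orderOf_eq_two hs.2.1, inv_eq_of_orderOf_eq_two hr.2.1]; group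
    by_cases h1 : s * r * s⁻¹ * r = 1
    · exact mul_inv_eq_iff_eq_mul.mp
        (by rw [eq_inv_of_mul_eq_one_left h1, inv_eq_of_orderOf_eq_two hr.2.1])
    have hyI := hmulI _ _ hsr hr (hallfix s r hs hr) h1
    have hc1 : Commute (s * r * s⁻¹ * r) r := (hallfix s r hs hr).mul_left (Commute.refl r)
    have hc2 : Commute s (s * r * s⁻¹ * r) := by
      rw [e]
      exact (Commute.refl s).mul_right (hallfix r s hr hs).symm
    exact htrans _ _ _ hs hyI hr hc2 hc1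
  refine hy1 ((Subgroup.mem_bot).mp (hfaith ▸ ⟨hA hy.1, ?_⟩))
  have hle : invGen S a ≤ centralizer ({y} : Set G) := (Subgroup.closure_le _).mpr fun t ht => by
    have h := hcomm t₀ t ⟨ht₀, ht₀2, ht₀a⟩ ht (hallcomm _ _ ⟨ht₀, ht₀2, ht₀a⟩ ht)
    rw [hAct₀] at h
    exact mem_centralizer_singleton_iff.mpr ((hAc_mem _ _).mp (h ▸ hy)).2.eq.symm
  exact mem_centralizer_iff.mpr fun g hg => mem_centralizer_singleton_iff.mp (hle hg)

end Cfsg.Agent.H53.SE
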