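import Cfsg.Agent.H53.SE.InvHeis
import Cfsg.Agent.H61.RankOne
import Cfsg.Agent.H73.Bender.EndCore
import Cfsg.Agent.S0841

/-!
Structure of the pair stabiliser without commutativity of the involutions at the point: when some
`p`-element of the pair stabiliser centralises a single involution at `a`, the inverted elements form
an abelian normal subgroup regular on these involutions.
-/

set_option autoImplicit false
set_option linter.style.haveILetI false
set_option maxHeartbeats 800000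

namespace Cfsg.Agent.H53.SE

open Subgroup MulAction
open Cfsg.Agent.H39
open Cfsg.Agent.H73.Bender
open Cfsg.Agent.Cores.SE
open scoped commutatorElement

universe u v

variable {G : Type u} [Group G]

/-- Powers in a subgroup of class two and odd exponent. -/
theorem mul_pow_eq_one_of_classTwo {N : Subgroup G}
    (hcl : ∀ x ∈ N, ∀ x' ∈ N, ∀ z ∈ N, Commute ⁅x, x'⁆ z) {n : ℕ} (hn : Odd n) {x y : G}
    (hx : x ∈ N) (hy : y ∈ N) (hxn : x ^ n = 1) (hyn : y ^ n = 1) : (x * y) ^ n = 1 := by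
  have hc : commutator N ≤ Subgroup.center N := by
    rw [_root_.commutator_def, Subgroup.commutator_le]
    exact fun p _ r _ => Subgroup.mem_center_iff.mpr fun z =>
      Subtype.ext (hcl p p.2 r r.2 z z.2).eq.symm
  have h := congrArg Subtype.val (Cfsg.Agent.S0841.result hc ⟨x, hx⟩ ⟨y, hy⟩ n)
  push_cast at h
  rw [h, hxn, hyn, one_mul, one_mul]
  have e : y⁻¹ * x⁻¹ * y * x = ⁅y⁻¹, x⁻¹⁆ := by rw [commutatorElement_def, inv_inv, inv_inv]
  have hcm : ∀ z ∈ N, Commute ⁅y⁻¹, x⁻¹⁆ z := hcl _ (inv_mem hy) _ (inv_mem hx)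
  have hpow : ∀ k : ℕ, ⁅(y⁻¹) ^ k, x⁻¹⁆ = ⁅y⁻¹, x⁻¹⁆ ^ k := fun k => by
    induction k with
    | zero => simp
    | succ k ih =>
      rw [pow_succ (y⁻¹), commutatorElement_mul_left (hcm _ (pow_mem (inv_mem hy) _))
        (hcm _ (inv_mem hx)), ih, pow_succ]
  have h1 : ⁅y⁻¹, x⁻¹⁆ ^ n = 1 := by
    rw [← hpow, inv_pow, hyn, inv_one, commutatorElement_one_left]
  obtain ⟨k, hk⟩ := hn
  rw [e, show n * (n - 1) / 2 = n * k by
    rw [show n - 1 = 2 * k by omega, ← mul_assoc, mul_comm n 2, mul_assoc, Nat.mul_div_cancel_left _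
      (by norm_num)], pow_mul, h1, one_pow]

variable [Finite G] {Ω : Type v} [MulAction G Ω] [Finite Ω] {S : Subgroup G} {C : Set Ω}

/-- The structure theorem in the presence of a `p`-element centralising a single involution at
`a`. -/
theorem invertedRegular_of_bad (hS : SE S C) (hF : Faithful S C) (hG : Good S C) {a b : Ω}
    (ha : a ∈ C) (hb : b ∈ C) (hab : a ≠ b) {w : G} (hw : w ∈ S) (hw2 : orderOf w = 2)
    (hwa : w • a = b) (hshare : ShareAt S a b)
    (hfaith : pair S a b ⊓ centralizer (invGen S a : Set G) = ⊥)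
    {p : ℕ} [Fact p.Prime] {y t : G} (hy : y ∈ pair S a b) (hyp : IsPGroup p (zpowers y))
    (ht : t ∈ S) (ht2 : orderOf t = 2) (hta : t • a = a) (hyt : Commute y t)
    (huniq : ∀ s ∈ S, orderOf s = 2 → s • a = a → Commute y s → s = t) :
    InvertedRegular S C a b w := by
  classical
  by_contra hno
  set D : Subgroup G := pair S a b with hD
  have hwi : w⁻¹ = w := inv_eq_of_orderOf_eq_two hw2
  have hwD : ∀ x, x ∈ D ↔ w * x * w⁻¹ ∈ D := fun x => ⟨conj_swap_mem_pair hw hw2 hwa, fun h => by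
    have h' := conj_swap_mem_pair hw hw2 hwa h
    rwa [hwi, show w * (w * x * w) * w = w * w * x * (w * w) by group,
      mul_self_of_orderOf_eq_two hw2, one_mul, mul_one] at h'⟩
  -- a maximal inverted normal subgroup
  obtain ⟨A, ⟨hAD, hAn, hAi⟩, hmax⟩ := Set.Finite.exists_maximalFor id
    {A : Subgroup G | A ≤ D ∧ D ≤ normalizer (A : Set G) ∧ ∀ x ∈ A, w * x * w⁻¹ = x⁻¹}
    (Set.toFinite _) ⟨⊥, bot_le, fun d _ => by
      refine Subgroup.mem_normalizer_iff.mpr fun x => ?_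
      simp [conj_eq_one_iff], fun x hx => by rw [mem_bot.mp hx]; simp⟩
  have hAc : ∀ x ∈ A, ∀ x' ∈ A, x * x' = x' * x := fun x hx x' hx' => by
    have h := hAi _ (mul_mem hx hx')
    rw [show w * (x * x') * w⁻¹ = w * x * w⁻¹ * (w * x' * w⁻¹) by group, hAi x hx, hAi x' hx',
      ← _root_.mul_inv_rev, inv_inj] at h
    exact h.symm
  set K : Subgroup G := D ⊓ centralizer (A : Set G) with hK
  obtain ⟨f, hfK, hfA⟩ : ∃ f ∈ K, f ∉ A := by
    by_contra! hall
    refine hno (exists_inverted_of_free hS hF ha hb hab hw hw2 hwa hAn hAi fun f hf hfw hfc => ?_)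
    have hfA := hall f ⟨hf, mem_centralizer_iff.mpr hfc⟩
    have h := hAi f hfA
    rw [← hfw.eq, mul_inv_cancel_right] at h
    by_contra hne
    obtain ⟨hfS, hfa, hfb⟩ := mem_pair.mp hf
    exact hab (hS.fix_unique hfS (orderOf_eq_two_of_mul_self (mul_eq_one_iff_eq_inv.mpr h) hne)
      ha hb hfa hfb)
  have hnormK : ∀ g : G, (∀ x, x ∈ D ↔ g * x * g⁻¹ ∈ D) → (∀ x, x ∈ A ↔ g * x * g⁻¹ ∈ A) →
      g ∈ normalizer (K : Set G) := by
    intro g hgD hgA
    refine Subgroup.mem_normalizer_iff.mpr fun x => ⟨?_, ?_⟩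
    · rintro ⟨hxD, hxA⟩
      refine ⟨(hgD x).mp hxD, mem_centralizer_iff.mpr fun z hz => ?_⟩
      have h := mem_centralizer_iff.mp hxA _
        ((hgA (g⁻¹ * z * g)).mpr (by rwa [show g * (g⁻¹ * z * g) * g⁻¹ = z by group]))
      calc z * (g * x * g⁻¹) = g * (g⁻¹ * z * g * x) * g⁻¹ := by group
        _ = _ := by rw [h]; group
    · rintro ⟨hxD, hxA⟩
      refine ⟨(hgD x).mpr hxD, mem_centralizer_iff.mpr fun z hz => ?_⟩
      have h := mem_centralizer_iff.mp hxA _ ((hgA z).mp hz)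
      calc z * x = g⁻¹ * (g * z * g⁻¹ * (g * x * g⁻¹)) * g := by group
        _ = _ := by rw [h]; group
  have hwA : ∀ x, x ∈ A ↔ w * x * w⁻¹ ∈ A := fun x => ⟨fun h => hAi x h ▸ inv_mem h, fun h => by
    have e := hAi _ h
    rw [show w * (w * x * w⁻¹) * w⁻¹ = w * w * x * (w * w)⁻¹ by group,
      mul_self_of_orderOf_eq_two hw2, one_mul, inv_one, mul_one] at e
    exact e.symm ▸ inv_mem h⟩
  have hDK : D ≤ normalizer (K : Set G) := fun g hg => hnormK g
    (fun x => Subgroup.mem_normalizer_iff.mp (Subgroup.le_normalizer hg) x)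
    (fun x => Subgroup.mem_normalizer_iff.mp (hAn hg) x)
  have hwK : w ∈ normalizer (K : Set G) := hnormK w hwD hwA
  -- a class two normal subgroup outside `A`
  have hsolv : Group.IsSolvable K := Cfsg.Agent.S0205.result
    ((hS.odd_pair ha hb hab).of_dvd_nat (card_dvd_of_le inf_le_left))
  obtain ⟨i, hi, hi'⟩ : ∃ i, ¬ (derivedSeries K i).map K.subtype ≤ A ∧
      (derivedSeries K (i + 1)).map K.subtype ≤ A := by
    obtain ⟨m, hm⟩ := hsolv.solvable
    by_contra! hall
    have : ∀ k, ¬ (derivedSeries K k).map K.subtype ≤ A := fun k => by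
      induction k with
      | zero =>
        rw [derivedSeries_zero, ← MonoidHom.range_eq_map, K.range_subtype]
        exact fun h => hfA (h hfK)
      | succ k ih => exact hall k ih
    exact this m (by rw [hm, Subgroup.map_bot]; exact bot_le)
  set N : Subgroup G := (derivedSeries K i).map K.subtype with hN
  have hNK : N ≤ K := map_subtype_le _
  have hDN : D ≤ normalizer (N : Set G) :=
    hDK.trans (normalizer_le_normalizer_map_derivedSeries K i)
  have hwN : w ∈ normalizer (N : Set G) := normalizer_le_normalizer_map_derivedSeries K i hwK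
  have hcl : ∀ x ∈ N, ∀ x' ∈ N, ∀ z ∈ N, Commute ⁅x, x'⁆ z := by
    intro x hx x' hx' z hz
    have hmem : ⁅x, x'⁆ ∈ A := hi' (by
      rw [derivedSeries_succ, map_commutator]
      exact commutator_mem_commutator hx hx')
    exact mem_centralizer_iff.mp (hNK hz).2 _ hmem
  -- an element of prime power order in `N` outside `A`
  obtain ⟨q, hq, x₁, hx₁, hx₁A, k₁, hk₁⟩ : ∃ q : ℕ, q.Prime ∧ ∃ x ∈ N, x ∉ A ∧
      ∃ k, orderOf x = q ^ k := by
    by_contra! hall
    refine hi fun x hx => ?_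
    induction hn : orderOf x using Nat.strong_induction_on generalizing x with
    | _ n ih =>
    subst hn
    by_contra hxA
    have hx1 : orderOf x ≠ 1 := fun h => hxA (orderOf_eq_one_iff.mp h ▸ one_mem A)
    set q := (orderOf x).minFac with hqdef
    have hq : q.Prime := Nat.minFac_prime hx1
    obtain ⟨e, r, hr, hnr⟩ := Nat.exists_eq_pow_mul_and_not_dvd (orderOf_pos x).ne' q hq.ne_one
    have he : e ≠ 0 := fun h => hr (by
      rw [h, pow_zero, one_mul] at hnr
      exact hnr ▸ Nat.minFac_dvd _)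
    have hr1 : r ≠ 1 := fun h => hall q hq x hx hxA e (by rw [hnr, h, mul_one])
    have hr0 : r ≠ 0 := fun h => hr (h ▸ dvd_zero q)
    have hqe : 1 < q ^ e := Nat.one_lt_pow he hq.one_lt
    have h1 : x ^ (q ^ e) ∈ A := ih _ (by
      rw [orderOf_pow_of_dvd (by positivity) ⟨r, hnr⟩]
      exact Nat.div_lt_self (orderOf_pos x) hqe) _ (pow_mem hx _) rfl
    have h2 : x ^ r ∈ A := ih _ (by
      rw [orderOf_pow_of_dvd hr0 ⟨q ^ e, by rw [hnr, mul_comm]⟩]
      exact Nat.div_lt_self (orderOf_pos x) (by omega)) _ (pow_mem hx _) rfl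
    have hcop : IsCoprime ((q ^ e : ℕ) : ℤ) (r : ℤ) := Int.isCoprime_iff_nat_coprime.mpr
      (by simpa using Nat.Coprime.pow_left e (hq.coprime_iff_not_dvd.mpr hr))
    obtain ⟨u, v, huv⟩ := hcop
    refine hxA ?_
    rw [← zpow_one x, ← huv, zpow_add, mul_comm u, mul_comm v, zpow_mul, zpow_mul, zpow_natCast,
      zpow_natCast]
    exact mul_mem (zpow_mem h1 _) (zpow_mem h2 _)
  haveI := Fact.mk hq
  have hqodd : Odd q := by
    have hk0 : k₁ ≠ 0 := fun h =>
      hx₁A (orderOf_eq_one_iff.mp (by rw [hk₁, h, pow_zero]) ▸ one_mem A)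
    exact (hS.odd_pair ha hb hab).of_dvd_nat ((dvd_pow_self q hk0).trans
      (hk₁ ▸ Subgroup.orderOf_dvd_natCard _ (hNK hx₁).1))
  -- the `q`-elements of `N`
  let n₀ : ℕ := q ^ Nat.card G
  let Q₀ : Subgroup G :=
    { carrier := {x | x ∈ N ∧ x ^ n₀ = 1}
      one_mem' := ⟨one_mem N, one_pow _⟩
      mul_mem' := fun {x x'} hx hx' => ⟨N.mul_mem hx.1 hx'.1,
        mul_pow_eq_one_of_classTwo hcl hqodd.pow hx.1 hx'.1 hx.2 hx'.2⟩
      inv_mem' := fun {x} hx => ⟨N.inv_mem hx.1, by rw [inv_pow, hx.2, inv_one]⟩ }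
  have hQ₀N : Q₀ ≤ N := fun x hx => hx.1
  have hQ₀D : Q₀ ≤ D := fun x hx => (hNK hx.1).1
  have hnorm₀ : ∀ g ∈ normalizer (N : Set G), g ∈ normalizer (Q₀ : Set G) := fun g hg =>
    Subgroup.mem_normalizer_iff.mpr fun x => by
      show x ∈ N ∧ x ^ n₀ = 1 ↔ g * x * g⁻¹ ∈ N ∧ (g * x * g⁻¹) ^ n₀ = 1
      rw [← Subgroup.mem_normalizer_iff.mp hg x, conj_pow, conj_eq_one_iff]
  have hx₁Q : x₁ ∈ Q₀ := ⟨hx₁, orderOf_dvd_iff_pow_eq_one.mp (by
    rw [hk₁]
    refine pow_dvd_pow q ?_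
    have h := Nat.le_of_dvd Nat.card_pos (hk₁ ▸ orderOf_dvd_natCard x₁)
    exact (Nat.lt_pow_self hq.one_lt).le.trans h)⟩
  have hQ₀q : IsPGroup q Q₀ := fun x =>
    ⟨Nat.card G, Subtype.ext (by rw [SubgroupClass.coe_pow]; exact x.2.2)⟩
  have hcomm_not : ¬ IsMulCommutative Q₀ := by
    intro hc
    have hi₀ := inverted_of_normal_abelian hS hF hG ha hb hab hw hw2 hwa hshare hfaith hQ₀D hQ₀q hc
      (fun g hg => hnorm₀ g (hDN hg)) (hnorm₀ w hwN)
    have hbig : A ⊔ Q₀ ≤ A := by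
      refine hmax (j := A ⊔ Q₀) ⟨sup_le hAD hQ₀D, fun g hg => ?_, fun x hx => ?_⟩ le_sup_left
      · refine Coprime.mem_normalizer_of_map_conj ?_
        rw [Subgroup.map_sup, Coprime.map_conj_eq (hAn hg),
          Coprime.map_conj_eq (hnorm₀ g (hDN hg))]
      · rw [← SetLike.mem_coe, coe_mul_of_right_le_normalizer_left A Q₀
          (hQ₀D.trans hAn)] at hx
        obtain ⟨z, hz, z', hz', rfl⟩ := hx
        show w * (z * z') * w⁻¹ = (z * z')⁻¹
        rw [show w * (z * z') * w⁻¹ = w * z * w⁻¹ * (w * z' * w⁻¹) by group, hAi z hz, hi₀ z' hz',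
          ← _root_.mul_inv_rev, (show z' * z = z * z' from
            (mem_centralizer_iff.mp (hNK (hQ₀N hz')).2 z hz).symm)]
    exact hx₁A (hbig (mem_sup_right hx₁Q))
  -- the elements of order `q`
  let Q : Subgroup G :=
    { carrier := {x | x ∈ N ∧ x ^ q = 1}
      one_mem' := ⟨one_mem N, one_pow _⟩
      mul_mem' := fun {x x'} hx hx' => ⟨N.mul_mem hx.1 hx'.1,
        mul_pow_eq_one_of_classTwo hcl hqodd hx.1 hx'.1 hx.2 hx'.2⟩
      inv_mem' := fun {x} hx => ⟨N.inv_mem hx.1, by rw [inv_pow, hx.2, inv_one]⟩ }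
  have hQD : Q ≤ D := fun x hx => (hNK hx.1).1
  have hnorm : ∀ g ∈ normalizer (N : Set G), g ∈ normalizer (Q : Set G) := fun g hg =>
    Subgroup.mem_normalizer_iff.mpr fun x => by
      show x ∈ N ∧ x ^ q = 1 ↔ g * x * g⁻¹ ∈ N ∧ (g * x * g⁻¹) ^ q = 1
      rw [← Subgroup.mem_normalizer_iff.mp hg x, conj_pow, conj_eq_one_iff]
  have hQq : IsPGroup q Q := fun x =>
    ⟨1, Subtype.ext (by rw [SubgroupClass.coe_pow, pow_one]; exact x.2.2)⟩
  by_cases hQc : IsMulCommutative Q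
  · have hQi := inverted_of_normal_abelian hS hF hG ha hb hab hw hw2 hwa hshare hfaith hQD hQq hQc
      (fun g hg => hnorm g (hDN hg)) (hnorm w hwN)
    -- then `Q` is cyclic, and so is `Q₀`
    refine hcomm_not ?_
    have hcyc : IsCyclic Q₀ := by
      refine H61.isCyclic_of_card_pow_eq_one_le (fun h => ?_) hQ₀q ?_
      · rw [h] at hqodd; exact absurd hqodd (by decide)
      have hQ1 : ∃ g ∈ Q, ∀ x ∈ Q, x ∈ zpowers g := by
        rcases Q.bot_or_exists_ne_one with h | ⟨g, hg, hg1⟩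
        · exact ⟨1, one_mem _, fun x hx => by rw [h, mem_bot] at hx; rw [hx]; exact one_mem _⟩
        exact ⟨g, hg, fun x hx => by_contra fun hnot => hno (exists_inverted_of_noncyclic hS hF hG
          ha hb hab hw hw2 hwa hshare hQD (fun g hg => hnorm g (hDN hg)) hQc (fun x hx => hx.2) hQi
          hg hx hg1 hnot)⟩
      obtain ⟨g, hg, hgen⟩ := hQ1
      refine (Nat.card_le_card_of_injective (fun x : {x : Q₀ // x ^ q = 1} => (⟨(x.1 : G),
        hgen _ ⟨x.1.2.1, congrArg Subtype.val x.2⟩⟩ : zpowers g))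
        (fun x x' h => Subtype.ext (Subtype.ext (congrArg (fun z : zpowers g => (z : G)) h)))).trans ?_
      rw [Nat.card_zpowers]
      exact Nat.le_of_dvd hq.pos (orderOf_dvd_of_pow_eq_one hg.2)
    letI := IsCyclic.commGroup (α := Q₀)
    exact ⟨⟨fun x x' => mul_comm x x'⟩⟩
  exact hno (invertedRegular_of_heisenberg hS hF hG ha hb hab hw hw2 hwa hshare hfaith hy hyp ht
    ht2 hta hyt huniq hQD (fun g hg => hnorm g (hDN hg)) (hnorm w hwN) (fun x hx => hx.2)
    (fun x hx x' hx' z hz => hcl x hx.1 x' hx'.1 z hz.1) hQc)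

end Cfsg.Agent.H53.SE
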