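import Cfsg.Agent.Cores.SE.CoreCommute

/-!
For a prime `q` dividing the number of involutions at a point, every point fixed by a `q`-group with
three fixed points is the point of an involution centralising the group.
-/

set_option autoImplicit false
set_option linter.style.haveILetI false

namespace Cfsg.Agent.H53.SE

open Subgroup MulAction
open Cfsg.Agent.H39
open Cfsg.Agent.H73.Bender
open Cfsg.Agent.Cores.SE

universe u v

variable {G : Type u} [Group G] [Finite G] {Ω : Type v} [MulAction G Ω] [Finite Ω]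
  {S : Subgroup G} {C : Set Ω}

/-- F3 at every fixed point. -/
theorem exists_inv_fixed (hS : SE S C) (hF : Faithful S C) (hG : Good S C) {q : ℕ}
    [Fact q.Prime] {c : Ω} (hc : c ∈ C) (hdvd : q ∣ invBar S C c) (X : Subgroup G) :
    X ≤ S → IsPGroup q X →
    (∃ a ∈ fixedIn C X, ∃ b ∈ fixedIn C X, ∃ e ∈ fixedIn C X, a ≠ b ∧ e ≠ a ∧ e ≠ b) →
    ∀ f ∈ fixedIn C X, ∃ i ∈ S, orderOf i = 2 ∧ i • f = f ∧ ∀ x ∈ X, Commute i x := by
  induction X using (wellFounded_gt (α := Subgroup G)).induction with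
  | _ X ih =>
  intro hXS hX ⟨a, ha, b, hb, e, he, hab, hea, heb⟩ f hf
  by_contra hnf
  haveI := kerIn_normal hS
  set M : Subgroup G := S ⊓ normalizer (X : Set G) with hM
  -- two fixed points are the only ones of a larger `q`-group
  have hexact : ∀ x ∈ fixedIn C X, ∀ z ∈ fixedIn C X, x ≠ z → x = f →
      ∃ P : Subgroup G, P ≤ M ∧ IsPGroup q P ∧ (∀ g ∈ P, g • x = x ∧ g • z = z) ∧
        ∀ w ∈ fixedIn C X, (∀ g ∈ P, g • w = w) → w = x ∨ w = z := by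
    intro x hx z hz hxz hxf
    obtain ⟨R, hXR, hR⟩ := H29.Bender.exists_isSyl_ge (D := pair S x z) (P := X)
      (fun y hy => mem_pair.mpr ⟨hXS hy, hx.2 y hy, hz.2 y hy⟩) hX
    have hne : X ≠ R := by
      rintro rfl
      have h := fun w (hw : w ∈ fixedIn C X) =>
        pairSylow_fixed_eq hS hG hc hdvd hx.1 hz.1 hxz hw.1 hR hw.2
      rcases h a ha with h1 | h1 <;> rcases h b hb with h2 | h2 <;> rcases h e he with h3 | h3 <;>
        first
          | exact hab (h1.trans h2.symm)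
          | exact hea (h3.trans h1.symm)
          | exact heb (h3.trans h2.symm)
    obtain ⟨g, hgR, hgX, hgN⟩ :=
      exists_mem_normalizer_not_mem hR.pgroup (lt_of_le_of_ne hXR hne)
    set P : Subgroup G := X ⊔ zpowers g with hP
    have hle : P ≤ R := sup_le hXR (zpowers_le.mpr hgR)
    have hPS : P ≤ S := fun k hk => (mem_pair.mp (hR.le (hle hk))).1
    have hfix : ∀ k ∈ P, k • x = x ∧ k • z = z := fun k hk => (mem_pair.mp (hR.le (hle hk))).2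
    refine ⟨P, le_inf hPS (sup_le Subgroup.le_normalizer (zpowers_le.mpr hgN)),
      hR.pgroup.to_le hle, hfix, fun w hw hwP => ?_⟩
    by_contra! hwne
    obtain ⟨i, hi, hi2, hif, hiP⟩ := ih P
      (lt_of_le_of_ne le_sup_left fun h => hgX (h ▸ mem_sup_right (mem_zpowers g))) hPS
      (hR.pgroup.to_le hle) ⟨x, ⟨hx.1, fun k hk => (hfix k hk).1⟩, z,
        ⟨hz.1, fun k hk => (hfix k hk).2⟩, w, ⟨hw.1, hwP⟩, hxz, hwne.1, hwne.2⟩ f
      ⟨hf.1, fun k hk => hxf ▸ (hfix k hk).1⟩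
    exact hnf ⟨i, hi, hi2, hif, fun y hy => hiP y (mem_sup_left hy)⟩
  obtain ⟨i, hi, hi2, g₀, hg₀C, hg₀f, hig, hXg, hiX⟩ := exists_inv_centralizing hS hF hG hc hdvd hXS
    hX ha.1 hb.1 he.1 hab hea heb ha.2 hb.2 he.2 f
  have hg₀ : g₀ ∈ fixedIn C X := ⟨hg₀C, hXg⟩
  have hiM : i ∈ M := ⟨hi, Subgroup.mem_normalizer_iff.mpr fun y => ⟨fun hy => by
    rwa [(hiX y hy).eq, mul_inv_cancel_right], fun hy => by
    have h := hiX _ hy
    have e : i * y * i⁻¹ = y := by simpa [mul_assoc] using h.eq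
    rwa [e] at hy⟩⟩
  -- the fixed points of involutions normalising `X`
  set P₀ : Set Ω := {z | z ∈ fixedIn C X ∧ ∃ j ∈ M, orderOf j = 2 ∧ j • z = z} with hP₀
  have hfP : f ∉ P₀ := by
    rintro ⟨-, j, hj, hj2, hjf⟩
    obtain ⟨w, hw, hwf⟩ : ∃ w ∈ fixedIn C X, f ≠ w := ⟨g₀, hg₀, Ne.symm hg₀f⟩
    exact hnf ⟨j, hj.1, hj2, hjf, fun y hy => Cores.SE.commute_of_fix_point hF hG hXS hj.1 hj2 hj.2
      hf.1 hw.1 hwf hjf hf.2 hw.2 hy⟩
  have hgP : g₀ ∈ P₀ := ⟨hg₀, i, hiM, hi2, hig⟩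
  have hMP : ∀ g ∈ M, ∀ z ∈ P₀, g • z ∈ P₀ := fun g hg z ⟨hz, j, hj, hj2, hjz⟩ =>
    ⟨smul_mem_fixedIn hS hg.1 hg.2 hz, g * j * g⁻¹, mul_mem (mul_mem hg hj) (inv_mem hg),
      by rw [orderOf_conj, hj2], conj_smul_of_smul hjz⟩
  set f' := i • f with hf'
  have hf'F : f' ∈ fixedIn C X := smul_mem_fixedIn hS hi hiM.2 hf
  have hff' : f ≠ f' := fun h => hg₀f (hS.fix_unique hi hi2 hf.1 hg₀C h.symm hig).symm
  have hf'P : f' ∉ P₀ := fun h => hfP (by
    have h' := hMP i hiM _ h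
    rwa [hf', ← mul_smul, mul_self_of_orderOf_eq_two hi2, one_smul] at h')
  obtain ⟨P₁, hP₁M, hP₁, hP₁fix, hP₁only⟩ := hexact f hf g₀ hg₀ (Ne.symm hg₀f) rfl
  obtain ⟨P₂, hP₂M, hP₂, hP₂fix, hP₂only⟩ := hexact f hf f' hf'F hff' rfl
  have h1 := H72.SE.card_modEq_fixed (C := P₀) hP₁ fun g hg z hz => hMP g (hP₁M hg) z hz
  have h2 := H72.SE.card_modEq_fixed (C := P₀) hP₂ fun g hg z hz => hMP g (hP₂M hg) z hz
  rw [show {z | z ∈ P₀ ∧ ∀ g ∈ P₁, g • z = z} = {g₀} from Set.ext fun z =>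
    ⟨fun hz => ((hP₁only z hz.1.1 hz.2).resolve_left fun h => hfP (h ▸ hz.1)), fun hz =>
      ⟨(Set.mem_singleton_iff.mp hz).symm ▸ hgP, fun g hg =>
        (Set.mem_singleton_iff.mp hz).symm ▸ (hP₁fix g hg).2⟩⟩, Set.ncard_singleton] at h1
  rw [show {z | z ∈ P₀ ∧ ∀ g ∈ P₂, g • z = z} = ∅ from Set.eq_empty_iff_forall_notMem.mpr fun z hz =>
    (hP₂only z hz.1.1 hz.2).elim (fun h => hfP (h ▸ hz.1)) (fun h => hf'P (h ▸ hz.1)),
    Set.ncard_empty] at h2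
  exact Nat.Prime.ne_one Fact.out
    (Nat.eq_one_of_dvd_one ((Nat.modEq_iff_dvd' zero_le_one).mp (h2.symm.trans h1)))

end Cfsg.Agent.H53.SE
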