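import Cfsg.Agent.H53.SE.FixInv
import Cfsg.Agent.Cores.SE.CoreSemiregular
import Cfsg.Agent.S0009
import Cfsg.Agent.S0044
import Cfsg.Agent.S1161

/-!
Structure of a pair stabiliser `D` when the involutions at a point commute: the elements of `D`
inverted by a swapper form a cyclic normal subgroup regular on the involutions at the point, and the
elements centralising all of these involutions centralise every swapper.
-/

set_option autoImplicit false
set_option linter.style.haveILetI false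
set_option maxHeartbeats 800000

namespace Cfsg.Agent.H53.SE

open Subgroup MulAction
open Cfsg.Agent.H39
open Cfsg.Agent.H73.Bender
open Cfsg.Agent.Cores.SE

universe u v

variable {G : Type u} [Group G] {Ω : Type v} [MulAction G Ω] {S : Subgroup G} {C : Set Ω}

/-- The involutions at `a` commute pairwise. -/
def CommAt (S : Subgroup G) (a : Ω) : Prop :=
  ∀ s ∈ S, ∀ t ∈ S, orderOf s = 2 → orderOf t = 2 → s • a = a → t • a = a → Commute s t

theorem eq_or_inv_of_mem_invGen {a : Ω} (hcomm : CommAt S a) {e : G} (he : e ∈ invGen S a) :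
    e = 1 ∨ (e ∈ S ∧ orderOf e = 2 ∧ e • a = a) := by
  induction he using Subgroup.closure_induction with
  | mem t ht => exact Or.inr ht
  | one => exact Or.inl rfl
  | mul x y _ _ hx hy =>
    rcases hx with rfl | ⟨hxS, hx2, hxa⟩
    · rwa [one_mul]
    rcases hy with rfl | ⟨hyS, hy2, hya⟩
    · rw [mul_one]; exact Or.inr ⟨hxS, hx2, hxa⟩
    by_cases h1 : x * y = 1
    · exact Or.inl h1
    refine Or.inr ⟨mul_mem hxS hyS, orderOf_eq_two_of_mul_self ?_ h1, by rw [mul_smul, hya, hxa]⟩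
    rw [(hcomm x hxS y hyS hx2 hy2 hxa hya).symm.mul_mul_mul_comm x y,
      mul_self_of_orderOf_eq_two hx2, mul_self_of_orderOf_eq_two hy2, one_mul]
  | inv x _ hx =>
    rcases hx with rfl | ⟨hxS, hx2, hxa⟩
    · exact Or.inl inv_one
    · rw [inv_eq_of_orderOf_eq_two hx2]; exact Or.inr ⟨hxS, hx2, hxa⟩

theorem pair_le_normalizer_invGen (a b : Ω) :
    pair S a b ≤ normalizer (invGen S a : Set G) := by
  intro d hd
  obtain ⟨hdS, hda, -⟩ := mem_pair.mp hd
  have key : ∀ d : G, d ∈ S → d • a = a → ∀ e ∈ invGen S a, d * e * d⁻¹ ∈ invGen S a := by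
    intro d hdS hda e he
    have hle : invGen S a ≤ (invGen S a).comap (MulAut.conj d).toMonoidHom := by
      refine (Subgroup.closure_le _).mpr fun t ht => ?_
      obtain ⟨ht1, ht2, hta⟩ := ht
      refine Subgroup.subset_closure ⟨conj_mem_of_mem hdS ht1, ?_, ?_⟩
      · show orderOf (d * t * d⁻¹) = 2
        rw [orderOf_conj, ht2]
      · have h := conj_smul_of_smul (g := d) hta
        rwa [hda] at h
    exact hle he
  refine Subgroup.mem_normalizer_iff.mpr fun e => ⟨key d hdS hda e, fun he => ?_⟩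
  have h := key d⁻¹ (inv_mem hdS) (inv_smul_eq_iff.mpr hda.symm) _ he
  simpa [mul_assoc] using h

variable [Finite G] [Finite Ω]

/-- With the involution `r` at `y` fixed, a swapper of `(x, y)` is determined by the conjugate of
`r` it gives. -/
theorem swapper_injective (hS : SE S C) {x y : Ω} (hx : x ∈ C) (hy : y ∈ C) (hxy : x ≠ y) {r : G}
    (hr : r ∈ S) (hr2 : orderOf r = 2) (hry : r • y = y) {s s' : G} (hs : s ∈ S)
    (hs2 : orderOf s = 2) (hsx : s • x = y) (hs' : s' ∈ S) (hs'2 : orderOf s' = 2)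
    (hs'x : s' • x = y) (h : s * r * s⁻¹ = s' * r * s'⁻¹) : s = s' := by
  let W := {i : G // i ∈ S ∧ orderOf i = 2 ∧ i • x = y}
  let T := {t : G // t ∈ S ∧ orderOf t = 2 ∧ t • x = x}
  let f : W → T := fun i => ⟨i.1 * r * i.1⁻¹, conj_mem_of_mem i.2.1 hr, by rw [orderOf_conj, hr2],
    by
      have h := conj_smul_of_smul (g := i.1) hry
      rwa [swap_symm i.2.2.1 i.2.2.2] at h⟩
  have hsurj : Function.Surjective f := by
    rintro ⟨t, ht, ht2, htx⟩
    obtain ⟨w, hw, hw2, hwy, hwx, hwr⟩ :=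
      hS.exists_swap_of_inv hr hr2 ht ht2 hy hx (Ne.symm hxy) hry htx
    exact ⟨⟨w, hw, hw2, hwx⟩, Subtype.ext hwr⟩
  have hinj : Function.Injective f :=
    (hsurj.bijective_of_nat_card_le (le_of_eq (hS.card_swap hx hy))).1
  exact congrArg Subtype.val (@hinj ⟨s, hs, hs2, hsx⟩ ⟨s', hs', hs'2, hs'x⟩ (Subtype.ext h))

/-- An element of the pair stabiliser commuting with an involution at `y` and with its conjugate by a
swapper commutes with the swapper. -/
theorem commute_swapper (hS : SE S C) {x y : Ω} (hx : x ∈ C) (hy : y ∈ C) (hxy : x ≠ y) {r s d : G}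
    (hr : r ∈ S) (hr2 : orderOf r = 2) (hry : r • y = y) (hs : s ∈ S) (hs2 : orderOf s = 2)
    (hsx : s • x = y) (hd : d ∈ pair S x y) (hdr : Commute d r)
    (hdt : Commute d (s * r * s⁻¹)) : Commute d s := by
  obtain ⟨hdS, hdx, hdy⟩ := mem_pair.mp hd
  have hswap : (d * s * d⁻¹) • x = y := by
    rw [mul_smul, mul_smul, inv_smul_eq_iff.mpr hdx.symm, hsx, hdy]
  have e : d * s * d⁻¹ * r * (d * s * d⁻¹)⁻¹ = s * r * s⁻¹ := by
    have e1 : d⁻¹ * r * d = r := by rw [mul_assoc, ← hdr.eq, inv_mul_cancel_left]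
    calc d * s * d⁻¹ * r * (d * s * d⁻¹)⁻¹ = d * (s * (d⁻¹ * r * d) * s⁻¹) * d⁻¹ := by group
      _ = s * r * s⁻¹ := by rw [e1, hdt.eq, mul_inv_cancel_right]
  have := swapper_injective hS hx hy hxy hr hr2 hry (conj_mem_of_mem hdS hs)
    (by rw [orderOf_conj, hs2]) hswap hs hs2 hsx e
  exact mul_inv_eq_iff_eq_mul.mp this

/-- A prime power element of a pair stabiliser centralising an involution at one of the points
centralises one at the other. -/
theorem exists_inv_other (hS : SE S C) (hF : Faithful S C) (hG : Good S C) {a b : Ω} (ha : a ∈ C)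
    (hb : b ∈ C) (hab : a ≠ b) {q : ℕ} [Fact q.Prime] {y t : G} (hy : y ∈ pair S a b)
    (hyq : IsPGroup q (zpowers y)) (ht : t ∈ S) (ht2 : orderOf t = 2) (hta : t • a = a)
    (hyt : Commute y t) : ∃ r ∈ S, orderOf r = 2 ∧ r • b = b ∧ Commute y r := by
  obtain ⟨hyS, hya, hyb⟩ := mem_pair.mp hy
  have hfix : ∀ {z : Ω}, y • z = z → ∀ p ∈ zpowers y, p • z = z := fun {z} hz p hp =>
    mem_stabilizer_iff.mp ((zpowers_le.mpr (mem_stabilizer_iff.mpr hz)) hp)
  by_cases hdvd : q ∣ invBar S C a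
  · have hytb : y • t • b = t • b := by rw [← mul_smul, hyt.eq, mul_smul, hyb]
    obtain ⟨i, hi, hi2, hib, hiy⟩ := exists_inv_fixed hS hF hG ha hdvd (zpowers y)
      (zpowers_le.mpr hyS) hyq ⟨a, ⟨ha, hfix hya⟩, b, ⟨hb, hfix hyb⟩, t • b,
        ⟨hS.smul_mem ht hb, hfix hytb⟩, hab,
        fun e => hab (MulAction.injective t (e.trans hta.symm)).symm,
        fun e => hab (hS.fix_unique ht ht2 ha hb hta e)⟩ b ⟨hb, hfix hyb⟩
    exact ⟨i, hi, hi2, hib, (hiy y (mem_zpowers y)).symm⟩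
  · let J := {i : G // i ∈ S ∧ orderOf i = 2 ∧ i • b = b}
    have hact : ∀ p : zpowers y, ∀ i : J,
        (p : G) * i * (p : G)⁻¹ ∈ S ∧ orderOf ((p : G) * i * (p : G)⁻¹) = 2 ∧
          ((p : G) * i * (p : G)⁻¹) • b = b := by
      rintro ⟨p, hp⟩ ⟨i, hi, hi2, hib⟩
      refine ⟨conj_mem_of_mem (zpowers_le.mpr hyS hp) hi, by rw [orderOf_conj, hi2], ?_⟩
      have h' := conj_smul_of_smul (g := p) hib
      rwa [hfix hyb p hp] at h'
    letI : MulAction (zpowers y) J :=
      { smul := fun p i => ⟨(p : G) * i * (p : G)⁻¹, hact p i⟩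
        one_smul := fun i => Subtype.ext
          (show ((1 : zpowers y) : G) * i * ((1 : zpowers y) : G)⁻¹ = i by simp)
        mul_smul := fun p p' i => Subtype.ext
          (show ((p * p' : zpowers y) : G) * i * ((p * p' : zpowers y) : G)⁻¹ =
            p * (p' * i * (p' : G)⁻¹) * (p : G)⁻¹ by simp [mul_assoc]) }
    obtain ⟨⟨i, hi, hi2, hib⟩, hfx⟩ := hyq.nonempty_fixed_point_of_prime_not_dvd_card J (by
      rwa [hS.card_inv_at_eq hb ha, ← invBar_eq_card hF])
    have he : y * i * y⁻¹ = i := congrArg Subtype.val (hfx ⟨y, mem_zpowers y⟩)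
    exact ⟨i, hi, hi2, hib, mul_inv_eq_iff_eq_mul.mp he⟩

/-- The elements of a pair stabiliser centralising all involutions at one point centralise every
swapper. -/
theorem commute_swapper_of_centralizing (hS : SE S C) (hF : Faithful S C) (hG : Good S C)
    {a b : Ω} (ha : a ∈ C) (hb : b ∈ C) (hab : a ≠ b) {d s : G}
    (hd : d ∈ pair S a b ⊓ centralizer (invGen S a : Set G)) (hs : s ∈ S) (hs2 : orderOf s = 2)
    (hsa : s • a = b) : Commute d s := by
  set L : Subgroup G := pair S a b ⊓ centralizer (invGen S a : Set G) with hL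
  suffices h : L ≤ centralizer ({s} : Set G) from mem_centralizer_singleton_iff.mp (h hd)
  have hprime : ∀ (p : ℕ) [Fact p.Prime], ∀ y ∈ L, IsPGroup p (zpowers y) →
      y ∈ centralizer ({s} : Set G) := by
    intro p _ y hy hyp
    have hcy : ∀ t ∈ S, orderOf t = 2 → t • a = a → Commute y t := fun t ht ht2 hta =>
      (mem_centralizer_iff.mp hy.2 t (Subgroup.subset_closure ⟨ht, ht2, hta⟩)).symm
    obtain ⟨t, ht, ht2, hta⟩ := hS.exists_inv_at ha
    obtain ⟨r, hr, hr2, hrb, hyr⟩ :=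
      exists_inv_other hS hF hG ha hb hab hy.1 hyp ht ht2 hta (hcy t ht ht2 hta)
    refine mem_centralizer_singleton_iff.mpr
      (commute_swapper hS ha hb hab hr hr2 hrb hs hs2 hsa hy.1 hyr (hcy _ (conj_mem_of_mem hs hr)
        (by rw [orderOf_conj, hr2]) ?_)).eq
    have h' := conj_smul_of_smul (g := s) hrb
    rwa [swap_symm hs2 hsa] at h'
  have hdvd : Nat.card L ∣ Nat.card (L ⊓ centralizer ({s} : Set G) : Subgroup G) := by
    refine (Nat.dvd_iff_prime_pow_dvd_dvd _ _).mpr fun p k hp hpk => ?_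
    haveI := Fact.mk hp
    obtain ⟨P, hP⟩ := Sylow.exists_subgroup_card_pow_prime p hpk
    rw [← hP, ← card_map_of_injective L.subtype_injective]
    refine card_dvd_of_le fun g hg => ⟨map_subtype_le _ hg, ?_⟩
    exact hprime p g (map_subtype_le _ hg) (((IsPGroup.of_card hP).map L.subtype).to_le
      (zpowers_le.mpr hg))
  intro g hg
  have heq := Subgroup.eq_of_le_of_card_ge (inf_le_left : L ⊓ centralizer ({s} : Set G) ≤ L)
    (Nat.le_of_dvd Nat.card_pos hdvd)
  exact (heq.symm ▸ hg : g ∈ L ⊓ centralizer ({s} : Set G)).2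

/-- The elements of the pair stabiliser inverted by the swapper `w`. -/
def invertedBy (S : Subgroup G) (a b : Ω) (w : G) : Set G :=
  {j | j ∈ pair S a b ∧ w * j * w⁻¹ = j⁻¹}

/-- Structure of a pair stabiliser `D`: the elements inverted by a swapper `w` form a cyclic normal
subgroup `A` of order the number of involutions at `a`, regular on them, and `D = A C_D(w)`. -/
theorem exists_inverted_subgroup (hS : SE S C) (hF : Faithful S C) (hG : Good S C) {a b : Ω}
    (ha : a ∈ C) (hb : b ∈ C) (hab : a ≠ b) (hcomm : CommAt S a) {w : G} (hw : w ∈ S)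
    (hw2 : orderOf w = 2) (hwa : w • a = b) :
    ∃ A : Subgroup G, (A : Set G) = invertedBy S a b w ∧ A ≤ pair S a b ∧
      pair S a b ≤ normalizer (A : Set G) ∧ IsCyclic A ∧ Nat.card A = invBar S C a ∧
      (∀ j ∈ A, ∀ t ∈ S, orderOf t = 2 → t • a = a → Commute j t → j = 1) ∧
      (∀ t ∈ S, orderOf t = 2 → t • a = a → ∀ t' ∈ S, orderOf t' = 2 → t' • a = a →
        ∃ j ∈ A, j * t * j⁻¹ = t') ∧
      ∀ d ∈ pair S a b, ∃ j ∈ A, ∃ f ∈ pair S a b, Commute f w ∧ d = j * f := by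
  classical
  set D : Subgroup G := pair S a b with hDdef
  have hDodd : Odd (Nat.card D) := hS.odd_pair ha hb hab
  have hw2' := mul_self_of_orderOf_eq_two hw2
  have hwi : w⁻¹ = w := inv_eq_of_orderOf_eq_two hw2
  have hwb : w • b = a := swap_symm hw2 hwa
  have hwD : ∀ d ∈ D, w * d * w⁻¹ ∈ D := by
    intro d hd
    obtain ⟨hdS, hda, hdb⟩ := mem_pair.mp hd
    refine mem_pair.mpr ⟨conj_mem_of_mem hw hdS, ?_, ?_⟩
    · have h := conj_smul_of_smul (g := w) hdb
      rwa [hwb] at h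
    · have h := conj_smul_of_smul (g := w) hda
      rwa [hwa] at h
  have hodd_sq : ∀ x : G, x ∈ D → x = x⁻¹ → x = 1 := by
    intro x hx hxi
    by_contra hne
    have h2 := orderOf_eq_two_of_mul_self (mul_eq_one_iff_eq_inv.mpr hxi) hne
    have h2D := Subgroup.orderOf_dvd_natCard D hx
    rw [h2, ← even_iff_two_dvd] at h2D
    exact (Nat.not_even_iff_odd.mpr hDodd) h2D
  -- the action on the group of involutions at `a`
  set E : Subgroup G := invGen S a with hE
  have hEc : ∀ x y : E, x * y = y * x := by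
    rintro ⟨x, hx⟩ ⟨y, hy⟩
    rcases eq_or_inv_of_mem_invGen hcomm hx with rfl | ⟨hx1, hx2, hxa⟩
    · exact Subtype.ext (by simp)
    rcases eq_or_inv_of_mem_invGen hcomm hy with rfl | ⟨hy1, hy2, hya⟩
    · exact Subtype.ext (by simp)
    exact Subtype.ext (hcomm x hx1 y hy1 hx2 hy2 hxa hya).eq
  letI : CommGroup E := { (inferInstance : Group E) with mul_comm := hEc }
  let ψ : D →* MulAut E :=
    (Subgroup.normalizerMonoidHom E).comp (Subgroup.inclusion (pair_le_normalizer_invGen a b))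
  have hψ : ∀ (d : D) (e : E), ((ψ d e : E) : G) = d * e * (d : G)⁻¹ := fun d e => rfl
  have hker : ∀ d : D, d ∈ ψ.ker ↔ (d : G) ∈ centralizer (E : Set G) := by
    intro d
    rw [MonoidHom.mem_ker, mem_centralizer_iff]
    constructor
    · intro h e he
      have h1 := congrArg (fun f : MulAut E => ((f ⟨e, he⟩ : E) : G)) h
      rw [hψ] at h1
      exact (mul_inv_eq_iff_eq_mul.mp h1).symm
    · intro h
      refine MulEquiv.ext fun e => Subtype.ext ?_
      rw [hψ, ← h e e.2, mul_inv_cancel_right]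
      rfl
  let φ : D ⧸ ψ.ker →* MulAut E := QuotientGroup.kerLift ψ
  letI : DistribMulAction (D ⧸ ψ.ker) (Additive E) :=
    { smul := fun q e => Additive.ofMul (φ q e.toMul)
      one_smul := fun e => show Additive.ofMul (φ 1 e.toMul) = e by simp
      mul_smul := fun p q e => show Additive.ofMul (φ (p * q) e.toMul) =
        Additive.ofMul (φ p (φ q e.toMul)) by rw [map_mul]; rfl
      smul_zero := fun q => show Additive.ofMul (φ q (1 : E)) = 0 by simp
      smul_add := fun q e e' => show Additive.ofMul (φ q (e.toMul * e'.toMul)) =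
        Additive.ofMul (φ q e.toMul) + Additive.ofMul (φ q e'.toMul) by rw [map_mul]; rfl }
  haveI : FaithfulSMul (D ⧸ ψ.ker) (Additive E) := ⟨fun {p q} h =>
    QuotientGroup.kerLift_injective ψ (MulEquiv.ext fun e =>
      Additive.ofMul.injective (h (Additive.ofMul e)))⟩
  obtain ⟨t₀, ht₀, ht₀2, ht₀a⟩ := hS.exists_inv_at ha
  have ht₀E : t₀ ∈ E := Subgroup.subset_closure ⟨ht₀, ht₀2, ht₀a⟩
  haveI : Nontrivial (Additive E) := by
    refine ⟨Additive.ofMul ⟨t₀, ht₀E⟩, 0, fun h => ?_⟩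
    have h1 : t₀ = 1 := congrArg (fun e : Additive E => ((e.toMul : E) : G)) h
    rw [h1, orderOf_one] at ht₀2
    exact absurd ht₀2 (by norm_num)
  have hq2 : ∀ e : Additive E, 2 • e = 0 := by
    intro e
    refine Additive.toMul.injective (Subtype.ext ?_)
    show (((e.toMul) ^ 2 : E) : G) = 1
    rw [SubgroupClass.coe_pow]
    rcases eq_or_inv_of_mem_invGen hcomm e.toMul.2 with h | h
    · rw [h, one_pow]
    · rw [sq, mul_self_of_orderOf_eq_two h.2.1]
  have hne : ∀ e : Additive E, e ≠ 0 →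
      (e.toMul : G) ∈ S ∧ orderOf (e.toMul : G) = 2 ∧ (e.toMul : G) • a = a := fun e he =>
    (eq_or_inv_of_mem_invGen hcomm e.toMul.2).resolve_left fun h =>
      he (Additive.toMul.injective (Subtype.ext h))
  have htr : ∀ e e' : Additive E, e ≠ 0 → e' ≠ 0 → ∃ q : D ⧸ ψ.ker, q • e = e' := by
    intro e e' he he'
    obtain ⟨h1, h2, h3⟩ := hne e he
    obtain ⟨h1', h2', h3'⟩ := hne e' he'
    obtain ⟨d, hd, hde⟩ := hS.fix_conj ha hb hab h1 h1' h2 h2' h3 h3'
    exact ⟨QuotientGroup.mk' _ ⟨d, hd⟩, Additive.toMul.injective (Subtype.ext hde)⟩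
  have hQodd : Odd (Nat.card (D ⧸ ψ.ker)) := hDodd.of_dvd_nat (card_quotient_dvd_card ψ.ker)
  obtain ⟨hFcyc, hFfpf, -⟩ := Cfsg.Agent.S1161.result hQodd Nat.prime_two hq2 htr
  haveI : Group.IsSolvable (D ⧸ ψ.ker) := Cfsg.Agent.S0205.result hQodd
  set F : Subgroup (D ⧸ ψ.ker) := Cfsg.fittingSubgroup (D ⧸ ψ.ker) with hFdef
  haveI hFn : F.Normal := Subgroup.sSup_normal _ fun _ h => h.1
  -- the kernel centralises every swapper
  have hkerw : ∀ d : D, d ∈ ψ.ker → ∀ s ∈ S, orderOf s = 2 → s • a = b → Commute (d : G) s :=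
    fun d hd s hs hs2 hsa =>
      commute_swapper_of_centralizing hS hF hG ha hb hab ⟨d.2, (hker d).mp hd⟩ hs hs2 hsa
  -- the automorphism induced by `w`
  let σ : D ≃* D :=
    { toFun := fun d => ⟨w * d * w⁻¹, hwD d d.2⟩
      invFun := fun d => ⟨w * d * w⁻¹, hwD d d.2⟩
      left_inv := fun d => Subtype.ext (show w * (w * d * w⁻¹) * w⁻¹ = (d : G) by
        rw [hwi, show w * (w * d * w) * w = (w * w) * d * (w * w) by group, hw2', one_mul, mul_one])
      right_inv := fun d => Subtype.ext (show w * (w * d * w⁻¹) * w⁻¹ = (d : G) by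
        rw [hwi, show w * (w * d * w) * w = (w * w) * d * (w * w) by group, hw2', one_mul, mul_one])
      map_mul' := fun c d => Subtype.ext
        (show w * (c * d : G) * w⁻¹ = w * c * w⁻¹ * (w * d * w⁻¹) by group) }
  have hσker : ∀ d ∈ ψ.ker, σ d = d := fun d hd => Subtype.ext (show w * (d : G) * w⁻¹ = d by
    rw [← (hkerw d hd w hw hw2 hwa).eq, mul_inv_cancel_right])
  let τ : D ⧸ ψ.ker ≃* D ⧸ ψ.ker := QuotientGroup.congr ψ.ker ψ.ker σ (by
    refine Subgroup.ext fun d => ⟨?_, fun hd => ⟨d, hd, hσker d hd⟩⟩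
    rintro ⟨c, hc, rfl⟩
    show σ c ∈ ψ.ker
    rwa [hσker c hc])
  have hτmk : ∀ d : D, τ (QuotientGroup.mk' _ d) = QuotientGroup.mk' _ (σ d) := fun d => rfl
  have hFτ : F.map τ.toMonoidHom = F := by
    rw [hFdef, Cfsg.Agent.S0009.result, Subgroup.map_iSup]
    exact iSup_congr fun p => Cores.pCore_map_mulEquiv τ
  have hτF : ∀ f ∈ F, τ f ∈ F := fun f hf => hFτ ▸ mem_map_of_mem _ hf
  let τF : F →* F := (τ.toMonoidHom.comp F.subtype).codRestrict F fun f => hτF f f.2
  obtain ⟨k, hk⟩ := τF.map_cyclic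
  -- inverted elements lie over `F`
  have hinvF : ∀ j : D, σ j = j⁻¹ → QuotientGroup.mk' ψ.ker j ∈ F := by
    intro j hj
    set x : D ⧸ ψ.ker := QuotientGroup.mk' ψ.ker j with hx
    have hτx : τ x = x⁻¹ := by rw [hx, hτmk, hj, map_inv]
    have hcent : x * x ∈ centralizer (F : Set (D ⧸ ψ.ker)) := by
      refine mem_centralizer_iff.mpr fun g hg => ?_
      obtain ⟨f, hf, rfl⟩ : ∃ f ∈ F, τ f = g := by
        rw [SetLike.mem_coe, ← hFτ] at hg
        exact hg
      have hy : x * f * x⁻¹ ∈ F := hFn.conj_mem f hf x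
      have h1 : τ f = f ^ k := congrArg Subtype.val (hk ⟨f, hf⟩)
      have h2 : τ (x * f * x⁻¹) = (x * f * x⁻¹) ^ k := congrArg Subtype.val (hk ⟨_, hy⟩)
      rw [conj_zpow, ← h1, map_mul, map_mul, map_inv, hτx, inv_inv] at h2
      calc τ f * (x * x) = x * (x⁻¹ * τ f * x) * x := by group
        _ = x * (x * τ f * x⁻¹) * x := by rw [h2]
        _ = x * x * τ f := by group
    have hxx : x * x ∈ F := Cfsg.Agent.S0044.result hcent
    obtain ⟨i, hi⟩ : Odd (orderOf x) := hQodd.of_dvd_nat (orderOf_dvd_natCard x)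
    have hpow : (x * x) ^ (i + 1) = x := by
      rw [← pow_two, ← pow_mul, show 2 * (i + 1) = orderOf x + 1 by omega, pow_succ,
        pow_orderOf_eq_one, one_mul]
    exact hpow ▸ F.pow_mem hxx _
  -- the subgroup they generate
  set A₀ : Subgroup D := Subgroup.closure {j : D | σ j = j⁻¹} with hA₀
  have hA₀F : A₀ ≤ F.comap (QuotientGroup.mk' ψ.ker) :=
    (Subgroup.closure_le _).mpr fun j hj => hinvF j hj
  have hswap : ∀ j : D, σ j = j⁻¹ →
      ((j : G) * w) ∈ S ∧ orderOf ((j : G) * w) = 2 ∧ ((j : G) * w) • a = b := by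
    intro j hj
    have e : w * (j : G) * w⁻¹ = (j : G)⁻¹ := congrArg Subtype.val hj
    obtain ⟨hjS, -, hjb⟩ := mem_pair.mp j.2
    have hmap : ((j : G) * w) • a = b := by rw [mul_smul, hwa, hjb]
    refine ⟨mul_mem hjS hw, orderOf_eq_two_of_mul_self ?_ fun h => ?_, hmap⟩
    · rw [hwi] at e
      calc (j : G) * w * (j * w) = j * (w * j * w) := by group
        _ = 1 := by rw [e, mul_inv_cancel]
    · rw [h, one_smul] at hmap
      exact hab hmap
  have hA₀ker : ∀ x ∈ A₀, ∀ l ∈ ψ.ker, x * l = l * x := by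
    intro x hx l hl
    have hle : A₀ ≤ centralizer ({l} : Set D) := (Subgroup.closure_le _).mpr fun j hj => by
      obtain ⟨h1, h2, h3⟩ := hswap j hj
      have e : Commute (l : G) ((j : G) * w * w) :=
        (hkerw l hl _ h1 h2 h3).mul_right (hkerw l hl w hw hw2 hwa)
      rw [mul_assoc, hw2', mul_one] at e
      exact mem_centralizer_singleton_iff.mpr (Subtype.ext e.symm.eq)
    exact mem_centralizer_singleton_iff.mp (hle hx)
  let π : A₀ →* F :=
    ((QuotientGroup.mk' ψ.ker).comp A₀.subtype).codRestrict F fun x => hA₀F x.2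
  haveI : IsCyclic F := hFcyc
  have hπ : π.ker ≤ center A₀ := by
    intro x hx
    have hxk : (x : D) ∈ ψ.ker := (QuotientGroup.eq_one_iff _).mp (congrArg Subtype.val hx)
    exact Subgroup.mem_center_iff.mpr fun y => Subtype.ext (hA₀ker y y.2 x hxk)
  have hAc : ∀ x ∈ A₀, ∀ y ∈ A₀, x * y = y * x := fun x hx y hy =>
    congrArg Subtype.val
      ((π.isMulCommutative_of_isCyclic_of_ker_le_center hπ).is_comm.comm ⟨x, hx⟩ ⟨y, hy⟩)
  have hAinv : ∀ x ∈ A₀, σ x = x⁻¹ := by
    intro x hx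
    induction hx using Subgroup.closure_induction with
    | mem j hj => exact hj
    | one => simp
    | mul x y hx hy ex ey => rw [map_mul, ex, ey, ← mul_inv_rev, hAc x hx y hy]
    | inv x hx ex => rw [map_inv, ex]
  have hAσ : ∀ j : D, j ∈ A₀ ↔ σ j = j⁻¹ :=
    fun j => ⟨hAinv j, fun h => Subgroup.subset_closure h⟩
  have hAker : ∀ j ∈ A₀, j ∈ ψ.ker → j = 1 := fun j hj hjk =>
    Subtype.ext (hodd_sq j j.2 (congrArg Subtype.val ((hσker j hjk).symm.trans (hAinv j hj))))
  -- the subgroup of `G`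
  set A : Subgroup G := A₀.map D.subtype with hA
  have hmemA : ∀ g : G, g ∈ A ↔ g ∈ invertedBy S a b w := by
    intro g
    constructor
    · rintro ⟨j, hj, rfl⟩
      exact ⟨j.2, congrArg Subtype.val (hAinv j hj)⟩
    · rintro ⟨hgD, hg⟩
      exact ⟨⟨g, hgD⟩, (hAσ _).mpr (Subtype.ext hg), rfl⟩
  have hfpf : ∀ j ∈ A, ∀ t ∈ S, orderOf t = 2 → t • a = a → Commute j t → j = 1 := by
    rintro _ ⟨j, hj, rfl⟩ t ht ht2 hta hjt
    have htE : t ∈ E := Subgroup.subset_closure ⟨ht, ht2, hta⟩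
    have hfix : QuotientGroup.mk' ψ.ker j • Additive.ofMul (⟨t, htE⟩ : E) =
        Additive.ofMul (⟨t, htE⟩ : E) := by
      refine Additive.toMul.injective (Subtype.ext ?_)
      show (j : G) * t * (j : G)⁻¹ = t
      rw [show (j : G) * t = t * (j : G) from hjt, mul_inv_cancel_right]
    by_contra hj1
    have hne1 : QuotientGroup.mk' ψ.ker j ≠ 1 := fun h =>
      hj1 (congrArg Subtype.val (hAker j hj ((QuotientGroup.eq_one_iff _).mp h)))
    have h0 := hFfpf _ (hA₀F hj) hne1 _ hfix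
    have ht1 : t = 1 := congrArg (fun e : Additive E => ((e.toMul : E) : G)) h0
    rw [ht1, orderOf_one] at ht2
    exact absurd ht2 (by norm_num)
  have hAD : A ≤ D := map_subtype_le _
  -- counting through the swappers
  have hcard : Nat.card A = invBar S C a := by
    rw [invBar_eq_card hF, ← hS.card_swap ha hb]
    refine Nat.card_congr
      { toFun := fun j => ⟨(j : G) * w, ?_⟩
        invFun := fun i => ⟨(i : G) * w, (hmemA _).mpr ⟨?_, ?_⟩⟩
        left_inv := fun j => Subtype.ext (show (j : G) * w * w = j by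
          rw [mul_assoc, hw2', mul_one])
        right_inv := fun i => Subtype.ext (show (i : G) * w * w = i by
          rw [mul_assoc, hw2', mul_one]) }
    · obtain ⟨hjD, hj⟩ := (hmemA _).mp j.2
      exact hswap ⟨j, hjD⟩ (Subtype.ext hj)
    · exact mem_pair.mpr ⟨mul_mem i.2.1 hw, by rw [mul_smul, hwa, swap_symm i.2.2.1 i.2.2.2],
        by rw [mul_smul, hwb, i.2.2.2]⟩
    · rw [mul_inv_rev, inv_eq_of_orderOf_eq_two i.2.2.1, hwi,
        show w * ((i : G) * w) * w = w * i * (w * w) by group, hw2', mul_one]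
  have hAcG : ∀ x ∈ A, ∀ y ∈ A, x * y = y * x := by
    rintro _ ⟨x, hx, rfl⟩ _ ⟨y, hy, rfl⟩
    exact congrArg Subtype.val (hAc x hx y hy)
  have hsq : ∀ x ∈ A, ∀ y ∈ A, x * x = y * y → x = y := by
    intro x hx y hy h
    have hm : y⁻¹ * x ∈ A := mul_mem (inv_mem hy) hx
    refine (inv_mul_eq_one.mp (hodd_sq _ (hAD hm) ?_)).symm
    rw [← mul_eq_one_iff_eq_inv,
      show y⁻¹ * x * (y⁻¹ * x) = y⁻¹ * (x * y⁻¹) * x by group, hAcG x hx _ (inv_mem hy),
      show y⁻¹ * (y⁻¹ * x) * x = (y * y)⁻¹ * (x * x) by group, h, inv_mul_cancel]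
  have hdec : ∀ d ∈ D, ∃ j ∈ A, ∃ f ∈ D, Commute f w ∧ d = j * f := by
    intro d hd
    obtain ⟨hdS, hda, hdb⟩ := mem_pair.mp hd
    let f : A → {i : G // i ∈ S ∧ orderOf i = 2 ∧ i • a = b} := fun j =>
      ⟨(j : G) * w * (j : G)⁻¹, conj_mem_of_mem (mem_pair.mp (hAD j.2)).1 hw,
        by rw [orderOf_conj, hw2], by
          obtain ⟨-, hja, hjb⟩ := mem_pair.mp (hAD j.2)
          rw [mul_smul, mul_smul, inv_smul_eq_iff.mpr hja.symm, hwa, hjb]⟩
    have hjw : ∀ j ∈ A, j * w * j⁻¹ = j * j * w := fun j hj => by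
      have e := ((hmemA j).mp hj).2
      have e' : w * j⁻¹ = j * w := by rw [← e, hwi, ← mul_assoc, ← mul_assoc, hw2', one_mul]
      rw [mul_assoc, e', mul_assoc]
    have hinj : Function.Injective f := fun x y h => by
      have h' : (x : G) * w * (x : G)⁻¹ = y * w * (y : G)⁻¹ := congrArg Subtype.val h
      rw [hjw _ x.2, hjw _ y.2] at h'
      exact Subtype.ext (hsq _ x.2 _ y.2 (mul_right_cancel h'))
    have hsurj := (hinj.bijective_of_nat_card_le (le_of_eq
      (((hS.card_swap ha hb).trans (invBar_eq_card hF a).symm).trans hcard.symm))).2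
    obtain ⟨j, hj⟩ := hsurj ⟨d * w * d⁻¹, conj_mem_of_mem hdS hw, by rw [orderOf_conj, hw2],
      by rw [mul_smul, mul_smul, inv_smul_eq_iff.mpr hda.symm, hwa, hdb]⟩
    have hj' : (j : G) * w * (j : G)⁻¹ = d * w * d⁻¹ := congrArg Subtype.val hj
    refine ⟨j, j.2, (j : G)⁻¹ * d, mul_mem (inv_mem (hAD j.2)) hd, ?_, by group⟩
    show (j : G)⁻¹ * d * w = w * ((j : G)⁻¹ * d)
    calc (j : G)⁻¹ * d * w = (j : G)⁻¹ * (d * w * d⁻¹) * d := by group
      _ = w * ((j : G)⁻¹ * d) := by rw [← hj']; group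
  refine ⟨A, Set.ext hmemA, hAD, fun d hd => ?_, ?_, hcard, hfpf, ?_, hdec⟩
  · refine Subgroup.mem_normalizer_iff.mpr fun g => ?_
    suffices key : ∀ d ∈ D, ∀ g ∈ A, d * g * d⁻¹ ∈ A from
      ⟨key d hd g, fun h => by simpa [mul_assoc] using key d⁻¹ (inv_mem hd) _ h⟩
    intro d hd g hg
    obtain ⟨j, hj, f, hf, hfw, rfl⟩ := hdec d hd
    have hm : f * g * f⁻¹ ∈ A := by
      obtain ⟨hgD, hgi⟩ := (hmemA g).mp hg
      refine (hmemA _).mpr ⟨mul_mem (mul_mem hf hgD) (inv_mem hf), ?_⟩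
      calc w * (f * g * f⁻¹) * w⁻¹ = (w * f) * g * (w * f)⁻¹ := by group
        _ = f * (w * g * w⁻¹) * f⁻¹ := by rw [← hfw.eq]; group
        _ = (f * g * f⁻¹)⁻¹ := by rw [hgi]; group
    rw [show j * f * g * (j * f)⁻¹ = j * (f * g * f⁻¹) * j⁻¹ by group, hAcG j hj _ hm,
      mul_inv_cancel_right]
    exact hm
  · haveI : IsCyclic A₀ := isCyclic_of_injective π fun x y h => by
      have h' : QuotientGroup.mk' ψ.ker (x : D) = QuotientGroup.mk' ψ.ker (y : D) :=
        congrArg Subtype.val h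
      exact Subtype.ext (inv_mul_eq_one.mp (hAker _ (mul_mem (inv_mem x.2) y.2)
        (QuotientGroup.eq.mp h')))
    exact isCyclic_of_surjective (A₀.equivMapOfInjective D.subtype D.subtype_injective).toMonoidHom
      (MulEquiv.surjective _)
  · intro t ht ht2 hta t' ht' ht'2 ht'a
    let f : A → {t : G // t ∈ S ∧ orderOf t = 2 ∧ t • a = a} := fun j =>
      ⟨(j : G) * t * (j : G)⁻¹, conj_mem_of_mem (mem_pair.mp (hAD j.2)).1 ht,
        by rw [orderOf_conj, ht2], by
          have h := conj_smul_of_smul (g := (j : G)) hta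
          rwa [(mem_pair.mp (hAD j.2)).2.1] at h⟩
    have hinj : Function.Injective f := by
      intro x y h
      have h' : (x : G) * t * (x : G)⁻¹ = y * t * (y : G)⁻¹ := congrArg Subtype.val h
      have hc : Commute ((y : G)⁻¹ * x) t := by
        show (y : G)⁻¹ * x * t = t * ((y : G)⁻¹ * x)
        calc (y : G)⁻¹ * x * t = (y : G)⁻¹ * (x * t * (x : G)⁻¹) * x := by group
          _ = t * ((y : G)⁻¹ * x) := by rw [h']; group
      exact Subtype.ext
        (inv_mul_eq_one.mp (hfpf _ (mul_mem (inv_mem y.2) x.2) t ht ht2 hta hc)).symm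
    have hsurj := (hinj.bijective_of_nat_card_le (le_of_eq
      ((invBar_eq_card hF a).symm.trans hcard.symm))).2
    obtain ⟨j, hj⟩ := hsurj ⟨t', ht', ht'2, ht'a⟩
    exact ⟨j, j.2, congrArg Subtype.val hj⟩

end Cfsg.Agent.H53.SE
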