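import Cfsg.Agent.H53.SE.PairSylow
import Cfsg.Agent.Cores.SE.CoreTwo
import Cfsg.Agent.OddOrder.BG3.FixLine
import Cfsg.Agent.Cores.Fitting
import Cfsg.Agent.Coprime.Action
import Cfsg.Agent.S0044
import Cfsg.Agent.S0009
import Cfsg.Agent.S0205

/-!
When the `2`-elements of a point stabiliser `H` centralise the involutions at the point and `R` is a
minimal normal odd abelian subgroup of `H`, the centraliser of `R` is transitive on the other
points: `H = C_H(R) D`.
-/

set_option autoImplicit false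
set_option linter.style.haveILetI false
set_option maxHeartbeats 1000000

namespace Cfsg.Agent.H53.SE

open Subgroup MulAction
open scoped commutatorElement
open Cfsg.Agent.H39
open Cfsg.Agent.H73.Bender
open Cfsg.Agent.Cores.SE

universe u v

theorem pCore_le_map_sylow {H Q : Type*} [Group H] [Finite H] [Group Q] {f : H →* Q}
    (hf : Function.Surjective f) {p : ℕ} [Fact p.Prime] (P : Sylow p H) :
    Cfsg.pCore p Q ≤ (P : Subgroup H).map f := by
  haveI : Finite Q := Finite.of_surjective f hf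
  exact Cores.pCore_le_sylow (P.mapSurjective hf)

/-- An element of order `p` of a cyclic group generates every element killed by `p`. -/
theorem mem_zpowers_of_pow_eq_one {A : Type*} [Group A] [Finite A] [IsCyclic A] {p : ℕ}
    (hp : 0 < p) {a b : A} (ha : orderOf a = p) (hb : b ^ p = 1) : b ∈ zpowers a := by
  classical
  haveI := Fintype.ofFinite A
  by_contra hnot
  have hsub : insert b (Finset.univ.filter fun c : A => c ∈ zpowers a) ⊆
      Finset.univ.filter fun c : A => c ^ p = 1 := by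
    intro c hc
    simp only [Finset.mem_insert, Finset.mem_filter, Finset.mem_univ, true_and] at hc ⊢
    rcases hc with rfl | hc
    · exact hb
    · obtain ⟨n, rfl⟩ := mem_zpowers_iff.mp hc
      rw [← zpow_natCast, ← zpow_mul, mul_comm, zpow_mul, zpow_natCast, ← ha, pow_orderOf_eq_one,
        one_zpow]
  have hle := (Finset.card_le_card hsub).trans (IsCyclic.card_pow_eq_one_le hp)
  rw [Finset.card_insert_of_notMem (by simpa using hnot), ← Fintype.card_subtype,
    ← Nat.card_eq_fintype_card,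
    show Nat.card {c : A // c ∈ zpowers a} = p from (Nat.card_zpowers a).trans ha] at hle
  omega

variable {G : Type u} [Group G] [Finite G]

/-- A non-trivial subgroup contains a minimal one normalised by a given group. -/
theorem exists_minimal_normalised {H R₀ : Subgroup G} (hn : H ≤ normalizer (R₀ : Set G))
    (h1 : R₀ ≠ ⊥) :
    ∃ R : Subgroup G, R ≤ R₀ ∧ R ≠ ⊥ ∧ H ≤ normalizer (R : Set G) ∧
      ∀ R' : Subgroup G, R' ≤ R → H ≤ normalizer (R' : Set G) → R' ≠ ⊥ → R' = R := by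
  haveI : Nonempty {R : Subgroup G // R ≤ R₀ ∧ R ≠ ⊥ ∧ H ≤ normalizer (R : Set G)} :=
    ⟨⟨R₀, le_rfl, h1, hn⟩⟩
  obtain ⟨⟨R, hR, hR1, hRn⟩, hmin⟩ := Finite.exists_min
    fun R : {R : Subgroup G // R ≤ R₀ ∧ R ≠ ⊥ ∧ H ≤ normalizer (R : Set G)} => Nat.card R.1
  exact ⟨R, hR, hR1, hRn, fun R' hle hn' h' =>
    Subgroup.eq_of_le_of_card_ge hle (hmin ⟨R', hle.trans hR, h', hn'⟩)⟩

variable {Ω : Type v} [MulAction G Ω] [Finite Ω] {S : Subgroup G} {C : Set Ω}

/-- `H = C_H(R) D`. -/
theorem exists_centStab_mul_pair (hS : SE S C) (h2 : RankTwo S) (hF : Faithful S C) (hG : Good S C)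
    (hIH : CoreBelow S Ω) {c z : Ω} (hc : c ∈ C) (hz : z ∈ C) (hcz : c ≠ z) {R : Subgroup G}
    (hR : R ≤ ptStab S c) (hRodd : Odd (Nat.card R)) (hRn : ptStab S c ≤ normalizer (R : Set G))
    (hR1 : R ≠ ⊥) (hRab : IsMulCommutative R)
    (hmin : ∀ R' : Subgroup G, R' ≤ R → ptStab S c ≤ normalizer (R' : Set G) → R' ≠ ⊥ → R' = R)
    {p : ℕ} [Fact p.Prime] (hdvd : p ∣ invBar S C c)
    (hH1 : ∀ v ∈ ptStab S c, (∃ k, orderOf v = 2 ^ k) →
      ∀ t ∈ S, orderOf t = 2 → t • c = c → Commute v t) :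
    (∀ h ∈ ptStab S c, ∃ k ∈ centStab S c R, ∃ d ∈ pair S c z, h = k * d) ∧
    (∀ h ∈ ptStab S c ⊓ centralizer (invGen S c : Set G), ∃ k ∈ centStab S c R,
      ∃ d ∈ pair S c z ⊓ centralizer (invGen S c : Set G), h = k * d) ∧
    (∀ y ∈ C, y ≠ c → ∃ k ∈ centStab S c R, k • z = y) := by
  classical
  set H : Subgroup G := ptStab S c with hHdef
  set C₀ : Subgroup G := centStab S c R with hC₀
  have hC₀H : C₀ ≤ H := inf_le_left
  have hC₀n : H ≤ normalizer (C₀ : Set G) := ptStab_le_normalizer_centStab hRn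
  obtain ⟨P, -, hP⟩ := H29.Bender.exists_isSyl_ge (q := p) (D := pair S c z) bot_le IsPGroup.of_bot
  obtain ⟨hPs, hPcyc, hexact, -, hpK, x, hxP, hxp⟩ :=
    pairSylow_struct hS h2 hF hG hIH hc hz hcz hR hRodd hRn hR1 hRab hdvd hP
  have hPH : P ≤ H := hPs.le
  have hx1 : x ≠ 1 := fun h => (Fact.out : p.Prime).ne_one (by rw [← hxp, h, orderOf_one])
  have hxz : x • z = z := (mem_pair.mp (hP.le hxP)).2.2
  have hxonly : ∀ y ∈ C, x • y = y → y = c ∨ y = z := hexact x hxP hx1
  have hpC : ¬ p ∣ Nat.card C₀ := not_dvd_card_centStab hS h2 hF hG hIH hc hR hRodd hRn hR1 hdvd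
  obtain ⟨T, -, -, hTC, -, hall, -, -⟩ := exists_block_data hS h2 hF hG hIH hc hz hcz hR hRodd hRn
    hR1 hRab Fact.out hxp (hPH hxP) hxz hxonly hpK hH1
  -- the prime of `R`
  obtain ⟨r, hr, hrd⟩ := Nat.exists_prime_and_dvd (fun h => hR1 (Subgroup.card_eq_one.mp h))
  haveI : Fact r.Prime := ⟨hr⟩
  letI : CommGroup R := { (inferInstance : Group R) with mul_comm := hRab.is_comm.comm }
  have hexp : ∀ g ∈ R, g ^ r = 1 := by
    set R' : Subgroup G := ((powMonoidHom r : R →* R).ker).map R.subtype with hR'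
    have hmem : ∀ g, g ∈ R' ↔ g ∈ R ∧ g ^ r = 1 := fun g => by
      constructor
      · rintro ⟨⟨a, ha⟩, hk, rfl⟩
        exact ⟨ha, congrArg Subtype.val hk⟩
      · rintro ⟨hg, hg'⟩
        exact ⟨⟨g, hg⟩, Subtype.ext hg', rfl⟩
    have hne : R' ≠ ⊥ := by
      obtain ⟨a, ha⟩ := exists_prime_orderOf_dvd_card' (G := R) r hrd
      intro h
      have : (a : G) ∈ R' := (hmem _).mpr ⟨a.2, by
        rw [← ha, ← Subgroup.orderOf_coe, pow_orderOf_eq_one]⟩
      rw [h, mem_bot, ← orderOf_eq_one_iff, Subgroup.orderOf_coe, ha] at this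
      exact hr.ne_one this
    have hn' : H ≤ normalizer (R' : Set G) := fun g hg => Subgroup.mem_normalizer_iff.mpr fun a => by
      rw [hmem, hmem, ← Subgroup.mem_normalizer_iff.mp (hRn hg) a, conj_pow, conj_eq_one_iff]
    intro g hg
    have heq := hmin R' (map_subtype_le _) hn' hne
    exact ((hmem g).mp (heq.symm ▸ hg)).2
  have hpr : r ≠ p := by
    rintro rfl
    exact hpC (hrd.trans (card_dvd_of_le fun g hg => mem_centStab.mpr ⟨mem_ptStab.mp (hR hg),
      fun s hs => congrArg Subtype.val (hRab.is_comm.comm ⟨s, hs⟩ ⟨g, hg⟩)⟩))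
  have hxR : R ⊓ centralizer ({x} : Set G) = ⊥ := by
    refine eq_bot_iff.mpr fun g hg => mem_bot.mpr ?_
    exact eq_one_of_commute hS h2 hF hG hIH hc hz hcz hR hRodd hRn hR1 hRab hdvd (hP.le hxP) hxp
      hg.1 (mem_centralizer_singleton_iff.mp hg.2).symm
  -- the quotient by `C_H(R)`
  set N : Subgroup H := C₀.subgroupOf H with hN
  haveI hNn : N.Normal := Subgroup.normal_subgroupOf_of_le_normalizer hC₀n
  set f := QuotientGroup.mk' N with hf
  have hfs : Function.Surjective f := QuotientGroup.mk'_surjective N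
  have hQodd : Odd (Nat.card (H ⧸ N)) := by
    rw [← Nat.not_even_iff_odd, even_iff_two_dvd]
    intro h
    obtain ⟨g', hg'⟩ := exists_prime_orderOf_dvd_card' 2 h
    obtain ⟨g, rfl⟩ := hfs g'
    obtain ⟨i, b, hb, hib⟩ := Nat.exists_eq_two_pow_mul_odd (orderOf_pos g).ne'
    have hgb : g ^ b ∈ N := mem_subgroupOf.mpr (hTC (hall _ (g ^ b).2 ⟨i, by
      rw [Subgroup.orderOf_coe, orderOf_pow_of_dvd hb.pos.ne' (hib ▸ dvd_mul_left _ _), hib,
        Nat.mul_div_cancel _ hb.pos]⟩))
    have h' : f g ^ b = 1 := by rw [← map_pow]; exact (QuotientGroup.eq_one_iff _).mpr hgb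
    have h2d := orderOf_dvd_of_pow_eq_one h'
    rw [hg'] at h2d
    exact (Nat.not_even_iff_odd.mpr hb) (even_iff_two_dvd.mpr h2d)
  haveI : Group.IsSolvable (H ⧸ N) := Cfsg.Agent.S0205.result hQodd
  set xH : H := ⟨x, hPH hxP⟩ with hxH
  -- the image of `P`
  obtain ⟨PH, hPHeq⟩ := hPs.exists_sylow
  have hPbar : ∀ y ∈ Cfsg.pCore p (H ⧸ N), ∃ a : H, (a : G) ∈ P ∧ f a = y := fun y hy => by
    obtain ⟨a, ha, rfl⟩ := pCore_le_map_sylow hfs PH hy
    exact ⟨a, hPHeq ▸ mem_map_of_mem H.subtype ha, rfl⟩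
  haveI := hPcyc
  have hPc : ∀ a ∈ P, ∀ b ∈ P, a * b = b * a := fun a ha b hb => by
    letI := IsCyclic.commGroup (α := P)
    exact congrArg Subtype.val (mul_comm (⟨a, ha⟩ : P) ⟨b, hb⟩)
  -- `x` centralises every `O_s`
  have hcore : ∀ s : ℕ, s.Prime → ∀ y ∈ Cfsg.pCore s (H ⧸ N), Commute y (f xH) := by
    intro s hs y hy
    haveI := Fact.mk hs
    by_cases hsp : s = p
    · subst hsp
      obtain ⟨a, haP, rfl⟩ := hPbar y hy
      exact (show Commute a xH from Subtype.ext (hPc _ haP _ hxP)).map f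
    set M : Subgroup H := (Cfsg.pCore s (H ⧸ N)).comap f with hM
    have hNM : N ≤ M := fun n hn => by
      rw [hM, mem_comap, show f n = 1 from (QuotientGroup.eq_one_iff n).mpr hn]
      exact one_mem _
    haveI : M.Normal := inferInstance
    set MG : Subgroup G := M.map H.subtype with hMG
    have hMGH : MG ≤ H := map_subtype_le _
    have hMGn : H ≤ normalizer (MG : Set G) := fun g hg =>
      le_normalizer_map H.subtype ⟨⟨g, hg⟩, by rw [normalizer_eq_top]; trivial, rfl⟩
    by_cases hsr : s = r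
    · subst s
      -- a normal `r`-subgroup of `H / C_H(R)` is trivial
      let φ : H →* MulAut R := (Subgroup.normalizerMonoidHom R).comp (Subgroup.inclusion hRn)
      have hφN : N ≤ φ.ker := fun n hn => MonoidHom.mem_ker.mpr (MulEquiv.ext fun a => Subtype.ext
        (show (n : G) * a * (n : G)⁻¹ = a by
          rw [← ((mem_centStab.mp (mem_subgroupOf.mp hn)).2 a a.2).eq, mul_inv_cancel_right]))
      have hpg : IsPGroup r (M.map φ) := by
        rw [show φ = (QuotientGroup.lift N φ hφN).comp f from rfl, ← Subgroup.map_map]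
        exact (Cores.pCore_isPGroup.to_le (map_comap_le _ _)).map _
      obtain ⟨a, hafix, ha1⟩ := hpg.exists_fixed_point_of_prime_dvd_card_of_fixed_point R hrd
        (a := 1) (fun m => map_one (m : MulAut R))
      set R' : Subgroup G := R ⊓ centralizer (MG : Set G) with hR'
      have haR' : (a : G) ∈ R' := by
        refine ⟨a.2, mem_centralizer_iff.mpr ?_⟩
        rintro _ ⟨m, hm, rfl⟩
        have e : (m : G) * a * (m : G)⁻¹ = a :=
          congrArg Subtype.val (hafix ⟨φ m, mem_map_of_mem φ hm⟩)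
        exact mul_inv_eq_iff_eq_mul.mp e
      have hR'ne : R' ≠ ⊥ := fun h => ha1 (Subtype.ext (mem_bot.mp (h ▸ haR'))).symm
      have hR'n : H ≤ normalizer (R' : Set G) := by
        have key : ∀ g ∈ H, ∀ b ∈ R', g * b * g⁻¹ ∈ R' := by
          intro g hg b hb
          refine ⟨(Subgroup.mem_normalizer_iff.mp (hRn hg) b).mp hb.1,
            mem_centralizer_iff.mpr fun m hm => ?_⟩
          have h := mem_centralizer_iff.mp hb.2 _
            ((Subgroup.mem_normalizer_iff''.mp (hMGn hg) m).mp hm)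
          calc m * (g * b * g⁻¹) = g * (g⁻¹ * m * g * b) * g⁻¹ := by group
            _ = g * b * g⁻¹ * m := by rw [h]; group
        exact fun g hg => Subgroup.mem_normalizer_iff.mpr fun b => ⟨key g hg b, fun h => by
          simpa [mul_assoc] using key g⁻¹ (inv_mem hg) _ h⟩
      have heq := hmin R' inf_le_left hR'n hR'ne
      obtain ⟨m, rfl⟩ := hfs y
      have hmN : m ∈ N := mem_subgroupOf.mpr (mem_centStab.mpr ⟨mem_ptStab.mp m.2, fun b hb =>
        ((mem_centralizer_iff.mp (heq.symm ▸ hb : b ∈ R').2 _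
          (mem_map_of_mem H.subtype (hy : m ∈ M))).symm : _)⟩)
      rw [show f m = 1 from (QuotientGroup.eq_one_iff m).mpr hmN]
      exact Commute.one_left _
    -- an `x`-invariant Sylow `s`-subgroup of the preimage
    have hpM : ¬ p ∣ Nat.card MG := by
      intro hd
      rw [hMG, card_map_of_injective H.subtype_injective] at hd
      obtain ⟨g, hg⟩ := exists_prime_orderOf_dvd_card' (G := M) p hd
      obtain ⟨k, hk⟩ := IsPGroup.iff_orderOf.mp Cores.pCore_isPGroup
        (⟨f g, g.2⟩ : Cfsg.pCore s (H ⧸ N))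
      have h1 : orderOf (f (g : H)) ∣ p := by
        have := orderOf_map_dvd f (g : H)
        rwa [Subgroup.orderOf_coe, hg] at this
      replace hk : orderOf (f (g : H)) = s ^ k := (Subgroup.orderOf_coe _).trans hk
      rcases (Nat.dvd_prime Fact.out).mp h1 with h | h
      · have hgN : (g : H) ∈ N := (QuotientGroup.eq_one_iff _).mp (orderOf_eq_one_iff.mp h)
        refine hpC ?_
        rw [← hg, ← Subgroup.orderOf_coe g, ← Subgroup.orderOf_coe (g : H)]
        exact Subgroup.orderOf_dvd_natCard C₀ (mem_subgroupOf.mp hgN)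
      · have hd : p ∣ s ^ k := by rw [← hk, h]
        exact hsp ((Nat.prime_dvd_prime_iff_eq Fact.out hs).mp
          ((Fact.out : p.Prime).dvd_of_dvd_pow hd)).symm
    have hcop : (Nat.card (zpowers x)).Coprime (Nat.card MG) := by
      rw [Nat.card_zpowers, hxp]
      exact (Fact.out : p.Prime).coprime_iff_not_dvd.mpr hpM
    obtain ⟨P', hP'⟩ := Coprime.exists_invariant_sylow (A := zpowers x) (K := MG)
      (zpowers_le.mpr (hMGn (hPH hxP))) hcop (Or.inl (Coprime.isSolvable_zpowers x)) s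
    set Q : Subgroup G := (P' : Subgroup MG).map MG.subtype with hQ
    have hQH : Q ≤ H := (map_subtype_le _).trans hMGH
    have hQpg : IsPGroup s Q := P'.2.map _
    -- every element of `O_s` comes from `Q`
    obtain ⟨q, hqQ, hqy⟩ : ∃ q : H, (q : G) ∈ Q ∧ f q = y := by
      let g : MG →* Cfsg.pCore s (H ⧸ N) :=
        (f.comp (Subgroup.inclusion hMGH)).codRestrict _ fun a => by
          obtain ⟨b, hb, hba⟩ := a.2
          have e : Subgroup.inclusion hMGH a = b := Subtype.ext hba.symm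
          show f (Subgroup.inclusion hMGH a) ∈ _
          rw [e]
          exact hb
      have hg : Function.Surjective g := by
        rintro ⟨w, hw⟩
        obtain ⟨b, rfl⟩ := hfs w
        exact ⟨⟨b, mem_map_of_mem H.subtype (hw : b ∈ M)⟩, Subtype.ext rfl⟩
      have htop : (P'.mapSurjective hg : Subgroup (Cfsg.pCore s (H ⧸ N))) = ⊤ :=
        ((P'.mapSurjective hg).is_maximal'
          (Cores.pCore_isPGroup.to_subgroup ⊤) le_top).symm
      obtain ⟨a, ha, hay⟩ := htop.ge (mem_top (⟨y, hy⟩ : Cfsg.pCore s (H ⧸ N)))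
      exact ⟨Subgroup.inclusion hMGH a, ⟨a, ha, rfl⟩, congrArg Subtype.val hay⟩
    by_cases hs2 : s = 2
    · subst hs2
      obtain ⟨k, hk⟩ := IsPGroup.iff_orderOf.mp Cores.pCore_isPGroup
        (⟨y, hy⟩ : Cfsg.pCore 2 (H ⧸ N))
      replace hk : orderOf y = 2 ^ k := (Subgroup.orderOf_coe _).trans hk
      have hy1 : y = 1 := orderOf_eq_one_iff.mp (Nat.eq_one_of_dvd_coprimes
        (hQodd.coprime_two_left.pow_left k) (hk ▸ dvd_rfl) (orderOf_dvd_natCard y))
      rw [hy1]
      exact Commute.one_left _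
    obtain ⟨k, hk⟩ := IsPGroup.iff_card.mp hQpg
    have hnd : ∀ l : ℕ, l.Prime → l ≠ s → ¬ l ∣ Nat.card Q := fun l hl hne hd =>
      hne ((Nat.prime_dvd_prime_iff_eq hl hs).mp (hl.dvd_of_dvd_pow (hk ▸ hd)))
    have hle := OddOrder.BG3.commutator_le_centralizer_odd (l := r) (r := p) R hRab hexp
      (by rw [← hxp, pow_orderOf_eq_one]) hpr (hRn (hPH hxP)) hxR Q (hQH.trans hRn)
      (hP' (mem_zpowers x)) (hnd r hr (Ne.symm hsr)) (hnd p Fact.out (Ne.symm hsp))
      (hk ▸ (hs.odd_of_ne_two hs2).pow)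
    have hmem : (⁅xH, q⁆ : H) ∈ N := mem_subgroupOf.mpr (mem_centStab.mpr
      ⟨mem_ptStab.mp (⁅xH, q⁆ : H).2, fun b hb =>
        mem_centralizer_iff.mp (hle (commutator_mem_commutator (mem_zpowers x) hqQ)) b hb⟩)
    have h1 : f ⁅xH, q⁆ = 1 := (QuotientGroup.eq_one_iff _).mpr hmem
    rw [map_commutatorElement, commutatorElement_eq_one_iff_mul_comm] at h1
    rw [← hqy]
    exact h1.symm
  -- so `⟨x⟩` is normal modulo `C_H(R)`
  have hxF : f xH ∈ Cfsg.fittingSubgroup (H ⧸ N) := by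
    refine Cfsg.Agent.S0044.result (mem_centralizer_iff.mpr fun g hg => ?_)
    have hle : Cfsg.fittingSubgroup (H ⧸ N) ≤ centralizer ({f xH} : Set (H ⧸ N)) := by
      rw [Cfsg.Agent.S0009.result]
      exact iSup_le fun s y hy => mem_centralizer_singleton_iff.mpr (hcore s s.2 y hy).eq
    exact mem_centralizer_singleton_iff.mp (hle hg)
  have hxC : f xH ≠ 1 := fun h => hpC (by
    rw [← hxp]
    exact Subgroup.orderOf_dvd_natCard C₀ (mem_subgroupOf.mp ((QuotientGroup.eq_one_iff xH).mp h)))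
  have hxord : orderOf (f xH) = p := by
    refine ((Nat.dvd_prime Fact.out).mp ?_).resolve_left (mt orderOf_eq_one_iff.mp hxC)
    have := orderOf_map_dvd f xH
    rwa [← Subgroup.orderOf_coe, hxp] at this
  have hxpc : f xH ∈ Cfsg.pCore p (H ⧸ N) := Cores.le_pCore_of_le_sup
    (IsPGroup.of_card (n := 1) (by rw [Nat.card_zpowers, hxord, pow_one]))
    (zpowers_le.mpr (Cores.iSup_pCore_le_sup p
      ((le_of_eq Cores.iSup_pCore_eq_fittingSubgroup) hxF)))
    (mem_zpowers _)
  have hconj : ∀ h : H, f (h * xH * h⁻¹) ∈ zpowers (f xH) := by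
    intro h
    set y := f (h * xH * h⁻¹) with hy
    have hy' : y ∈ Cfsg.pCore p (H ⧸ N) := by
      rw [hy, map_mul, map_mul, map_inv]
      exact (Cfsg.pCore_normal p (H ⧸ N)).conj_mem _ hxpc (f h)
    set B : Subgroup (H ⧸ N) := (PH : Subgroup H).map f with hB
    haveI : IsCyclic (PH : Subgroup H) := by
      have e : (PH : Subgroup H) ≃* P :=
        ((PH : Subgroup H).equivMapOfInjective H.subtype H.subtype_injective).trans
          (MulEquiv.subgroupCongr hPHeq)
      exact isCyclic_of_surjective e.symm.toMonoidHom e.symm.surjective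
    haveI : IsCyclic B :=
      isCyclic_of_surjective (f.subgroupMap (PH : Subgroup H)) (f.subgroupMap_surjective _)
    have hord : (⟨y, pCore_le_map_sylow hfs PH hy'⟩ : B) ^ p = 1 := Subtype.ext (by
      show y ^ p = 1
      rw [hy, ← map_pow, conj_pow, show xH ^ p = 1 from Subtype.ext
        (show x ^ p = 1 by rw [← hxp, pow_orderOf_eq_one]), mul_one, mul_inv_cancel, map_one])
    obtain ⟨n, hn⟩ := mem_zpowers_iff.mp (mem_zpowers_of_pow_eq_one (Fact.out : p.Prime).pos
      (a := (⟨f xH, pCore_le_map_sylow hfs PH hxpc⟩ : B))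
      (by rw [Subgroup.orderOf_mk, hxord]) hord)
    exact mem_zpowers_iff.mpr ⟨n, congrArg Subtype.val hn⟩
  -- Frattini
  set M₁ : Subgroup G := C₀ ⊔ zpowers x with hM₁
  have hM₁mem : ∀ g ∈ M₁, ∃ k ∈ C₀, ∃ i : ℤ, g = k * x ^ i := by
    intro g hg
    rw [hM₁, ← SetLike.mem_coe, coe_mul_of_right_le_normalizer_left C₀ (zpowers x)
      (zpowers_le.mpr (hC₀n (hPH hxP)))] at hg
    obtain ⟨k, hk, a, ha, rfl⟩ := hg
    obtain ⟨i, rfl⟩ := mem_zpowers_iff.mp ha
    exact ⟨k, hk, i, rfl⟩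
  have hsyl : ∀ y ∈ M₁, orderOf y = p → H29.Bender.IsSyl p M₁ (zpowers y) := by
    intro y hy hyp
    refine ⟨zpowers_le.mpr hy, IsPGroup.of_card (n := 1) (by rw [Nat.card_zpowers, hyp, pow_one]),
      fun A hA hAp => ?_⟩
    obtain ⟨k, hk⟩ := IsPGroup.iff_card.mp hAp
    have hAH : A ≤ H := hA.trans (sup_le hC₀H (zpowers_le.mpr (hPH hxP)))
    let g : A →* H ⧸ N := f.comp (Subgroup.inclusion hAH)
    have hinj : Function.Injective g := by
      refine (injective_iff_map_eq_one g).mpr fun a ha => ?_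
      by_contra hne
      obtain ⟨n, hn⟩ := IsPGroup.iff_orderOf.mp hAp a
      have haC : (a : G) ∈ C₀ := mem_subgroupOf.mp ((QuotientGroup.eq_one_iff (Subgroup.inclusion hAH a)).mp ha)
      refine hpC ((dvd_pow_self p (n := n) fun h0 => hne (orderOf_eq_one_iff.mp
        (by rw [hn, h0, pow_zero]))).trans ?_)
      rw [← hn, ← Subgroup.orderOf_coe]
      exact Subgroup.orderOf_dvd_natCard C₀ haC
    have hrange : g.range ≤ zpowers (f xH) := by
      rintro _ ⟨a, rfl⟩
      obtain ⟨k, hk, i, hki⟩ := hM₁mem a (hA a.2)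
      refine mem_zpowers_iff.mpr ⟨i, ?_⟩
      have e : Subgroup.inclusion hAH a = ⟨k, hC₀H hk⟩ * xH ^ i := Subtype.ext hki
      show f xH ^ i = f (Subgroup.inclusion hAH a)
      rw [e, map_mul, map_zpow, show f ⟨k, hC₀H hk⟩ = 1 from
        (QuotientGroup.eq_one_iff _).mpr (mem_subgroupOf.mpr hk), one_mul]
    rw [Nat.card_congr (MonoidHom.ofInjective hinj).toEquiv, Nat.card_zpowers, hyp, ← hxord,
      ← Nat.card_zpowers]
    exact Nat.le_of_dvd Nat.card_pos (card_dvd_of_le hrange)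
  have hmain : ∀ h ∈ H, ∃ k ∈ C₀, ∃ d ∈ pair S c z, h = k * d := by
    intro h hh
    have hy : h * x * h⁻¹ ∈ M₁ := by
      obtain ⟨n, hn⟩ := mem_zpowers_iff.mp (hconj ⟨h, hh⟩)
      rw [← map_zpow] at hn
      have hd : (⟨h, hh⟩ * xH * (⟨h, hh⟩ : H)⁻¹) * (xH ^ n)⁻¹ ∈ N := by
        refine (QuotientGroup.eq_one_iff _).mp (show f _ = 1 from ?_)
        rw [map_mul, map_inv, hn, mul_inv_cancel]
      have e : h * x * h⁻¹ = (h * x * h⁻¹ * (x ^ n)⁻¹) * x ^ n := by group
      rw [e]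
      exact mul_mem_sup (mem_subgroupOf.mp hd) (zpow_mem (mem_zpowers x) n)
    obtain ⟨d, hd, hdx⟩ := (hsyl _ hy (by rw [orderOf_conj, hxp])).exists_conj
      (hsyl x (mem_sup_right (mem_zpowers x)) hxp)
    obtain ⟨k, hk, i, hki⟩ := hM₁mem d hd
    have hdH : d ∈ H := (sup_le hC₀H (zpowers_le.mpr (hPH hxP)) : M₁ ≤ H) hd
    set e := d * h with he
    have heH : e ∈ H := mul_mem hdH hh
    have hex : e * x * e⁻¹ ∈ zpowers x := by
      rw [← hdx]
      exact ⟨h * x * h⁻¹, mem_zpowers _, by simp [he, mul_assoc]⟩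
    have hez : e • z = z := by
      have hfix : x • e • z = e • z := by
        have hinv : e⁻¹ * x * e ∈ zpowers x := by
          haveI : Finite G := inferInstance
          have hN' : e ∈ normalizer (zpowers x : Set G) :=
            mem_normalizer_of_conj_mem fun w hw => by
              obtain ⟨n, rfl⟩ := mem_zpowers_iff.mp hw
              rw [← conj_zpow]
              exact zpow_mem hex n
          exact (Subgroup.mem_normalizer_iff''.mp hN' x).mp (mem_zpowers x)
        have h0 := mem_stabilizer_iff.mp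
          ((zpowers_le.mpr (mem_stabilizer_iff.mpr hxz) : zpowers x ≤ stabilizer G z) hinv)
        rw [mul_smul, mul_smul, inv_smul_eq_iff] at h0
        exact h0
      obtain ⟨heS, hec⟩ := mem_ptStab.mp heH
      refine (hxonly _ (hS.smul_mem heS hz) hfix).resolve_left fun h0 => hcz ?_
      exact MulAction.injective e (hec.trans h0.symm)
    have hxiH : x ^ (-i) ∈ H := zpow_mem (hPH hxP) _
    refine ⟨x ^ (-i) * k⁻¹ * (x ^ (-i))⁻¹,
      (Subgroup.mem_normalizer_iff.mp (hC₀n hxiH) _).mp (inv_mem hk), x ^ (-i) * e, ?_, ?_⟩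
    · refine mem_pair.mpr ⟨mul_mem (mem_ptStab.mp hxiH).1 (mem_ptStab.mp heH).1, ?_, ?_⟩
      · rw [mul_smul, (mem_ptStab.mp heH).2, (mem_ptStab.mp hxiH).2]
      · rw [mul_smul, hez]
        exact mem_stabilizer_iff.mp ((zpowers_le.mpr (mem_stabilizer_iff.mpr hxz) :
          zpowers x ≤ stabilizer G z) (zpow_mem (mem_zpowers x) _))
    · rw [he, hki]; group
  refine ⟨hmain, fun h hh => ?_, fun y hy hyc => ?_⟩
  · obtain ⟨k, hk, d, hd, rfl⟩ := hmain h hh.1
    refine ⟨k, hk, d, ⟨hd, ?_⟩, rfl⟩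
    have hkE : k ∈ centralizer (invGen S c : Set G) := by
      refine mem_centralizer_iff.mpr fun g hg => ?_
      have hle : invGen S c ≤ centralizer ({k} : Set G) := (Subgroup.closure_le _).mpr fun t ht =>
        mem_centralizer_singleton_iff.mpr
          (commute_of_mem_centStab hS h2 hF hG hc hR hRn hR1 ht.1 ht.2.1 ht.2.2 hk).symm.eq
      exact mem_centralizer_singleton_iff.mp (hle hg)
    simpa using mul_mem (inv_mem hkE) hh.2
  · obtain ⟨h, hh, hhc, hhy⟩ := good_twoTrans hS h2 hG c hc z hz y hy hcz.symm hyc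
    obtain ⟨k, hk, d, hd, rfl⟩ := hmain h (mem_ptStab.mpr ⟨hh, hhc⟩)
    refine ⟨k, hk, ?_⟩
    rwa [mul_smul, (mem_pair.mp hd).2.2] at hhy

end Cfsg.Agent.H53.SE
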