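import Cfsg.Agent.H53.SE.PairStruct
import Cfsg.Agent.Cores.SE.CoreNilpotent
import Cfsg.Agent.H76.OneMixed.OddTransitive

/-!
Pair Sylow subgroups for a prime dividing the number of involutions at a point, when the point
stabiliser has a non-trivial odd abelian normal subgroup: they are Sylow subgroups of the point
stabiliser, cyclic, inverted by swappers, and their non-trivial elements fix exactly two points.
-/

set_option autoImplicit false
set_option linter.style.haveILetI false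
set_option maxHeartbeats 800000

namespace Cfsg.Agent.H53.SE

open Subgroup MulAction
open Cfsg.Agent.H39
open Cfsg.Agent.H73.Bender
open Cfsg.Agent.Cores.SE

universe u v

variable {G : Type u} [Group G] [Finite G] {Ω : Type v} [MulAction G Ω] [Finite Ω]
  {S : Subgroup G} {C : Set Ω}

/-- An element of prime order `q`, `q` dividing the number of involutions, of a pair stabiliser
centralises no non-trivial element of `R`. -/
theorem eq_one_of_commute (hS : SE S C) (h2 : RankTwo S) (hF : Faithful S C) (hG : Good S C)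
    (hIH : CoreBelow S Ω) {c z : Ω} (hc : c ∈ C) (hz : z ∈ C) (hcz : c ≠ z) {R : Subgroup G}
    (hR : R ≤ ptStab S c) (hRodd : Odd (Nat.card R)) (hRn : ptStab S c ≤ normalizer (R : Set G))
    (hR1 : R ≠ ⊥) (hRab : IsMulCommutative R) {q : ℕ} [Fact q.Prime] (hdvd : q ∣ invBar S C c)
    {y : G} (hy : y ∈ pair S c z) (hyq : orderOf y = q) {r : G} (hr : r ∈ R) (hyr : Commute y r) :
    r = 1 := by
  classical
  obtain ⟨hyS, hyc, hyz⟩ := mem_pair.mp hy
  obtain ⟨hrS, hrc⟩ := mem_ptStab.mp (hR hr)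
  have hrC : r ∈ centStab S c R := mem_centStab.mpr ⟨mem_ptStab.mp (hR hr), fun s hs =>
    congrArg Subtype.val (hRab.is_comm.comm ⟨s, hs⟩ ⟨r, hr⟩)⟩
  by_cases h3 : ∃ e ∈ C, e ≠ c ∧ e ≠ z ∧ y • e = e
  case neg =>
    push Not at h3
    have hyrz : y • r • z = r • z := by rw [← mul_smul, hyr.eq, mul_smul, hyz]
    have hrzc : r • z ≠ c := fun h => hcz (MulAction.injective r (hrc.trans h.symm))
    have hrzz : r • z = z := by
      by_contra hne
      exact h3 (r • z) (hS.smul_mem hrS hz) hrzc hne hyrz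
    exact semiregular_centStab hS h2 hF hG hIH hc hR hRodd hRn hR1 hrC hz hcz.symm hrzz
  obtain ⟨e, he, hec, hez, hye⟩ := h3
  have hfix : ∀ {x : Ω}, y • x = x → ∀ p ∈ zpowers y, p • x = x := fun {x} hx p hp =>
    mem_stabilizer_iff.mp ((zpowers_le.mpr (mem_stabilizer_iff.mpr hx)) hp)
  have hyP : IsPGroup q (zpowers y) :=
    IsPGroup.of_card (n := 1) (by rw [Nat.card_zpowers, hyq, pow_one])
  have h3' : ∃ a ∈ fixedIn C (zpowers y), ∃ b ∈ fixedIn C (zpowers y), ∃ e ∈ fixedIn C (zpowers y),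
      a ≠ b ∧ e ≠ a ∧ e ≠ b :=
    ⟨c, ⟨hc, hfix hyc⟩, z, ⟨hz, hfix hyz⟩, e, ⟨he, hfix hye⟩, hcz, hec, hez⟩
  obtain ⟨t, ht, ht2, htc, hty⟩ := exists_inv_fixed hS hF hG hc hdvd (zpowers y)
    (zpowers_le.mpr hyS) hyP h3' c ⟨hc, hfix hyc⟩
  obtain ⟨i, hi, hi2, hiz, hiy⟩ := exists_inv_fixed hS hF hG hc hdvd (zpowers y)
    (zpowers_le.mpr hyS) hyP h3' z ⟨hz, hfix hyz⟩
  -- a second involution at `c` centralising `y`
  obtain ⟨t', ht', ht'2, ht'c, ht'y, htt'⟩ : ∃ t' ∈ S, orderOf t' = 2 ∧ t' • c = c ∧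
      Commute t' y ∧ t ≠ t' := by
    let J := {i : G // i ∈ S ∧ orderOf i = 2 ∧ i • c = c}
    have hact : ∀ p : zpowers y, ∀ i : J,
        (p : G) * i * (p : G)⁻¹ ∈ S ∧ orderOf ((p : G) * i * (p : G)⁻¹) = 2 ∧
          ((p : G) * i * (p : G)⁻¹) • c = c := by
      rintro ⟨p, hp⟩ ⟨i, hi, hi2, hic⟩
      refine ⟨conj_mem_of_mem (zpowers_le.mpr hyS hp) hi, by rw [orderOf_conj, hi2], ?_⟩
      have h' := conj_smul_of_smul (g := p) hic
      rwa [hfix hyc p hp] at h'
    letI : MulAction (zpowers y) J :=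
      { smul := fun p i => ⟨(p : G) * i * (p : G)⁻¹, hact p i⟩
        one_smul := fun i => Subtype.ext
          (show ((1 : zpowers y) : G) * i * ((1 : zpowers y) : G)⁻¹ = i by simp)
        mul_smul := fun p p' i => Subtype.ext
          (show ((p * p' : zpowers y) : G) * i * ((p * p' : zpowers y) : G)⁻¹ =
            p * (p' * i * (p' : G)⁻¹) * (p : G)⁻¹ by simp [mul_assoc]) }
    have htfix : (⟨t, ht, ht2, htc⟩ : J) ∈ MulAction.fixedPoints (zpowers y) J := fun p =>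
      Subtype.ext (show (p : G) * t * (p : G)⁻¹ = t by
        rw [← (hty p p.2).eq, mul_inv_cancel_right])
    obtain ⟨⟨t', ht', ht'2, ht'c⟩, hfx, hne⟩ :=
      hyP.exists_fixed_point_of_prime_dvd_card_of_fixed_point J
        (by rwa [← invBar_eq_card hF]) htfix
    refine ⟨t', ht', ht'2, ht'c, ?_, fun e => hne (Subtype.ext e)⟩
    have he' : y * t' * y⁻¹ = t' := congrArg Subtype.val (hfx ⟨y, mem_zpowers y⟩)
    exact (show Commute y t' from mul_inv_eq_iff_eq_mul.mp he').symm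
  have hcomm : Commute t t' :=
    commute_involutions hS h2 hF hG hc hR hRodd hRn hR1 ht ht' ht2 ht'2 htc ht'c
  -- the line of the centraliser of `y`
  set T : Subgroup G := S ⊓ centralizer {y} with hT
  have hTS : T ≤ S := inf_le_left
  have hmemT : ∀ k : G, k ∈ S → Commute k y → k ∈ T := fun k hk hky =>
    ⟨hk, mem_centralizer_singleton_iff.mpr hky.eq⟩
  have htT := hmemT t ht (hty y (mem_zpowers y))
  have hiT := hmemT i hi (hiy y (mem_zpowers y))
  have hcL : c ∈ points T C := ⟨hc, t, htT, ht2, htc⟩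
  have hzL : z ∈ points T C := ⟨hz, i, hiT, hi2, hiz⟩
  have hline := hS.line hTS hcL hzL hcz
  have hy1 : y ≠ 1 := fun h => (Fact.out : q.Prime).ne_one (by rw [← hyq, h, orderOf_one])
  have hcard : Nat.card T < Nat.card S := by
    by_contra hle
    have hTeq : T = S := Subgroup.eq_of_le_of_card_ge hTS (not_lt.mp hle)
    refine hy1 ((mem_bot (G := G)).mp ?_)
    rw [← (hF : kernel S C = ⊥)]
    refine mem_kernel.mpr ⟨hyS, fun x hx => ?_⟩
    obtain ⟨k, hk, rfl⟩ := hS.trans hc hx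
    have hky : k * y = y * k := mem_centralizer_singleton_iff.mp (hTeq.symm ▸ hk : k ∈ T).2
    rw [← mul_smul, ← hky, mul_smul, hyc]
  have hT2 : RankTwo T := ⟨t, htT, t', hmemT t' ht' ht'y, ht2, ht'2, htt', hcomm⟩
  set R' : Subgroup G := R ⊓ T with hR'
  have hR'le : R' ≤ ptStab T c := fun g hg =>
    mem_ptStab.mpr ⟨hg.2, (mem_ptStab.mp (hR hg.1)).2⟩
  have hR'n : ptStab T c ≤ normalizer (R' : Set G) := fun g hg => by
    have h := hRn (mem_ptStab.mpr ⟨hTS (mem_ptStab.mp hg).1, (mem_ptStab.mp hg).2⟩)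
    have hgT : g ∈ T := (mem_ptStab.mp hg).1
    refine Subgroup.mem_normalizer_iff.mpr fun k => ⟨fun hk => ⟨(Subgroup.mem_normalizer_iff.mp h k).mp
      hk.1, T.mul_mem (T.mul_mem hgT hk.2) (T.inv_mem hgT)⟩, fun hk =>
      ⟨(Subgroup.mem_normalizer_iff.mp h k).mpr hk.1, ?_⟩⟩
    simpa [mul_assoc] using T.mul_mem (T.mul_mem (T.inv_mem hgT) hk.2) hgT
  have hker := hIH T (points T C) hTS hcard hline hT2 (hG.subline hTS (points_subset T C)) c hcL R'
    hR'le (hRodd.of_dvd_nat (card_dvd_of_le inf_le_left)) hR'n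
    ⟨hr, hmemT r hrS hyr.symm⟩
  exact semiregular_centStab hS h2 hF hG hIH hc hR hRodd hRn hR1 hrC hz hcz.symm
    ((mem_kernel.mp hker).2 z hzL)

/-- A Sylow subgroup of a pair stabiliser, for a prime dividing the number of involutions, is
cyclic. -/
theorem isCyclic_pairSylow (hS : SE S C) (h2 : RankTwo S) (hF : Faithful S C) (hG : Good S C)
    (hIH : CoreBelow S Ω) {c z : Ω} (hc : c ∈ C) (hz : z ∈ C) (hcz : c ≠ z) {R : Subgroup G}
    (hR : R ≤ ptStab S c) (hRodd : Odd (Nat.card R)) (hRn : ptStab S c ≤ normalizer (R : Set G))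
    (hR1 : R ≠ ⊥) (hRab : IsMulCommutative R) {q : ℕ} [Fact q.Prime] (hdvd : q ∣ invBar S C c)
    {P : Subgroup G} (hP : H29.Bender.IsSyl q (pair S c z) P) : IsCyclic P := by
  have hPN : P ≤ normalizer (R : Set G) := fun g hg => by
    obtain ⟨h1, h2, -⟩ := mem_pair.mp (hP.le hg)
    exact hRn (mem_ptStab.mpr ⟨h1, h2⟩)
  letI : CommGroup R := { (inferInstance : Group R) with mul_comm := hRab.is_comm.comm }
  haveI : Nontrivial R := (Subgroup.nontrivial_iff_ne_bot R).mpr hR1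
  let φ : P →* MulAut R := (Subgroup.normalizerMonoidHom R).comp (Subgroup.inclusion hPN)
  haveI : Group.IsNilpotent P := hP.pgroup.isNilpotent
  refine H76.OneMixed.isCyclic_of_fpf ((hS.odd_pair hc hz hcz).of_dvd_nat (card_dvd_of_le hP.le))
    (φ := φ) fun g hg m hm => ?_
  obtain ⟨k, hk⟩ := hP.pgroup g
  obtain ⟨n, hn, hord⟩ : ∃ n : ℕ, g ^ n ≠ 1 ∧ orderOf (g ^ n) = q := by
    obtain ⟨i, -, hi⟩ := (Nat.dvd_prime_pow Fact.out).mp (orderOf_dvd_of_pow_eq_one hk)
    have hi0 : i ≠ 0 := fun h => hg (orderOf_eq_one_iff.mp (by rw [hi, h, pow_zero]))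
    have hord : orderOf (g ^ q ^ (i - 1)) = q := by
      rw [orderOf_pow' g (pow_ne_zero _ (Fact.out : q.Prime).ne_zero), hi,
        Nat.gcd_eq_right (pow_dvd_pow q (Nat.sub_le i 1)), Nat.pow_div (Nat.sub_le i 1)
          (Fact.out : q.Prime).pos, show i - (i - 1) = 1 by omega, pow_one]
    exact ⟨q ^ (i - 1), fun h => (Fact.out : q.Prime).ne_one (by rw [← hord, h, orderOf_one]), hord⟩
  refine Subtype.ext (eq_one_of_commute hS h2 hF hG hIH hc hz hcz hR hRodd hRn hR1 hRab hdvd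
    (hP.le (g ^ n).2) ((Subgroup.orderOf_coe _).trans hord) m.2 ?_)
  have hgm : Commute (g : G) (m : G) :=
    mul_inv_eq_iff_eq_mul.mp (congrArg (fun x : R => (x : G)) hm)
  exact hgm.pow_left n

/-- For `q` dividing the number of involutions at `c`, a Sylow subgroup `P` of the stabiliser of
`(c, z)` is one of the stabiliser of `c`, is cyclic, is inverted by every swapper normalising it, and
its non-trivial elements fix exactly the two points; `q` does not divide the order of the centraliser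
of the involutions at `c`. -/
theorem pairSylow_struct (hS : SE S C) (h2 : RankTwo S) (hF : Faithful S C) (hG : Good S C)
    (hIH : CoreBelow S Ω) {c z : Ω} (hc : c ∈ C) (hz : z ∈ C) (hcz : c ≠ z) {R : Subgroup G}
    (hR : R ≤ ptStab S c) (hRodd : Odd (Nat.card R)) (hRn : ptStab S c ≤ normalizer (R : Set G))
    (hR1 : R ≠ ⊥) (hRab : IsMulCommutative R) {q : ℕ} [Fact q.Prime] (hdvd : q ∣ invBar S C c)
    {P : Subgroup G} (hP : H29.Bender.IsSyl q (pair S c z) P) :
    H29.Bender.IsSyl q (ptStab S c) P ∧ IsCyclic P ∧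
      (∀ g ∈ P, g ≠ 1 → ∀ e ∈ C, g • e = e → e = c ∨ e = z) ∧
      (∀ w ∈ S, orderOf w = 2 → w • c = z → w ∈ normalizer (P : Set G) →
        ∀ g ∈ P, w * g * w⁻¹ = g⁻¹) ∧
      ¬ q ∣ Nat.card (ptStab S c ⊓ centralizer (invGen S c : Set G) : Subgroup G) ∧
      ∃ x ∈ P, orderOf x = q := by
  have hPs : H29.Bender.IsSyl q (ptStab S c) P := isSyl_ptStab_of_pair hS hG hc hdvd hz hcz.symm hP
  have hcyc : IsCyclic P := isCyclic_pairSylow hS h2 hF hG hIH hc hz hcz hR hRodd hRn hR1 hRab hdvd hP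
  obtain ⟨w₀, hw₀, hw₀2, hw₀c⟩ := hS.exists_swap hc hz hcz
  obtain ⟨A, -, hAD, hAn, -, hAcard, hAfpf, -, -⟩ := exists_inverted_subgroup hS hF hG hc hz hcz
    (fun s hs t ht hs2 ht2 hsc htc =>
      commute_involutions hS h2 hF hG hc hR hRodd hRn hR1 hs ht hs2 ht2 hsc htc) hw₀ hw₀2 hw₀c
  -- an element of order `q` of `P` in `A`
  obtain ⟨x, hxP, hxA, hxq⟩ : ∃ x ∈ P, x ∈ A ∧ orderOf x = q := by
    obtain ⟨⟨j, hjA⟩, hj⟩ := exists_prime_orderOf_dvd_card' (G := A) q (hAcard ▸ hdvd)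
    rw [Subgroup.orderOf_mk] at hj
    obtain ⟨P', hjP', hP'⟩ := H29.Bender.exists_isSyl_ge (D := pair S c z) (P := zpowers j)
      (zpowers_le.mpr (hAD hjA)) (IsPGroup.of_card (n := 1) (by rw [Nat.card_zpowers, hj, pow_one]))
    obtain ⟨d, hd, hdP⟩ := hP'.exists_conj hP
    refine ⟨d * j * d⁻¹, hdP ▸ ⟨j, hjP' (mem_zpowers j), rfl⟩,
      (Subgroup.mem_normalizer_iff.mp (hAn hd) j).mp hjA, by rw [orderOf_conj, hj]⟩
  have hx1 : x ≠ 1 := fun h => (Fact.out : q.Prime).ne_one (by rw [← hxq, h, orderOf_one])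
  -- every non-trivial element of `P` has a power equal to `x`
  have hpow : ∀ g ∈ P, g ≠ 1 → x ∈ zpowers g := by
    intro g hg hg1
    haveI := hcyc
    obtain ⟨h, hh⟩ := exists_prime_orderOf_dvd_card' (G := zpowers (⟨g, hg⟩ : P)) q (by
      obtain ⟨k, hk⟩ := IsPGroup.iff_card.mp (hP.pgroup.to_subgroup (zpowers (⟨g, hg⟩ : P)))
      rw [hk]
      refine dvd_pow_self q fun h0 => hg1 (congrArg Subtype.val (?_ : (⟨g, hg⟩ : P) = 1))
      rw [h0, pow_zero, Nat.card_zpowers] at hk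
      exact orderOf_eq_one_iff.mp hk)
    have hx' : (⟨x, hxP⟩ : P) ∈ zpowers (⟨g, hg⟩ : P) := by
      classical
      haveI := Fintype.ofFinite P
      refine (zpowers_le.mpr h.2 : zpowers (h : P) ≤ _) ?_
      by_contra hnot
      have hq0 : 0 < q := (Fact.out : q.Prime).pos
      have hsub : insert (⟨x, hxP⟩ : P) (Finset.univ.filter fun a : P => a ∈ zpowers (h : P)) ⊆
          Finset.univ.filter fun a : P => a ^ q = 1 := by
        intro a ha
        simp only [Finset.mem_insert, Finset.mem_filter, Finset.mem_univ, true_and] at ha ⊢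
        rcases ha with rfl | ha
        · exact Subtype.ext (show x ^ q = 1 by rw [← hxq, pow_orderOf_eq_one])
        · obtain ⟨n, rfl⟩ := mem_zpowers_iff.mp ha
          rw [← zpow_natCast, ← zpow_mul, mul_comm, zpow_mul, zpow_natCast,
            ← hh, ← Subgroup.orderOf_coe, pow_orderOf_eq_one, one_zpow]
      have hle := (Finset.card_le_card hsub).trans (IsCyclic.card_pow_eq_one_le hq0)
      rw [Finset.card_insert_of_notMem (by simpa using hnot), ← Fintype.card_subtype,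
        ← Nat.card_eq_fintype_card] at hle
      rw [show Nat.card {a : P // a ∈ zpowers (h : P)} = q from
        (Nat.card_zpowers (h : P)).trans ((Subgroup.orderOf_coe h).trans hh)] at hle
      omega
    obtain ⟨n, hn⟩ := mem_zpowers_iff.mp hx'
    exact mem_zpowers_iff.mpr ⟨n, congrArg Subtype.val hn⟩
  have hexact : ∀ g ∈ P, g ≠ 1 → ∀ e ∈ C, g • e = e → e = c ∨ e = z := by
    intro g hg hg1 e he hge
    by_contra! hne
    obtain ⟨hxS, hxc, hxz⟩ := mem_pair.mp (hP.le hxP)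
    have hxe : x • e = e :=
      mem_stabilizer_iff.mp ((zpowers_le.mpr (mem_stabilizer_iff.mpr hge)) (hpow g hg hg1))
    have hfix : ∀ {y : Ω}, x • y = y → ∀ p ∈ zpowers x, p • y = y := fun {y} hy p hp =>
      mem_stabilizer_iff.mp ((zpowers_le.mpr (mem_stabilizer_iff.mpr hy)) hp)
    obtain ⟨i, hi, hi2, hic, hix⟩ := exists_inv_fixed hS hF hG hc hdvd (zpowers x)
      (zpowers_le.mpr hxS) (IsPGroup.of_card (n := 1) (by rw [Nat.card_zpowers, hxq, pow_one]))
      ⟨c, ⟨hc, hfix hxc⟩, z, ⟨hz, hfix hxz⟩, e, ⟨he, hfix hxe⟩, hcz, hne.1, hne.2⟩ c ⟨hc, hfix hxc⟩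
    exact hx1 (hAfpf x hxA i hi hi2 hic (hix x (mem_zpowers x)).symm)
  refine ⟨hPs, hcyc, hexact, fun w hw hw2 hwc hwP g hg => ?_, fun hdK => ?_, x, hxP, hxq⟩
  · have hg' : w * g * w⁻¹ ∈ P := (Subgroup.mem_normalizer_iff.mp hwP g).mp hg
    haveI := hcyc
    letI := IsCyclic.commGroup (α := P)
    have hab : g * (w * g * w⁻¹) = w * g * w⁻¹ * g :=
      congrArg Subtype.val (mul_comm (⟨g, hg⟩ : P) ⟨_, hg'⟩)
    have hww : w * (w * g * w⁻¹) * w⁻¹ = g := by
      rw [inv_eq_of_orderOf_eq_two hw2, show w * (w * g * w) * w = (w * w) * g * (w * w) by group,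
        mul_self_of_orderOf_eq_two hw2, one_mul, mul_one]
    have hcm : Commute (g * (w * g * w⁻¹)) w := by
      refine Commute.symm (show w * (g * (w * g * w⁻¹)) = g * (w * g * w⁻¹) * w from ?_)
      have e : w * (g * (w * g * w⁻¹)) * w⁻¹ = g * (w * g * w⁻¹) := by
        rw [show w * (g * (w * g * w⁻¹)) * w⁻¹ = (w * g * w⁻¹) * (w * (w * g * w⁻¹) * w⁻¹) by group,
          hww, hab]
      exact mul_inv_eq_iff_eq_mul.mp e
    obtain ⟨e, he, hwe⟩ := hS.exists_fix hw hw2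
    have hhP : g * (w * g * w⁻¹) ∈ P := mul_mem hg hg'
    by_contra hne
    have hne1 : g * (w * g * w⁻¹) ≠ 1 := fun h => hne (eq_inv_of_mul_eq_one_right h)
    rcases hexact _ hhP hne1 e he
      (hS.fix_of_commute (mem_pair.mp (hP.le hhP)).1 hw hw2 hcm he hwe) with h | h
    · exact hcz ((h ▸ hwe : w • c = c).symm.trans hwc)
    · exact hcz (MulAction.injective w (hwc.trans (h ▸ hwe : w • z = z).symm))
  · obtain ⟨⟨k, hk⟩, hkq⟩ := exists_prime_orderOf_dvd_card' q hdK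
    rw [Subgroup.orderOf_mk] at hkq
    obtain ⟨hkc, hkE⟩ := hk
    obtain ⟨P', hkP', hP'⟩ := H29.Bender.exists_isSyl_ge (D := ptStab S c) (P := zpowers k)
      (zpowers_le.mpr hkc) (IsPGroup.of_card (n := 1) (by rw [Nat.card_zpowers, hkq, pow_one]))
    obtain ⟨d, hd, hdP⟩ := hP'.exists_conj hPs
    have hk' : d * k * d⁻¹ ∈ P := hdP ▸ ⟨k, hkP' (mem_zpowers k), rfl⟩
    have hk'E : d * k * d⁻¹ ∈ ptStab S c ⊓ centralizer (invGen S c : Set G) :=
      (Subgroup.mem_normalizer_iff.mp (ptStab_le_normalizer_centInv c hd) k).mp ⟨hkc, hkE⟩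
    have hk1 : d * k * d⁻¹ ≠ 1 := fun h => (Fact.out : q.Prime).ne_one (by
      rw [← hkq, ← orderOf_conj d k, h, orderOf_one])
    obtain ⟨n, hn⟩ := mem_zpowers_iff.mp (hpow _ hk' hk1)
    obtain ⟨t, ht, ht2, htc⟩ := hS.exists_inv_at hc
    refine hx1 (hAfpf x hxA t ht ht2 htc ?_)
    rw [← hn]
    have hct : Commute (d * k * d⁻¹) t :=
      (mem_centralizer_iff.mp hk'E.2 t (Subgroup.subset_closure ⟨ht, ht2, htc⟩)).symm
    exact hct.zpow_left n

end Cfsg.Agent.H53.SE
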