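import Mathlib.LinearAlgebra.Matrix.GeneralLinearGroup.Basic
import Mathlib.LinearAlgebra.Matrix.Notation
import Mathlib.GroupTheory.Solvable
import Mathlib.LinearAlgebra.Matrix.FixedDetMatrices
import Mathlib.Tactic.LinearCombination
import Mathlib.Tactic.FieldSimp
import Cfsg.Agent.S0205

/-!
A subgroup of odd order of `GL(2, F)`, `2 ≠ 0`, is abelian or fixes a line which is fixed by all the
elements normalising it.
-/

set_option autoImplicit false
set_option linter.style.haveILetI false

namespace Cfsg.Agent.H53.SE.OddGLTwo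

open Matrix

variable {F : Type*} [Field F]

/-- A matrix commuting with a non-scalar `g` is a polynomial in `g`. -/
theorem exists_eq_of_commute {g x : Matrix (Fin 2) (Fin 2) F}
    (hg : g 0 1 ≠ 0 ∨ g 1 0 ≠ 0 ∨ g 0 0 ≠ g 1 1) (h : x * g = g * x) :
    ∃ α β : F, x = α • (1 : Matrix (Fin 2) (Fin 2) F) + β • g := by
  have h00 := congrFun (congrFun h 0) 0
  have h01 := congrFun (congrFun h 0) 1
  have h10 := congrFun (congrFun h 1) 0
  simp only [Matrix.mul_apply, Fin.sum_univ_two] at h00 h01 h10
  rcases hg with hg | hg | hg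
  · refine ⟨x 0 0 - x 0 1 / g 0 1 * g 0 0, x 0 1 / g 0 1, ?_⟩
    ext i j
    fin_cases i <;> fin_cases j <;> simp <;> field_simp
    · first | linear_combination h00 | linear_combination (-1 : F) * h00
    · first | linear_combination h01 | linear_combination (-1 : F) * h01
  · refine ⟨x 0 0 - x 1 0 / g 1 0 * g 0 0, x 1 0 / g 1 0, ?_⟩
    ext i j
    fin_cases i <;> fin_cases j <;> simp <;> field_simp
    · first | linear_combination h00 | linear_combination (-1 : F) * h00
    · first | linear_combination h10 | linear_combination (-1 : F) * h10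
  · have hd : g 0 0 - g 1 1 ≠ 0 := sub_ne_zero.mpr hg
    refine ⟨x 0 0 - (x 0 0 - x 1 1) / (g 0 0 - g 1 1) * g 0 0,
      (x 0 0 - x 1 1) / (g 0 0 - g 1 1), ?_⟩
    ext i j
    fin_cases i <;> fin_cases j <;> simp <;> field_simp
    · first | linear_combination h01 | linear_combination (-1 : F) * h01
    · first | linear_combination h10 | linear_combination (-1 : F) * h10
    · ring

theorem commute_of_polynomial {g x y : Matrix (Fin 2) (Fin 2) F} {α β α' β' : F}
    (hx : x = α • (1 : Matrix (Fin 2) (Fin 2) F) + β • g)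
    (hy : y = α' • (1 : Matrix (Fin 2) (Fin 2) F) + β' • g) : x * y = y * x := by
  subst hx hy
  simp only [add_mul, mul_add, smul_mul_assoc, mul_smul_comm, one_mul, mul_one]
  module

/-- The square of a `2 × 2` matrix of determinant one. -/
theorem mul_self_eq {g : Matrix (Fin 2) (Fin 2) F} (hd : g.det = 1) :
    g * g = (g 0 0 + g 1 1) • g - 1 := by
  rw [Matrix.det_fin_two] at hd
  ext i j
  fin_cases i <;> fin_cases j <;> simp [Matrix.mul_apply, Fin.sum_univ_two]
  · linear_combination (-1 : F) * hd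
  · ring
  · ring
  · linear_combination (-1 : F) * hd

/-- A conjugate of `g` commuting with it is `g` or its inverse. -/
theorem conj_eq_or (h2 : (2 : F) ≠ 0) {g g' : Matrix (Fin 2) (Fin 2) F} (hg : g 0 1 ≠ 0 ∨ g 1 0 ≠ 0 ∨ g 0 0 ≠ g 1 1)
    (hd : g.det = 1) (hd' : g'.det = 1) (htr : g'.trace = g.trace)
    (hT : g.trace * g.trace ≠ 4) (h : g' * g = g * g') :
    g' = g ∨ g' * g = 1 := by
  obtain ⟨α, β, hg'⟩ := exists_eq_of_commute hg h
  rw [Matrix.trace_fin_two] at htr hT
  rw [Matrix.trace_fin_two] at htr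
  rw [Matrix.det_fin_two] at hd hd'
  subst hg'
  simp at htr hd'
  have e : (β * β - 1) * ((g 0 0 + g 1 1) * (g 0 0 + g 1 1) - 4) = 0 := by
    linear_combination
      (2 * α + (1 + β) * (g 0 0 + g 1 1)) * htr + (4 * β * β) * hd - (4 : F) * hd'
  rcases mul_eq_zero.mp e with hb | hb
  swap
  · exact absurd (sub_eq_zero.mp hb) hT
  rcases mul_self_eq_one_iff.mp (sub_eq_zero.mp hb) with rfl | rfl
  · left
    have hα : α = 0 := mul_left_cancel₀ h2 (by linear_combination htr)
    subst hα
    simp
  · right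
    have hα : α = g 0 0 + g 1 1 := mul_left_cancel₀ h2 (by linear_combination htr)
    subst hα
    ext i j
    fin_cases i <;> fin_cases j <;> simp [Matrix.mul_apply, Fin.sum_univ_two]
    · linear_combination hd
    · ring
    · ring
    · linear_combination hd

/-- An element of odd order whose square commutes with `x` commutes with `x`. -/
theorem commute_of_sq_of_odd {M : Type*} [Group M] [Finite M] {j x : M} (hj : Odd (orderOf j))
    (h : j * j * x = x * (j * j)) : j * x = x * j := by
  obtain ⟨k, hk⟩ := hj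
  have h3 : Commute ((j * j) ^ (k + 1)) x := Commute.pow_left h _
  rwa [← sq, ← pow_mul, show 2 * (k + 1) = orderOf j + 1 by omega, pow_succ, pow_orderOf_eq_one,
    one_mul] at h3

/-- A finite subgroup of odd order of `GL(2, F)` is abelian, or a line is invariant under all
elements normalising it. -/
theorem commutative_or_line (h2 : (2 : F) ≠ 0) (H : Subgroup (GL (Fin 2) F)) [Finite H]
    (hodd : Odd (Nat.card H)) :
    (∀ x ∈ H, ∀ y ∈ H, x * y = y * x) ∨
    ∃ v : Fin 2 → F, v ≠ 0 ∧ ∀ k ∈ Subgroup.normalizer (H : Set (GL (Fin 2) F)),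
      (k : Matrix (Fin 2) (Fin 2) F).mulVec v ∈ Submodule.span F {v} := by
  classical
  by_cases hc : ∀ x ∈ H, ∀ y ∈ H, x * y = y * x
  · exact Or.inl hc
  refine Or.inr ?_
  haveI : Group.IsSolvable H := Cfsg.Agent.S0205.result hodd
  -- the last non-trivial term of the derived series
  obtain ⟨n, hn0, hn1⟩ : ∃ n, derivedSeries H n ≠ ⊥ ∧ derivedSeries H (n + 1) = ⊥ := by
    obtain ⟨m, hm⟩ := Group.IsSolvable.solvable (G := H)
    by_contra! hall
    have : ∀ k, derivedSeries H k ≠ ⊥ := fun k => by
      induction k with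
      | zero =>
        intro h0
        rw [derivedSeries_zero] at h0
        exact hc fun x hx y hy => congrArg Subtype.val
          (Subsingleton.elim (α := H) (h := subsingleton_iff.mpr fun a b => by
            have ha : a ∈ (⊤ : Subgroup H) := Subgroup.mem_top a
            have hb : b ∈ (⊤ : Subgroup H) := Subgroup.mem_top b
            rw [h0, Subgroup.mem_bot] at ha hb
            rw [ha, hb]) (⟨x, hx⟩ * ⟨y, hy⟩ : H) (⟨y, hy⟩ * ⟨x, hx⟩))
      | succ k ih => exact hall k ih
    exact this m hm
  have hnpos : 1 ≤ n := by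
    by_contra h
    obtain rfl : n = 0 := by omega
    refine hc fun x hx y hy => congrArg Subtype.val (commutatorElement_eq_one_iff_mul_comm.mp ?_ :
      (⟨x, hx⟩ : H) * ⟨y, hy⟩ = ⟨y, hy⟩ * ⟨x, hx⟩)
    have hmem := Subgroup.commutator_mem_commutator (Subgroup.mem_top (⟨x, hx⟩ : H))
      (Subgroup.mem_top (⟨y, hy⟩ : H))
    rw [← derivedSeries_zero H, ← derivedSeries_succ, hn1, Subgroup.mem_bot] at hmem
    exact hmem
  have hcomm : ∀ a ∈ derivedSeries H n, ∀ b ∈ derivedSeries H n, a * b = b * a := fun a ha b hb => by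
    have hmem := Subgroup.commutator_mem_commutator ha hb
    rw [← derivedSeries_succ, hn1, Subgroup.mem_bot] at hmem
    exact commutatorElement_eq_one_iff_mul_comm.mp hmem
  let mat : H → Matrix (Fin 2) (Fin 2) F := fun h => ((h : GL (Fin 2) F) : Matrix (Fin 2) (Fin 2) F)
  have hmat : ∀ a b, mat (a * b) = mat a * mat b := fun a b => rfl
  have hinj : ∀ a b, mat a = mat b → a = b := fun a b e => Subtype.ext (Units.ext e)
  let det' : H →* Fˣ := Matrix.GeneralLinearGroup.det.comp H.subtype
  have hdet : ∀ a ∈ derivedSeries H n, (mat a).det = 1 := by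
    intro a ha
    have hk : derivedSeries H 1 ≤ det'.ker := by
      rw [derivedSeries_one, _root_.commutator_def, Subgroup.commutator_le]
      intro p _ q _
      rw [MonoidHom.mem_ker, map_commutatorElement, commutatorElement_eq_one_iff_mul_comm]
      exact mul_comm _ _
    exact congrArg Units.val (hk (derivedSeries_antitone H hnpos ha))
  obtain ⟨g, hgN, hg1⟩ : ∃ g ∈ derivedSeries H n, g ≠ 1 :=
    (Subgroup.bot_or_exists_ne_one _).resolve_left hn0
  have hordH : ∀ a : H, Odd (orderOf a) := fun a => hodd.of_dvd_nat (orderOf_dvd_natCard a)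
  have hsq : ∀ a : H, a * a = 1 → a = 1 := fun a ha => by
    have h3 := orderOf_dvd_of_pow_eq_one (show a ^ 2 = 1 by rw [sq, ha])
    rcases (Nat.dvd_prime Nat.prime_two).mp h3 with h4 | h4
    · exact orderOf_eq_one_iff.mp h4
    · exact absurd (h4 ▸ hordH a : Odd 2) (by decide)
  have hns : ∀ a ∈ derivedSeries H n, a ≠ 1 →
      mat a 0 1 ≠ 0 ∨ mat a 1 0 ≠ 0 ∨ mat a 0 0 ≠ mat a 1 1 := by
    intro a ha ha1
    by_contra! hs
    have hd := hdet a ha
    rw [Matrix.det_fin_two, hs.1, hs.2.1, mul_zero, sub_zero, ← hs.2.2] at hd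
    refine ha1 (hsq a (hinj _ _ ?_))
    show mat a * mat a = 1
    ext i j
    fin_cases i <;> fin_cases j <;>
      simp [Matrix.mul_apply, Fin.sum_univ_two, hs.1, hs.2.1, ← hs.2.2, hd]
  by_cases hT : (mat g).trace * (mat g).trace = 4
  swap
  · -- semisimple: `H` centralises `g`
    refine absurd (fun x hx y hy => ?_) hc
    have hcg : ∀ h : H, mat h * mat g = mat g * mat h := by
      intro h
      have hg' : h * g * h⁻¹ ∈ derivedSeries H n := (derivedSeries_normal H n).conj_mem g hgN h
      have hc' : mat (h * g * h⁻¹) * mat g = mat g * mat (h * g * h⁻¹) :=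
        congrArg mat (hcomm _ hg' _ hgN)
      have htr : (mat (h * g * h⁻¹)).trace = (mat g).trace := by
        rw [hmat, hmat, Matrix.trace_mul_comm, ← mul_assoc, ← hmat, inv_mul_cancel]
        exact congrArg Matrix.trace (one_mul (mat g))
      rcases conj_eq_or h2 (hns g hgN hg1) (hdet g hgN) (hdet _ hg') htr hT hc' with e | e
      · exact congrArg mat (mul_inv_eq_iff_eq_mul.mp (hinj _ _ e))
      · have e' : h * g * h⁻¹ = g⁻¹ := eq_inv_of_mul_eq_one_left (hinj _ 1 e)
        refine congrArg mat (commute_of_sq_of_odd (hordH h) (mul_inv_eq_iff_eq_mul.mp ?_))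
        calc h * h * g * (h * h)⁻¹ = h * (h * g * h⁻¹) * h⁻¹ := by group
          _ = h * g⁻¹ * h⁻¹ := by rw [e']
          _ = (h * g * h⁻¹)⁻¹ := by group
          _ = g := by rw [e', inv_inv]
    obtain ⟨α, β, hxe⟩ := exists_eq_of_commute (hns g hgN hg1) (hcg ⟨x, hx⟩)
    obtain ⟨α', β', hye⟩ := exists_eq_of_commute (hns g hgN hg1) (hcg ⟨y, hy⟩)
    exact Units.ext (commute_of_polynomial hxe hye)
  -- unipotent: the kernel of `g - 1`
  set t := (mat g).trace with ht
  have ht2 : t = 2 := by
    rcases mul_self_eq_mul_self_iff.mp (show t * t = 2 * 2 by rw [hT]; norm_num) with h | h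
    · exact h
    exfalso
    have hd := hdet g hgN
    have hgg := mul_self_eq hd
    rw [← Matrix.trace_fin_two, ← ht, h] at hgg
    -- then `-g` is unipotent, so the order of `g` is even
    have hpow : ∀ k : ℕ, (mat g) ^ k =
        ((-1 : F) ^ k) • (1 : Matrix (Fin 2) (Fin 2) F) + ((k : F) * (-1) ^ (k + 1)) • (mat g + 1) := by
      intro k
      induction k with
      | zero => simp
      | succ k ih =>
        rw [pow_succ, ih, add_mul, smul_mul_assoc, smul_mul_assoc, one_mul, add_mul, one_mul, hgg]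
        push_cast
        simp only [pow_succ]
        module
    obtain ⟨k, hk⟩ := hordH g
    have h1 : (mat g) ^ (orderOf g) = 1 := by
      have e : ∀ m : ℕ, mat (g ^ m) = (mat g) ^ m := fun m => by
        induction m with
        | zero => simp [mat]
        | succ m ih => rw [pow_succ, hmat, ih, pow_succ]
      rw [← e, pow_orderOf_eq_one]; rfl
    rw [hpow, hk, show ((-1 : F) ^ (2 * k + 1)) = -1 by simp [pow_succ, pow_mul]] at h1
    have h3 := congrArg Matrix.trace h1
    simp [Matrix.trace_add, Matrix.trace_smul, ← ht, h] at h3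
    exact h2 (mul_left_cancel₀ h2 (by linear_combination (-1 : F) * h3))
  set n1 : Matrix (Fin 2) (Fin 2) F := mat g - 1 with hn1
  have hn1ne : n1 ≠ 0 := fun e => hg1 (hinj _ _ (sub_eq_zero.mp e))
  have hn1sq : n1 * n1 = 0 := by
    rw [hn1, sub_mul, mul_sub, one_mul, mul_one, mul_self_eq (hdet g hgN), ← Matrix.trace_fin_two,
      ← ht, ht2, two_smul]
    abel
  obtain ⟨v, hv0, hv⟩ : ∃ v : Fin 2 → F, v ≠ 0 ∧ n1.mulVec v = 0 := by
    obtain ⟨j, hj⟩ : ∃ j, n1.mulVec (Pi.single j 1) ≠ 0 := by
      by_contra! hall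
      refine hn1ne (Matrix.ext fun i j => ?_)
      have := congrFun (hall j) i
      simpa using this
    exact ⟨_, hj, by rw [Matrix.mulVec_mulVec, hn1sq, Matrix.zero_mulVec]⟩
  refine ⟨v, hv0, fun k hk => ?_⟩
  let conjH : H → H := fun a => ⟨k * a * k⁻¹, (Subgroup.mem_normalizer_iff.mp hk _).mp a.2⟩
  have hNk : conjH g ∈ derivedSeries H n := by
    let e : H →* H :=
      { toFun := conjH
        map_one' := Subtype.ext (show k * 1 * k⁻¹ = 1 by group)
        map_mul' := fun a b => Subtype.ext
          (show k * (a * b : GL (Fin 2) F) * k⁻¹ = k * a * k⁻¹ * (k * b * k⁻¹) by group) }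
    exact map_derivedSeries_le_derivedSeries e n (Subgroup.mem_map_of_mem e hgN)
  obtain ⟨α, β, hg'⟩ := exists_eq_of_commute (hns g hgN hg1)
    (congrArg mat (hcomm _ hNk _ hgN) : mat (conjH g) * mat g = mat g * mat (conjH g))
  replace hg' : mat (conjH g) = α • (1 : Matrix (Fin 2) (Fin 2) F) + β • mat g := hg'
  have hfix : (mat g).mulVec v = v := by
    have := hv
    rwa [hn1, Matrix.sub_mulVec, Matrix.one_mulVec, sub_eq_zero] at this
  set K : Matrix (Fin 2) (Fin 2) F := (k : Matrix (Fin 2) (Fin 2) F) with hK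
  have hfix' : (mat (conjH g)).mulVec (K.mulVec v) = K.mulVec v := by
    show ((k * (g : GL (Fin 2) F) * k⁻¹ : GL (Fin 2) F) : Matrix (Fin 2) (Fin 2) F).mulVec _ = _
    simp only [hK, Matrix.mulVec_mulVec, ← Units.val_mul, inv_mul_cancel_right]
    rw [Units.val_mul, ← Matrix.mulVec_mulVec]
    exact congrArg _ hfix
  have hβ : β ≠ 0 := fun h0 => by
    have hz := hns _ hNk fun e => hg1 (hinj g 1 (congrArg Units.val (show (g : GL (Fin 2) F) = 1 by
      have := congrArg Subtype.val e
      simpa [conjH, conj_eq_one_iff] using this)))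
    rw [hg', h0] at hz
    simp at hz
  have hβt : α + β = 1 := by
    have htr : (mat (conjH g)).trace = 2 := by
      rw [← ht2, ht]
      show (((k * (g : GL (Fin 2) F) * k⁻¹ : GL (Fin 2) F) : Matrix (Fin 2) (Fin 2) F)).trace = _
      rw [Units.val_mul, Units.val_mul, Matrix.trace_mul_comm, ← mul_assoc, ← Units.val_mul,
        inv_mul_cancel, Units.val_one, one_mul]
    rw [hg', Matrix.trace_add, Matrix.trace_smul, Matrix.trace_smul, Matrix.trace_one, ← ht, ht2]
      at htr
    simp at htr
    exact mul_left_cancel₀ h2 (by linear_combination htr)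
  have hker : n1.mulVec (K.mulVec v) = 0 := by
    have : β • n1.mulVec (K.mulVec v) = 0 := by
      rw [← Matrix.smul_mulVec, hn1, smul_sub, show β • mat g - β • (1 : Matrix (Fin 2) (Fin 2) F) =
        mat (conjH g) - (α + β) • 1 by rw [hg']; module, hβt, one_smul, Matrix.sub_mulVec, hfix',
        Matrix.one_mulVec, sub_self]
    exact (smul_eq_zero.mp this).resolve_left hβ
  -- the kernel of a non-zero nilpotent `2 × 2` matrix is a line
  by_contra hnot
  refine hn1ne (Matrix.ext fun i j => ?_)
  have hli : LinearIndependent F ![v, K.mulVec v] := by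
    refine linearIndependent_fin2.mpr ⟨fun h0 => hnot ?_, fun c h0 => ?_⟩
    · rw [show K.mulVec v = 0 from h0]
      exact Submodule.zero_mem _
    · have h1 : c • K.mulVec v = v := h0
      rcases eq_or_ne c 0 with rfl | hc0
      · exact hv0 (by rw [← h1, zero_smul])
      · exact hnot (Submodule.mem_span_singleton.mpr ⟨c⁻¹, calc
          c⁻¹ • v = c⁻¹ • (c • K.mulVec v) := by rw [h1]
          _ = K.mulVec v := by rw [smul_smul, inv_mul_cancel₀ hc0, one_smul]⟩)
  have hspan := hli.span_eq_top_of_card_eq_finrank (by simp)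
  have hzero : ∀ x : Fin 2 → F, n1.mulVec x = 0 := fun x => by
    have hx : x ∈ Submodule.span F (Set.range ![v, K.mulVec v]) := hspan ▸ Submodule.mem_top
    induction hx using Submodule.span_induction with
    | mem y hy =>
      obtain ⟨i, rfl⟩ := hy
      fin_cases i
      · exact hv
      · exact hker
    | zero => exact Matrix.mulVec_zero _
    | add a b _ _ ha hb => rw [Matrix.mulVec_add, ha, hb, add_zero]
    | smul c a _ ha => rw [Matrix.mulVec_smul, ha, smul_zero]
  have := congrFun (hzero (Pi.single j 1)) i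
  simpa using this

end Cfsg.Agent.H53.SE.OddGLTwo
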