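import Cfsg.Agent.H53.SE.InvStruct
import Cfsg.Agent.H53.SE.OddGLTwo
import Mathlib.GroupTheory.SpecificGroups.Cyclic

/-!
A non-abelian normal subgroup of exponent `q` and class two of the pair stabiliser: in the presence
of a `p`-element centralising a single involution at the point, the inverted elements form an
abelian normal subgroup regular on these involutions.
-/

set_option autoImplicit false
set_option linter.style.haveILetI false
set_option maxHeartbeats 4000000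

namespace Cfsg.Agent.H53.SE

open Subgroup MulAction Matrix
open Cfsg.Agent.H39
open Cfsg.Agent.H73.Bender
open Cfsg.Agent.Cores.SE
open scoped commutatorElement

universe u v

variable {G : Type u} [Group G] {Ω : Type v} [MulAction G Ω] {S : Subgroup G} {C : Set Ω}

/-- The conclusion of the structure theorem: the inverted elements form an abelian normal subgroup
of the pair stabiliser regular on the involutions at `a`. -/
def InvertedRegular (S : Subgroup G) (C : Set Ω) (a b : Ω) (w : G) : Prop :=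
  ∃ J : Subgroup G, (J : Set G) = invertedBy S a b w ∧ J ≤ pair S a b ∧
    pair S a b ≤ normalizer (J : Set G) ∧ IsMulCommutative J ∧ Nat.card J = invBar S C a ∧
    (∀ j ∈ J, ∀ t ∈ S, orderOf t = 2 → t • a = a → Commute j t → j = 1) ∧
    (∀ t ∈ S, orderOf t = 2 → t • a = a → ∀ t' ∈ S, orderOf t' = 2 → t' • a = a →
      ∃ j ∈ J, j * t * j⁻¹ = t') ∧
    ∀ d ∈ pair S a b, ∃ j ∈ J, ∃ f ∈ pair S a b, Commute f w ∧ d = j * f

variable [Finite G] [Finite Ω]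

/-- A `q`-subgroup of the pair stabiliser centralised by the swapper centralises an involution at
`a`. -/
theorem exists_inv_of_fixed (hS : SE S C) (hF : Faithful S C) (hG : Good S C) {a b : Ω}
    (ha : a ∈ C) (hb : b ∈ C) (hab : a ≠ b) {w : G} (hw : w ∈ S) (hw2 : orderOf w = 2)
    (hwa : w • a = b) {q : ℕ} [Fact q.Prime] {X : Subgroup G} (hX : X ≤ pair S a b)
    (hXq : IsPGroup q X) (hXw : ∀ x ∈ X, Commute x w) :
    ∃ t ∈ S, orderOf t = 2 ∧ t • a = a ∧ ∀ x ∈ X, Commute x t := by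
  obtain ⟨c, hcC, hwc⟩ := hS.exists_fix hw hw2
  have hca : c ≠ a := fun h => hab (by rw [h] at hwc; rw [← hwa, hwc])
  have hcb : c ≠ b := fun h => hab (by
    rw [h] at hwc
    rw [← swap_symm hw2 hwa, hwc])
  have hXS : X ≤ S := fun x hx => (mem_pair.mp (hX hx)).1
  have hfa : a ∈ fixedIn C X := ⟨ha, fun x hx => (mem_pair.mp (hX hx)).2.1⟩
  have hfb : b ∈ fixedIn C X := ⟨hb, fun x hx => (mem_pair.mp (hX hx)).2.2⟩
  have hfc : c ∈ fixedIn C X :=
    ⟨hcC, fun x hx => hS.fix_of_commute (hXS hx) hw hw2 (hXw x hx) hcC hwc⟩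
  obtain ⟨t, ht, ht2, hta, htX⟩ := exists_inv_of_three hS hF hG X hXS hXq
    ⟨a, hfa, b, hfb, c, hfc, hab, hca, hcb⟩ hfa
  exact ⟨t, ht, ht2, hta, fun x hx => (htX x hx).symm⟩

omit [Finite G] [Finite Ω] in
/-- Commutators with a fixed element are multiplicative when they are central. -/
theorem commutatorElement_mul_left {x y z : G} (h : Commute ⁅y, z⁆ x) (h' : Commute ⁅y, z⁆ z) :
    ⁅x * y, z⁆ = ⁅x, z⁆ * ⁅y, z⁆ := by
  have hxz : Commute ⁅y, z⁆ ⁅x, z⁆ := by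
    rw [commutatorElement_def x z]
    exact ((h.mul_right h').mul_right h.inv_right).mul_right h'.inv_right
  rw [← hxz.eq, commutatorElement_def (g₁ := x * y), commutatorElement_def x z]
  calc x * y * z * (x * y)⁻¹ * z⁻¹ = x * (y * z * y⁻¹ * z⁻¹) * z * x⁻¹ * z⁻¹ := by group
    _ = x * ⁅y, z⁆ * z * x⁻¹ * z⁻¹ := by rw [← commutatorElement_def]
    _ = _ := by rw [← h.eq]; group

/-- The inverted elements form an abelian normal subgroup regular on the involutions at `a` when the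
pair stabiliser has a normal non-abelian subgroup of exponent `q` and class two and a `p`-element
centralising a single involution at `a`. -/
theorem invertedRegular_of_heisenberg (hS : SE S C) (hF : Faithful S C) (hG : Good S C) {a b : Ω}
    (ha : a ∈ C) (hb : b ∈ C) (hab : a ≠ b) {w : G} (hw : w ∈ S) (hw2 : orderOf w = 2)
    (hwa : w • a = b) (hshare : ShareAt S a b)
    (hfaith : pair S a b ⊓ centralizer (invGen S a : Set G) = ⊥)
    {p : ℕ} [Fact p.Prime] {y t : G} (hy : y ∈ pair S a b) (hyp : IsPGroup p (zpowers y))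
    (ht : t ∈ S) (ht2 : orderOf t = 2) (hta : t • a = a) (hyt : Commute y t)
    (huniq : ∀ s ∈ S, orderOf s = 2 → s • a = a → Commute y s → s = t)
    {q : ℕ} [Fact q.Prime] {Q : Subgroup G} (hQ : Q ≤ pair S a b)
    (hQn : pair S a b ≤ normalizer (Q : Set G)) (hQw : w ∈ normalizer (Q : Set G))
    (hexp : ∀ x ∈ Q, x ^ q = 1) (hcl : ∀ x ∈ Q, ∀ x' ∈ Q, ∀ z ∈ Q, Commute ⁅x, x'⁆ z)
    (hnab : ¬ IsMulCommutative Q) : InvertedRegular S C a b w := by
  classical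
  by_contra hno
  set D : Subgroup G := pair S a b with hD
  have hwi : w⁻¹ = w := inv_eq_of_orderOf_eq_two hw2
  have hwm : ∀ x ∈ Q, w * x * w⁻¹ ∈ Q := fun x hx => (Subgroup.mem_normalizer_iff.mp hQw x).mp hx
  have hwD : w ∈ normalizer (D : Set G) := by
    refine Subgroup.mem_normalizer_iff.mpr fun x => ⟨conj_swap_mem_pair hw hw2 hwa, fun h => ?_⟩
    have h' := conj_swap_mem_pair hw hw2 hwa h
    rwa [hwi, show w * (w * x * w) * w = w * w * x * (w * w) by group,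
      mul_self_of_orderOf_eq_two hw2, one_mul, mul_one] at h'
  have hQp : ∀ {X : Subgroup G}, X ≤ Q → IsPGroup q X := fun hX x =>
    ⟨1, Subtype.ext (by rw [SubgroupClass.coe_pow, pow_one]; exact hexp x (hX x.2))⟩
  -- abelian normal subgroups inside `Q` are cyclic and inverted
  have hinvab : ∀ X : Subgroup G, X ≤ Q → D ≤ normalizer (X : Set G) →
      w ∈ normalizer (X : Set G) → IsMulCommutative X → ∀ x ∈ X, w * x * w⁻¹ = x⁻¹ :=
    fun X hX hXn hXw hXc => inverted_of_normal_abelian hS hF hG ha hb hab hw hw2 hwa hshare hfaith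
      (hX.trans hQ) (hQp hX) hXc hXn hXw
  have habel : ∀ X : Subgroup G, X ≤ Q → D ≤ normalizer (X : Set G) →
      w ∈ normalizer (X : Set G) → IsMulCommutative X →
      ∀ g ∈ X, ∀ g' ∈ X, g ≠ 1 → g' ∈ zpowers g :=
    fun X hX hXn hXw hXc g hg g' hg' hg1 => by_contra fun hnot => hno
      (exists_inverted_of_noncyclic hS hF hG ha hb hab hw hw2 hwa hshare (hX.trans hQ) hXn hXc
        (fun x hx => hexp x (hX hx)) (hinvab X hX hXn hXw hXc) hg hg' hg1 hnot)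
  -- the centre
  set Zq : Subgroup G := Q ⊓ centralizer (Q : Set G) with hZq
  have hnormQ : normalizer (Q : Set G) ≤ normalizer (Zq : Set G) := by
    intro g hg
    refine Subgroup.mem_normalizer_iff.mpr fun x => ?_
    have hg' := Subgroup.mem_normalizer_iff.mp hg
    constructor
    · rintro ⟨hxQ, hxc⟩
      refine ⟨(hg' x).mp hxQ, mem_centralizer_iff.mpr fun z hz => ?_⟩
      have h := mem_centralizer_iff.mp hxc _
        ((hg' (g⁻¹ * z * g)).mpr (by rwa [show g * (g⁻¹ * z * g) * g⁻¹ = z by group]))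
      calc z * (g * x * g⁻¹) = g * (g⁻¹ * z * g * x) * g⁻¹ := by group
        _ = _ := by rw [h]; group
    · rintro ⟨hxQ, hxc⟩
      refine ⟨(hg' x).mpr hxQ, mem_centralizer_iff.mpr fun z hz => ?_⟩
      have h := mem_centralizer_iff.mp hxc _ ((hg' z).mp hz)
      calc z * x = g⁻¹ * (g * z * g⁻¹ * (g * x * g⁻¹)) * g := by group
        _ = _ := by rw [h]; group
  have hZc : IsMulCommutative Zq := ⟨⟨fun x x' => Subtype.ext
    (mem_centralizer_iff.mp x'.2.2 x x.2.1)⟩⟩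
  have hZcomm : ∀ x ∈ Q, ∀ x' ∈ Q, ⁅x, x'⁆ ∈ Zq := fun x hx x' hx' =>
    ⟨(commutatorElement_def x x').symm ▸
      Q.mul_mem (Q.mul_mem (Q.mul_mem hx hx') (Q.inv_mem hx)) (Q.inv_mem hx'),
      mem_centralizer_iff.mpr fun z hz => (hcl x hx x' hx' z hz).eq.symm⟩
  have hZi := hinvab Zq inf_le_left (hQn.trans hnormQ) (hnormQ hQw) hZc
  obtain ⟨x₀, hx₀, x₁, hx₁, hne⟩ : ∃ x ∈ Q, ∃ x' ∈ Q, x * x' ≠ x' * x := by
    by_contra! h
    exact hnab ⟨⟨fun x x' => Subtype.ext (h x x.2 x' x'.2)⟩⟩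
  set z₀ := ⁅x₀, x₁⁆ with hz₀
  have hz₀Z : z₀ ∈ Zq := hZcomm _ hx₀ _ hx₁
  have hz₀1 : z₀ ≠ 1 := fun h => hne (commutatorElement_eq_one_iff_mul_comm.mp h)
  have hz₀q : orderOf z₀ = q := orderOf_eq_prime (hexp _ hz₀Z.1) hz₀1
  have hZgen : ∀ z ∈ Zq, z ∈ zpowers z₀ := fun z hz =>
    habel Zq inf_le_left (hQn.trans hnormQ) (hnormQ hQw) hZc z₀ hz₀Z z hz hz₀1
  have hqodd : Odd q := hz₀q ▸
    (hS.odd_pair ha hb hab).of_dvd_nat (Subgroup.orderOf_dvd_natCard _ (hQ hz₀Z.1))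
  -- fixed and inverted elements
  have hsq : ∀ z ∈ Q, z = z⁻¹ → z = 1 := by
    intro z hz hzi
    by_contra hne
    have h2 := orderOf_eq_two_of_mul_self (mul_eq_one_iff_eq_inv.mpr hzi) hne
    obtain ⟨hzS, hza, hzb⟩ := mem_pair.mp (hQ hz)
    exact hab (hS.fix_unique hzS h2 ha hb hza hzb)
  have hconjc : ∀ x x' : G, w * ⁅x, x'⁆ * w⁻¹ = ⁅w * x * w⁻¹, w * x' * w⁻¹⁆ := fun x x' => by
    rw [commutatorElement_def, commutatorElement_def]; group
  have hfixc : ∀ x ∈ Q, ∀ x' ∈ Q, Commute x w → Commute x' w → Commute x x' := by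
    intro x hx x' hx' hxw hx'w
    have hzi := hZi _ (hZcomm x hx x' hx')
    rw [hconjc, show w * x * w⁻¹ = x by rw [← hxw.eq, mul_inv_cancel_right],
      show w * x' * w⁻¹ = x' by rw [← hx'w.eq, mul_inv_cancel_right]] at hzi
    exact commutatorElement_eq_one_iff_mul_comm.mp (hsq _ (hZcomm x hx x' hx').1 hzi)
  have hinvc : ∀ x ∈ Q, ∀ x' ∈ Q, w * x * w⁻¹ = x⁻¹ → w * x' * w⁻¹ = x'⁻¹ → Commute x x' := by
    intro x hx x' hx' hxi hx'i
    have hzi := hZi _ (hZcomm x hx x' hx')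
    rw [hconjc, hxi, hx'i] at hzi
    have hz := (hZcomm x hx x' hx').2
    have h1 : Commute ⁅x, x'⁆ (x * x') := (hcl x hx x' hx' _ hx).mul_right (hcl x hx x' hx' _ hx')
    have e : ⁅x⁻¹, x'⁻¹⁆ = ⁅x, x'⁆ := by
      calc ⁅x⁻¹, x'⁻¹⁆ = (x * x')⁻¹ * ⁅x, x'⁆ * (x * x') := by
            rw [commutatorElement_def, commutatorElement_def]; group
        _ = ⁅x, x'⁆ := by rw [mul_assoc, h1.eq, inv_mul_cancel_left]
    rw [e] at hzi
    exact commutatorElement_eq_one_iff_mul_comm.mp (hsq _ (hZcomm x hx x' hx').1 hzi)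
  let Qm : Subgroup G :=
    { carrier := {x | x ∈ Q ∧ w * x * w⁻¹ = x⁻¹}
      one_mem' := ⟨Q.one_mem, by simp⟩
      mul_mem' := fun {x x'} hx hx' => ⟨Q.mul_mem hx.1 hx'.1, by
        rw [show w * (x * x') * w⁻¹ = w * x * w⁻¹ * (w * x' * w⁻¹) by group, hx.2, hx'.2,
          (hinvc x hx.1 x' hx'.1 hx.2 hx'.2).eq, _root_.mul_inv_rev]⟩
      inv_mem' := fun {x} hx => ⟨Q.inv_mem hx.1, by
        rw [show w * x⁻¹ * w⁻¹ = (w * x * w⁻¹)⁻¹ by group, hx.2]⟩ }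
  have hQmc : IsMulCommutative Qm :=
    ⟨⟨fun x x' => Subtype.ext (hinvc x x.2.1 x' x'.2.1 x.2.2 x'.2.2).eq⟩⟩
  have hdec : ∀ x ∈ Q, ∃ j ∈ Qm, ∃ f ∈ Q, Commute f w ∧ x = j * f := by
    intro x hx
    set z := x * (w * x⁻¹ * w⁻¹) with hz
    have hzQ : z ∈ Q := Q.mul_mem hx (hwm _ (Q.inv_mem hx))
    have hzi : w * z * w⁻¹ = z⁻¹ := by
      rw [hz, hwi]
      calc w * (x * (w * x⁻¹ * w)) * w = w * x * w * x⁻¹ * (w * w) := by group
        _ = (x * (w * x⁻¹ * w))⁻¹ := by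
          rw [mul_self_of_orderOf_eq_two hw2, mul_one, _root_.mul_inv_rev, _root_.mul_inv_rev,
            _root_.mul_inv_rev, hwi, inv_inv]
          group
    obtain ⟨k, hk⟩ := hqodd
    set j := z ^ (k + 1) with hj
    have hjj : j * j = z := by
      rw [hj, ← pow_add, show k + 1 + (k + 1) = q + 1 by omega, pow_succ, hexp z hzQ, one_mul]
    have hji : w * j * w⁻¹ = j⁻¹ := by rw [hj, ← conj_pow, hzi, inv_pow]
    have hjQ : j ∈ Q := Q.pow_mem hzQ _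
    refine ⟨j, ⟨hjQ, hji⟩, j⁻¹ * x, Q.mul_mem (Q.inv_mem hjQ) hx, ?_, by group⟩
    have hwj : w * j = j⁻¹ * w := mul_inv_eq_iff_eq_mul.mp hji
    have hdw : x * w * x⁻¹ = z * w := by rw [hz]; group
    refine mul_inv_eq_iff_eq_mul.mp ?_
    calc j⁻¹ * x * w * (j⁻¹ * x)⁻¹ = j⁻¹ * (x * w * x⁻¹) * j := by group
      _ = j⁻¹ * (j * j) * (w * j) := by rw [hdw, ← hjj]; group
      _ = w := by rw [hwj]; group
  -- a fixed element `c` and an involution `t₀` it centralises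
  obtain ⟨c, hcQ, hcw, hc1⟩ : ∃ c ∈ Q, Commute c w ∧ c ≠ 1 := by
    by_contra! hall
    refine hne ?_
    have hin : ∀ x ∈ Q, x ∈ Qm := fun x hx => by
      obtain ⟨j, hj, f, hf, hfw, rfl⟩ := hdec x hx
      rw [hall f hf hfw, mul_one]
      exact hj
    exact congrArg Subtype.val (hQmc.is_comm.comm ⟨x₀, hin _ hx₀⟩ ⟨x₁, hin _ hx₁⟩)
  set P₀ : Subgroup G := Q ⊓ centralizer ({w} : Set G) with hP₀
  have hP₀mem : ∀ x, x ∈ P₀ ↔ x ∈ Q ∧ Commute x w := fun x => by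
    rw [Subgroup.mem_inf, mem_centralizer_singleton_iff]; rfl
  obtain ⟨t₀, ht₀, ht₀2, ht₀a, ht₀P⟩ := exists_inv_of_fixed hS hF hG ha hb hab hw hw2 hwa
    (X := P₀) (inf_le_left.trans hQ) (hQp inf_le_left) fun x hx => ((hP₀mem x).mp hx).2
  have hQm : ∀ f ∈ P₀, f ≠ 1 → ∀ x ∈ Qm, Commute x f → x ∈ zpowers z₀ := by
    intro f hf hf1 x hx hxf
    have hfQ := ((hP₀mem f).mp hf).1
    refine mem_zpowers_of_inverted hS ha hb hab hw hw2 hwa hshare (q := q)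
      (A := Qm ⊓ centralizer ({f} : Set G)) (fun z hz => hQ hz.1.1)
      ⟨⟨fun z z' => Subtype.ext (hinvc z z.2.1.1 z' z'.2.1.1 z.2.1.2 z'.2.1.2).eq⟩⟩
      (fun z hz => hexp z hz.1.1) (fun z hz => hz.1.2) (hQ hfQ) hf1
      (fun z hz => mem_centralizer_singleton_iff.mp hz.2) ht₀ ht₀2 ht₀a (ht₀P f hf)
      ⟨⟨hz₀Z.1, hZi z₀ hz₀Z⟩, mem_centralizer_singleton_iff.mpr
        (mem_centralizer_iff.mp hz₀Z.2 f hfQ).symm⟩
      ⟨hx, mem_centralizer_singleton_iff.mpr hxf.eq⟩ hz₀1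
  -- logarithms of commutators
  have hzmod : ∀ z ∈ Zq, ∃ i : ZMod q, z = z₀ ^ i.val := fun z hz => by
    obtain ⟨n, hn⟩ := mem_zpowers_iff.mp (hZgen z hz)
    refine ⟨(n : ZMod q), ?_⟩
    rw [← hn, ← zpow_natCast, ZMod.val_intCast, ← hz₀q, zpow_mod_orderOf]
  choose L hL using hzmod
  have hz0add : ∀ i j : ZMod q, z₀ ^ i.val * z₀ ^ j.val = z₀ ^ (i + j).val := fun i j => by
    rw [← pow_add, ZMod.val_add]
    conv_lhs => rw [← pow_mod_orderOf, hz₀q]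
  have hz0inj : ∀ i j : ZMod q, z₀ ^ i.val = z₀ ^ j.val → i = j := fun i j h =>
    ZMod.val_injective q (pow_injOn_Iio_orderOf (by rw [Set.mem_Iio, hz₀q]; exact i.val_lt)
      (by rw [Set.mem_Iio, hz₀q]; exact j.val_lt) h)
  have hLmul : ∀ (x x' z : G) (hx : x ∈ Q) (hx' : x' ∈ Q) (hz : z ∈ Q),
      L ⁅x * x', z⁆ (hZcomm _ (Q.mul_mem hx hx') _ hz) =
        L ⁅x, z⁆ (hZcomm _ hx _ hz) + L ⁅x', z⁆ (hZcomm _ hx' _ hz) := fun x x' z hx hx' hz => by
    refine hz0inj _ _ ?_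
    rw [← hz0add, ← hL, ← hL, ← hL]
    exact commutatorElement_mul_left (hcl x' hx' z hz x hx) (hcl x' hx' z hz z hz)
  -- an inverted element outside the centre
  obtain ⟨d, hdm, hdz⟩ : ∃ d ∈ Qm, d ∉ zpowers z₀ := by
    by_contra! hall
    refine hne ?_
    have hcent : ∀ x ∈ Q, ∃ j ∈ Zq, ∃ f ∈ Q, Commute f w ∧ x = j * f := fun x hx => by
      obtain ⟨j, hj, f, hf, hfw, rfl⟩ := hdec x hx
      exact ⟨j, zpowers_le.mpr hz₀Z (hall j hj), f, hf, hfw, rfl⟩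
    obtain ⟨j, hj, f, hf, hfw, rfl⟩ := hcent x₀ hx₀
    obtain ⟨j', hj', f', hf', hfw', rfl⟩ := hcent x₁ hx₁
    have c1 : Commute j (j' * f') := (mem_centralizer_iff.mp hj.2 _ hx₁).symm
    have c2 : Commute f j' := mem_centralizer_iff.mp hj'.2 f hf
    exact (c1.mul_left (c2.mul_right (hfixc f hf f' hf' hfw hfw'))).eq
  set α₀ := L ⁅d, c⁆ (hZcomm _ hdm.1 _ hcQ) with hα₀
  have hα0 : α₀ ≠ 0 := fun h => by
    have e := hL _ (hZcomm _ hdm.1 _ hcQ)
    rw [← hα₀, h, ZMod.val_zero, pow_zero] at e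
    exact hdz (hQm c ((hP₀mem c).mpr ⟨hcQ, hcw⟩) hc1 d hdm
      (commutatorElement_eq_one_iff_mul_comm.mp e))
  -- coordinates
  let θ : Q → Fin 2 → ZMod q := fun x =>
    ![L ⁅(x : G), c⁆ (hZcomm _ x.2 _ hcQ) * α₀⁻¹, L ⁅(x : G), d⁆ (hZcomm _ x.2 _ hdm.1) * (-α₀)⁻¹]
  have hθmul : ∀ x x' : Q, θ (x * x') = θ x + θ x' := fun x x' => by
    ext i; fin_cases i
    · show L ⁅(x : G) * x', c⁆ (hZcomm _ (Q.mul_mem x.2 x'.2) _ hcQ) * α₀⁻¹ = _ * _ + _ * _
      rw [hLmul _ _ _ x.2 x'.2 hcQ, add_mul]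
    · show L ⁅(x : G) * x', d⁆ (hZcomm _ (Q.mul_mem x.2 x'.2) _ hdm.1) * (-α₀)⁻¹ = _ * _ + _ * _
      rw [hLmul _ _ _ x.2 x'.2 hdm.1, add_mul]
  let Θ : Q →* Multiplicative (Fin 2 → ZMod q) :=
    MonoidHom.mk' (fun x => Multiplicative.ofAdd (θ x)) fun x x' => congrArg _ (hθmul x x')
  have hθpow : ∀ (x : Q) (n : ℕ), θ (x ^ n) = (n : ZMod q) • θ x := fun x n => by
    rw [Nat.cast_smul_eq_nsmul]
    exact congrArg Multiplicative.toAdd (map_pow Θ x n)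
  have hθone : θ 1 = 0 := congrArg Multiplicative.toAdd (map_one Θ)
  have hθinv : ∀ x : Q, θ x⁻¹ = - θ x := fun x => congrArg Multiplicative.toAdd (map_inv Θ x)
  have hcomm0 : ∀ (x z : G) (hx : x ∈ Q) (hz : z ∈ Q),
      L ⁅x, z⁆ (hZcomm _ hx _ hz) = 0 ↔ Commute x z := fun x z hx hz => by
    constructor
    · intro h
      have e := hL _ (hZcomm _ hx _ hz)
      rw [h, ZMod.val_zero, pow_zero] at e
      exact commutatorElement_eq_one_iff_mul_comm.mp e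
    · intro h
      refine hz0inj _ _ ?_
      rw [← hL, ZMod.val_zero, pow_zero]
      exact commutatorElement_eq_one_iff_mul_comm.mpr h
  have hθz : ∀ x : Q, (x : G) ∈ zpowers z₀ → θ x = 0 := fun x hx => by
    have hxz : (x : G) ∈ Zq := zpowers_le.mpr hz₀Z hx
    ext i; fin_cases i
    · show L _ _ * _ = 0
      rw [(hcomm0 _ _ x.2 hcQ).mpr (mem_centralizer_iff.mp hxz.2 c hcQ).symm, zero_mul]
    · show L _ _ * _ = 0
      rw [(hcomm0 _ _ x.2 hdm.1).mpr (mem_centralizer_iff.mp hxz.2 d hdm.1).symm, zero_mul]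
  have hθd : θ ⟨d, hdm.1⟩ = ![1, 0] := by
    ext i; fin_cases i
    · show L _ _ * _ = (1 : ZMod q)
      exact mul_inv_cancel₀ hα0
    · show L _ _ * _ = (0 : ZMod q)
      rw [(hcomm0 _ _ hdm.1 hdm.1).mpr (Commute.refl d), zero_mul]
  have hθc : θ ⟨c, hcQ⟩ = ![0, 1] := by
    ext i; fin_cases i
    · show L _ _ * _ = (0 : ZMod q)
      rw [(hcomm0 _ _ hcQ hcQ).mpr (Commute.refl c), zero_mul]
    · show L _ _ * _ = (1 : ZMod q)
      have e : L ⁅c, d⁆ (hZcomm _ hcQ _ hdm.1) = -α₀ := by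
        refine eq_neg_of_add_eq_zero_left (hz0inj _ _ ?_)
        rw [← hz0add, ← hL, hα₀, ← hL, ZMod.val_zero, pow_zero, ← commutatorElement_inv,
          inv_mul_cancel]
      rw [e]
      exact mul_inv_cancel₀ (neg_ne_zero.mpr hα0)
  -- every element is a product of powers of `d`, `c` and a central element
  have hker : ∀ x : Q, θ x = 0 → (x : G) ∈ zpowers z₀ := by
    intro x hx
    have hxc : Commute (x : G) c := (hcomm0 _ _ x.2 hcQ).mp
      ((mul_eq_zero.mp (congrFun hx 0)).resolve_right (inv_ne_zero hα0))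
    have hxd : Commute (x : G) d := (hcomm0 _ _ x.2 hdm.1).mp
      ((mul_eq_zero.mp (congrFun hx 1)).resolve_right (inv_ne_zero (neg_ne_zero.mpr hα0)))
    obtain ⟨j, hj, f, hf, hfw, hjf⟩ := hdec x x.2
    have hfd : Commute f d := by
      rw [show f = j⁻¹ * x by rw [hjf]; group]
      exact (hinvc j hj.1 d hdm.1 hj.2 hdm.2).inv_left.mul_left hxd
    have hf1 : f = 1 := by_contra fun h => hdz (hQm f ((hP₀mem f).mpr ⟨hf, hfw⟩) h d hdm hfd.symm)
    rw [hjf, hf1, mul_one] at hxc ⊢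
    exact hQm c ((hP₀mem c).mpr ⟨hcQ, hcw⟩) hc1 j hj hxc
  have hgen : ∀ x : Q, ∃ z : Q, θ z = 0 ∧
      x = ⟨d, hdm.1⟩ ^ (θ x 0).val * ⟨c, hcQ⟩ ^ (θ x 1).val * z := fun x => by
    refine ⟨(⟨d, hdm.1⟩ ^ (θ x 0).val * ⟨c, hcQ⟩ ^ (θ x 1).val)⁻¹ * x, ?_,
      (mul_inv_cancel_left _ _).symm⟩
    rw [hθmul, hθinv, hθmul, hθpow, hθpow, hθd, hθc, ZMod.natCast_zmod_val, ZMod.natCast_zmod_val]
    ext i; fin_cases i <;> simp
  -- the representation
  set NQ : Subgroup G := normalizer (Q : Set G) with hNQ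
  let cj : NQ → Q → Q := fun g x =>
    ⟨g * x * (g : G)⁻¹, (Subgroup.mem_normalizer_iff.mp g.2 _).mp x.2⟩
  have hcjmul : ∀ (g : NQ) (x x' : Q), cj g (x * x') = cj g x * cj g x' := fun g x x' =>
    Subtype.ext (show (g : G) * (x * x' : G) * (g : G)⁻¹ = g * x * (g : G)⁻¹ * (g * x' * (g : G)⁻¹)
      by group)
  let M : NQ → Matrix (Fin 2) (Fin 2) (ZMod q) := fun g =>
    Matrix.of fun i j => θ (cj g (![⟨d, hdm.1⟩, ⟨c, hcQ⟩] j)) i
  have hM : ∀ (g : NQ) (x : Q), (M g).mulVec (θ x) = θ (cj g x) := by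
    intro g x
    obtain ⟨z, hz, hx⟩ := hgen x
    let φ : Q →* Q := MonoidHom.mk' (cj g) (hcjmul g)
    have hzg : θ (φ z) = 0 := by
      refine hθz _ (hZgen _ ?_)
      exact (Subgroup.mem_normalizer_iff.mp (hnormQ g.2) _).mp (zpowers_le.mpr hz₀Z (hker z hz))
    conv_rhs => rw [hx]
    show _ = θ (φ _)
    rw [map_mul, map_mul, map_pow, map_pow, hθmul, hθmul, hzg, hθpow, hθpow,
      ZMod.natCast_zmod_val, ZMod.natCast_zmod_val]
    ext i
    simp only [M, φ, Matrix.mulVec, dotProduct, Fin.sum_univ_two, Matrix.of_apply, Pi.add_apply,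
      Pi.smul_apply, smul_eq_mul, Pi.zero_apply, MonoidHom.mk'_apply, Matrix.cons_val_zero,
      Matrix.cons_val_one, Matrix.cons_val_fin_one]
    ring
  have he0 : θ ⟨d, hdm.1⟩ = Pi.single 0 1 := by rw [hθd]; ext i; fin_cases i <;> rfl
  have he1 : θ ⟨c, hcQ⟩ = Pi.single 1 1 := by rw [hθc]; ext i; fin_cases i <;> rfl
  have hsingle : ∀ i : Fin 2, ∃ x : Q, θ x = Pi.single i 1 := Fin.forall_fin_two.mpr
    ⟨⟨_, he0⟩, ⟨_, he1⟩⟩
  let Mh : NQ →* Matrix (Fin 2) (Fin 2) (ZMod q) :=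
    { toFun := M
      map_one' := Matrix.ext_of_mulVec_single fun i => by
        obtain ⟨x, hx⟩ := hsingle i
        rw [← hx, hM, Matrix.one_mulVec]
        exact congrArg θ (Subtype.ext (by show (1 : G) * x * (1 : G)⁻¹ = x; group))
      map_mul' := fun g g' => Matrix.ext_of_mulVec_single fun i => by
        obtain ⟨x, hx⟩ := hsingle i
        rw [← hx, hM, ← Matrix.mulVec_mulVec, hM, hM]
        exact congrArg θ (Subtype.ext (show ((g * g' : NQ) : G) * x * ((g * g' : NQ) : G)⁻¹ =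
          g * (g' * x * (g' : G)⁻¹) * (g : G)⁻¹ by push_cast; group)) }
  let ρ : NQ →* GL (Fin 2) (ZMod q) := Mh.toHomUnits
  have hρ : ∀ (g : NQ) (x : Q),
      ((ρ g : GL (Fin 2) (ZMod q)) : Matrix (Fin 2) (Fin 2) (ZMod q)).mulVec (θ x) = θ (cj g x) := hM
  set H : Subgroup (GL (Fin 2) (ZMod q)) := (D.subgroupOf NQ).map ρ with hH
  have hHodd : Odd (Nat.card H) := by
    refine (hS.odd_pair ha hb hab).of_dvd_nat ((Subgroup.card_map_dvd (D.subgroupOf NQ) ρ).trans ?_)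
    exact dvd_of_eq (Nat.card_congr (subgroupOfEquivOfLe hQn).toEquiv)
  set ωw : NQ := ⟨w, hQw⟩ with hωw
  have hwH : ρ ωw ∈ normalizer (H : Set (GL (Fin 2) (ZMod q))) :=
    le_normalizer_map ρ ⟨ωw, Subgroup.mem_normalizer_iff.mpr fun g => by
      rw [mem_subgroupOf, mem_subgroupOf]
      exact Subgroup.mem_normalizer_iff.mp hwD g, rfl⟩
  haveI : NeZero q := ⟨(Fact.out : q.Prime).ne_zero⟩
  have h2 : (2 : ZMod q) ≠ 0 := fun h => by
    have h' : ((2 : ℕ) : ZMod q) = 0 := by exact_mod_cast h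
    rw [ZMod.natCast_eq_zero_iff] at h'
    rcases (Nat.dvd_prime Nat.prime_two).mp h' with e | e
    · exact (Fact.out : q.Prime).ne_one e
    · rw [e] at hqodd; exact absurd hqodd (by decide)
  have hwd : cj ωw ⟨d, hdm.1⟩ = (⟨d, hdm.1⟩ : Q)⁻¹ := Subtype.ext hdm.2
  have hwc : cj ωw ⟨c, hcQ⟩ = ⟨c, hcQ⟩ :=
    Subtype.ext (show w * c * w⁻¹ = c by rw [← hcw.eq, mul_inv_cancel_right])
  -- the lines of `d` and of `c` are not invariant
  have hline : ∀ i : Fin 2, ∀ s : Q, θ s = Pi.single i 1 → (∀ x x' : Q,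
      (∀ k, k ≠ i → θ x k = 0) → (∀ k, k ≠ i → θ x' k = 0) → Commute (x : G) x') →
      (∀ g : NQ, (g : G) ∈ D → ∀ k, k ≠ i → θ (cj g s) k = 0) →
      (∀ k, k ≠ i → θ (cj ωw s) k = 0) →
      False := by
    intro i s hs hcom hinv hws
    let X : Subgroup G :=
      { carrier := {x | ∃ hx : x ∈ Q, ∀ k, k ≠ i → θ ⟨x, hx⟩ k = 0}
        one_mem' := ⟨Q.one_mem, fun k _ => congrFun hθone k⟩
        mul_mem' := fun {x x'} hx hx' => ⟨Q.mul_mem hx.1 hx'.1, fun k hk => by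
          show θ ((⟨x, hx.1⟩ : Q) * ⟨x', hx'.1⟩) k = 0
          rw [hθmul, Pi.add_apply, hx.2 k hk, hx'.2 k hk, add_zero]⟩
        inv_mem' := fun {x} hx => ⟨Q.inv_mem hx.1, fun k hk => by
          show θ (⟨x, hx.1⟩ : Q)⁻¹ k = 0
          rw [hθinv, Pi.neg_apply, hx.2 k hk, neg_zero]⟩ }
    have key : ∀ g : NQ, (∀ k, k ≠ i → θ (cj g s) k = 0) →
        ∀ x ∈ X, (g : G) * x * (g : G)⁻¹ ∈ X := by
      rintro g hg x ⟨hx, hx0⟩
      refine ⟨(cj g ⟨x, hx⟩).2, fun k hk => ?_⟩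
      show θ (cj g ⟨x, hx⟩) k = 0
      have e : θ ⟨x, hx⟩ = θ ⟨x, hx⟩ i • θ s := by
        ext l
        rcases eq_or_ne l i with rfl | hl
        · simp [hs]
        · simp [hs, hl, hx0 l hl]
      rw [← hM, e, Matrix.mulVec_smul, hM, Pi.smul_apply, hg k hk, smul_zero]
    have hnorm : ∀ g : NQ, (∀ k, k ≠ i → θ (cj g s) k = 0) →
        (∀ k, k ≠ i → θ (cj g⁻¹ s) k = 0) → (g : G) ∈ normalizer (X : Set G) :=
      fun g hg hg' => Subgroup.mem_normalizer_iff.mpr fun x => ⟨key g hg x, fun h => by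
        simpa [mul_assoc] using key g⁻¹ hg' _ h⟩
    have hXD : D ≤ normalizer (X : Set G) := fun g hg => hnorm ⟨g, hQn hg⟩
      (hinv _ hg) (hinv _ (D.inv_mem hg))
    have hwi' : ωw⁻¹ = ωw := Subtype.ext hwi
    have hXw : w ∈ normalizer (X : Set G) := hnorm ωw hws (by rw [hwi']; exact hws)
    have hXc : IsMulCommutative X :=
      ⟨⟨fun x x' => Subtype.ext (hcom ⟨x, x.2.1⟩ ⟨x', x'.2.1⟩ x.2.2 x'.2.2).eq⟩⟩
    have hXQ : X ≤ Q := fun x hx => hx.1
    have hzX : z₀ ∈ X := ⟨hz₀Z.1, fun k _ =>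
      congrFun (hθz ⟨z₀, hz₀Z.1⟩ (mem_zpowers z₀)) k⟩
    have hsX : (s : G) ∈ X := ⟨s.2, fun k hk => by simp [hs, hk]⟩
    have := habel X hXQ hXD hXw hXc z₀ hzX _ hsX hz₀1
    have h0 := hθz s this
    rw [hs] at h0
    exact one_ne_zero (α := ZMod q) (by simpa using congrFun h0 i)
  have hlc : ∃ g : NQ, (g : G) ∈ D ∧ θ (cj g ⟨c, hcQ⟩) 0 ≠ 0 := by
    by_contra! hall
    refine hline 1 ⟨c, hcQ⟩ he1 ?_ (fun g hg k hk => by
        obtain rfl : k = 0 := by omega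
        exact hall g hg) (fun k hk => by rw [hwc, he1]; simp [hk])
    intro x x' hx hx'
    obtain ⟨z, hz, hxe⟩ := hgen x
    obtain ⟨z', hz', hxe'⟩ := hgen x'
    rw [hx 0 (by decide), ZMod.val_zero, pow_zero, one_mul] at hxe
    rw [hx' 0 (by decide), ZMod.val_zero, pow_zero, one_mul] at hxe'
    rw [hxe, hxe']
    push_cast
    have hzc : ∀ u : G, u ∈ Q → Commute (z : G) u := fun u hu =>
      (mem_centralizer_iff.mp (zpowers_le.mpr hz₀Z (hker z hz)).2 u hu).symm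
    have hzc' : ∀ u : G, u ∈ Q → Commute u (z' : G) := fun u hu =>
      mem_centralizer_iff.mp (zpowers_le.mpr hz₀Z (hker z' hz')).2 u hu
    exact (((Commute.refl c).pow_pow _ _).mul_right (hzc' _ (Q.pow_mem hcQ _))).mul_left
      (hzc _ (Q.mul_mem (Q.pow_mem hcQ _) z'.2))
  rcases OddGLTwo.commutative_or_line h2 H hHodd with hcommH | ⟨v, hv0, hv⟩
  swap
  · -- a common line
    obtain ⟨μ, hμ⟩ := Submodule.mem_span_singleton.mp (hv _ hwH)
    have hdecv : ∀ u : Fin 2 → ZMod q, u = u 0 • θ ⟨d, hdm.1⟩ + u 1 • θ ⟨c, hcQ⟩ := fun u => by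
      rw [he0, he1]; ext i; fin_cases i <;> simp
    have hw_v : ((ρ ωw : GL (Fin 2) (ZMod q)) : Matrix (Fin 2) (Fin 2) (ZMod q)).mulVec v =
        ![-v 0, v 1] := by
      conv_lhs => rw [hdecv v]
      rw [Matrix.mulVec_add, Matrix.mulVec_smul, Matrix.mulVec_smul, hρ, hρ, hwd, hwc, hθinv, hθd,
        hθc]
      ext i; fin_cases i <;> simp
    rw [hw_v] at hμ
    have e0 : μ * v 0 = -v 0 := congrFun hμ 0
    have e1 : μ * v 1 = v 1 := congrFun hμ 1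
    have hinvH : ∀ g : NQ, (g : G) ∈ D →
        ((ρ g : GL (Fin 2) (ZMod q)) : Matrix (Fin 2) (Fin 2) (ZMod q)).mulVec v ∈
          Submodule.span (ZMod q) {v} := fun g hg =>
      hv _ (Subgroup.le_normalizer (mem_map_of_mem ρ (mem_subgroupOf.mpr hg)))
    by_cases hv00 : v 0 = 0
    · have hv1 : v 1 ≠ 0 := fun h => hv0 (funext fun i => by fin_cases i <;> simp [hv00, h])
      obtain ⟨g, hg, hg0⟩ := hlc
      obtain ⟨ν, hν⟩ := Submodule.mem_span_singleton.mp (hinvH g hg)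
      rw [hdecv v, Matrix.mulVec_add, Matrix.mulVec_smul, Matrix.mulVec_smul, hρ, hρ, hv00,
        zero_smul, zero_smul, zero_add, zero_add, he1] at hν
      have := congrFun hν 0
      simp [hv1, hg0] at this
    · have hμ' : μ = -1 := mul_right_cancel₀ hv00 (by rw [e0, neg_one_mul])
      have hv10 : v 1 = 0 := by
        rw [hμ', neg_one_mul] at e1
        exact (mul_eq_zero.mp (show (2 : ZMod q) * v 1 = 0 by linear_combination -e1)).resolve_left h2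
      refine hline 0 ⟨d, hdm.1⟩ he0 ?_ (fun g hg k hk => by
          obtain rfl : k = 1 := by omega
          obtain ⟨ν, hν⟩ := Submodule.mem_span_singleton.mp (hinvH g hg)
          rw [hdecv v, Matrix.mulVec_add, Matrix.mulVec_smul, Matrix.mulVec_smul, hρ, hρ, hv10,
            zero_smul, zero_smul, add_zero, add_zero, he0] at hν
          have := congrFun hν 1
          simp [hv00] at this
          exact this) (fun k hk => by rw [hwd, hθinv, he0]; simp [hk])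
      intro x x' hx hx'
      obtain ⟨z, hz, hxe⟩ := hgen x
      obtain ⟨z', hz', hxe'⟩ := hgen x'
      rw [hx 1 (by decide), ZMod.val_zero, pow_zero, mul_one] at hxe
      rw [hx' 1 (by decide), ZMod.val_zero, pow_zero, mul_one] at hxe'
      rw [hxe, hxe']
      push_cast
      have hzc : ∀ u : G, u ∈ Q → Commute (z : G) u := fun u hu =>
        (mem_centralizer_iff.mp (zpowers_le.mpr hz₀Z (hker z hz)).2 u hu).symm
      have hzc' : ∀ u : G, u ∈ Q → Commute u (z' : G) := fun u hu =>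
        mem_centralizer_iff.mp (zpowers_le.mpr hz₀Z (hker z' hz')).2 u hu
      exact (((Commute.refl d).pow_pow _ _).mul_right (hzc' _ (Q.pow_mem hdm.1 _))).mul_left
        (hzc _ (Q.mul_mem (Q.pow_mem hdm.1 _) z'.2))
  -- abelian image: a conjugate `y₀` of `y` fixes the lines of all involutions at `a`
  obtain ⟨e, he, het⟩ := hS.fix_conj ha hb hab ht ht₀ ht2 ht₀2 hta ht₀a
  set y₀ := e * y * e⁻¹ with hy₀
  have hy₀D : y₀ ∈ D := D.mul_mem (D.mul_mem he hy) (D.inv_mem he)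
  have hy₀p : IsPGroup p (zpowers y₀) := by
    have h := hyp.map (MulAut.conj e).toMonoidHom
    rwa [MonoidHom.map_zpowers] at h
  have hy₀t : Commute y₀ t₀ := by
    rw [← het]
    show e * y * e⁻¹ * (e * t * e⁻¹) = e * t * e⁻¹ * (e * y * e⁻¹)
    calc e * y * e⁻¹ * (e * t * e⁻¹) = e * (y * t) * e⁻¹ := by group
      _ = _ := by rw [hyt.eq]; group
  let Inv : Type u := {s : G // s ∈ S ∧ orderOf s = 2 ∧ s • a = a}
  have hy₀uniq : ∀ s : Inv, Commute y₀ (s : G) → (s : G) = t₀ := by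
    rintro ⟨s, hs, hs2, hsa⟩ hys
    obtain ⟨heS, hea, -⟩ := mem_pair.mp he
    have h1 := huniq (e⁻¹ * s * e) (by simpa using conj_mem_of_mem (inv_mem heS) hs)
      (by simpa using (orderOf_conj e⁻¹ s).trans hs2) (by
        rw [mul_smul, mul_smul, hea, hsa, inv_smul_eq_iff, hea]) (by
        show y * (e⁻¹ * s * e) = e⁻¹ * s * e * y
        calc y * (e⁻¹ * s * e) = e⁻¹ * (y₀ * s) * e := by rw [hy₀]; group
          _ = _ := by rw [hys.eq, hy₀]; group)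
    rw [← het, ← h1]; group
  -- lines of involutions
  let Li : G → Set (Fin 2 → ZMod q) := fun s => {u | ∃ x : Q, Commute (x : G) s ∧ θ x = u}
  have hLi : ∀ (g : NQ) (s : G), Li (g * s * (g : G)⁻¹) =
      (fun u => ((ρ g : GL (Fin 2) (ZMod q)) : Matrix (Fin 2) (Fin 2) (ZMod q)).mulVec u) '' Li s := by
    intro g s
    ext u
    constructor
    · rintro ⟨x, hx, rfl⟩
      refine ⟨θ (cj g⁻¹ x), ⟨cj g⁻¹ x, ?_, rfl⟩, ?_⟩
      · show (g : G)⁻¹ * x * (g : G)⁻¹⁻¹ * s = s * ((g : G)⁻¹ * x * (g : G)⁻¹⁻¹)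
        calc (g : G)⁻¹ * x * (g : G)⁻¹⁻¹ * s = (g : G)⁻¹ * (x * (g * s * (g : G)⁻¹)) * g := by group
          _ = _ := by rw [hx.eq]; group
      · show Matrix.mulVec _ _ = _
        rw [hρ]
        exact congrArg θ (Subtype.ext
          (show (g : G) * ((g : G)⁻¹ * x * (g : G)⁻¹⁻¹) * (g : G)⁻¹ = x by group))
    · rintro ⟨_, ⟨x, hx, rfl⟩, rfl⟩
      refine ⟨cj g x, ?_, (hρ g x).symm⟩
      show (g : G) * x * (g : G)⁻¹ * (g * s * (g : G)⁻¹) = g * s * (g : G)⁻¹ * (g * x * (g : G)⁻¹)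
      calc (g : G) * x * (g : G)⁻¹ * (g * s * (g : G)⁻¹) = g * ((x : G) * s) * (g : G)⁻¹ := by group
        _ = _ := by rw [hx.eq]; group
  have hLt₀ : ∀ u ∈ Li t₀, u 0 = 0 := by
    rintro _ ⟨x, hxt, rfl⟩
    obtain ⟨j, hj, f, hf, hfw, hjf⟩ := hdec x x.2
    have hj1 : j = 1 := by
      refine eq_one_of_inverted_of_commute hS ha hb hab hw hw2 hwa (hQ hj.1) hj.2 ht₀ ht₀2 ht₀a ?_
      rw [show j = x * f⁻¹ by rw [hjf]; group]
      exact hxt.mul_left (ht₀P f ((hP₀mem f).mpr ⟨hf, hfw⟩)).inv_left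
    rw [hj1, one_mul] at hjf
    show L _ _ * _ = 0
    rw [(hcomm0 _ _ x.2 hcQ).mpr (hjf ▸ hfixc f hf c hcQ hfw hcw), zero_mul]
  have hcLi : θ ⟨c, hcQ⟩ ∈ Li t₀ := ⟨_, ht₀P c ((hP₀mem c).mpr ⟨hcQ, hcw⟩), rfl⟩
  set η : NQ := ⟨y₀, hQn hy₀D⟩ with hη
  have hyfix : ∀ g : NQ, (g : G) ∈ D → Li (y₀ * (g * t₀ * (g : G)⁻¹) * y₀⁻¹) =
      Li (g * t₀ * (g : G)⁻¹) := by
    intro g hg
    have hcomm' : ρ η * ρ g = ρ g * ρ η := hcommH _ (mem_map_of_mem ρ (mem_subgroupOf.mpr hy₀D)) _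
      (mem_map_of_mem ρ (mem_subgroupOf.mpr hg))
    have hyLi : (fun u => ((ρ η : GL (Fin 2) (ZMod q)) : Matrix (Fin 2) (Fin 2) (ZMod q)).mulVec u) ''
        Li t₀ = Li t₀ := by
      rw [← hLi]
      exact congrArg Li (show y₀ * t₀ * y₀⁻¹ = t₀ by rw [hy₀t.eq, mul_inv_cancel_right])
    show Li ((η : G) * _ * (η : G)⁻¹) = _
    rw [hLi, hLi, Set.image_image]
    simp only [Matrix.mulVec_mulVec, ← Units.val_mul, hcomm']
    simp only [Units.val_mul, ← Matrix.mulVec_mulVec]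
    rw [← Set.image_image (g := fun u => Matrix.mulVec _ u), hyLi]
  obtain ⟨g, hgD, hg0⟩ := hlc
  set s₁ : G := g * t₀ * (g : G)⁻¹ with hs₁
  have hne₁ : Li s₁ ≠ Li t₀ := fun h => hg0 (hLt₀ _ (h ▸ (hLi g t₀).symm ▸
    ⟨_, hcLi, hρ g ⟨c, hcQ⟩⟩))
  have hconj : ∀ g' ∈ D, ∀ s : Inv, g' * (s : G) * g'⁻¹ ∈ S ∧ orderOf (g' * (s : G) * g'⁻¹) = 2 ∧
      (g' * (s : G) * g'⁻¹) • a = a := by
    rintro g' hg' ⟨s, hs, hs2, hsa⟩
    refine ⟨conj_mem_of_mem (mem_pair.mp hg').1 hs, by rw [orderOf_conj, hs2], ?_⟩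
    have h' := conj_smul_of_smul (g := g') hsa
    rwa [(mem_pair.mp hg').2.1] at h'
  -- fibres of `Li` on the involutions at `a`
  let Fib : G → Type u := fun r => {s : Inv // Li (s : G) = Li r}
  have hfib_card : Nat.card (Fib t₀) = Nat.card (Fib s₁) := Nat.card_congr
    { toFun := fun s => ⟨⟨g * (s.1 : G) * (g : G)⁻¹, hconj g hgD s.1⟩, by
        show Li (g * (s.1 : G) * (g : G)⁻¹) = Li s₁
        rw [hs₁, hLi, hLi, s.2]⟩
      invFun := fun s => ⟨⟨(g⁻¹ : NQ) * (s.1 : G) * ((g⁻¹ : NQ) : G)⁻¹,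
          hconj _ (D.inv_mem hgD) s.1⟩, by
        show Li ((g⁻¹ : NQ) * (s.1 : G) * ((g⁻¹ : NQ) : G)⁻¹) = Li t₀
        rw [hLi, s.2, ← hLi, hs₁]
        exact congrArg Li (by push_cast; group)⟩
      left_inv := fun s => Subtype.ext (Subtype.ext (by
        show ((g⁻¹ : NQ) : G) * (g * (s.1 : G) * (g : G)⁻¹) * ((g⁻¹ : NQ) : G)⁻¹ = s.1
        push_cast; group))
      right_inv := fun s => Subtype.ext (Subtype.ext (by
        show (g : G) * (((g⁻¹ : NQ) : G) * (s.1 : G) * ((g⁻¹ : NQ) : G)⁻¹) * (g : G)⁻¹ = s.1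
        push_cast; group)) }
  have hclosed : ∀ k ∈ zpowers y₀, ∀ s : Inv, Li (k * (s : G) * k⁻¹) = Li (s : G) := by
    have base : ∀ s : Inv, Li (y₀ * (s : G) * y₀⁻¹) = Li (s : G) := fun s => by
      obtain ⟨g', hg', hgs⟩ := hS.fix_conj ha hb hab ht₀ s.2.1 ht₀2 s.2.2.1 ht₀a s.2.2.2
      rw [← hgs]
      exact hyfix ⟨g', hQn hg'⟩ hg'
    have hle : ∀ k ∈ zpowers y₀, k ∈ D := fun k hk => zpowers_le.mpr hy₀D hk
    intro k hk
    obtain ⟨n, rfl⟩ := Submonoid.mem_powers_iff _ _ |>.mp (mem_powers_iff_mem_zpowers.mpr hk)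
    induction n with
    | zero => intro s; simp
    | succ n ih =>
      intro s
      have h1 := ih (pow_mem (mem_zpowers y₀) _) ⟨_, hconj y₀ hy₀D s⟩
      rw [← base s, ← h1]
      exact congrArg Li (by show _ = y₀ ^ n * (y₀ * (s : G) * y₀⁻¹) * (y₀ ^ n)⁻¹; group)
  have hact : ∀ r, ∀ k : zpowers y₀, ∀ s : Fib r,
      Li ((k : G) * (s.1 : G) * (k : G)⁻¹) = Li r := fun r k s =>
    (hclosed k k.2 s.1).trans s.2
  letI inst : ∀ r, MulAction (zpowers y₀) (Fib r) := fun r =>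
    { smul := fun k s => ⟨⟨(k : G) * (s.1 : G) * (k : G)⁻¹,
        hconj _ (zpowers_le.mpr hy₀D k.2) s.1⟩, hact r k s⟩
      one_smul := fun s => Subtype.ext (Subtype.ext
        (show ((1 : zpowers y₀) : G) * (s.1 : G) * ((1 : zpowers y₀) : G)⁻¹ = s.1 by simp))
      mul_smul := fun k k' s => Subtype.ext (Subtype.ext
        (show ((k * k' : zpowers y₀) : G) * (s.1 : G) * ((k * k' : zpowers y₀) : G)⁻¹ =
          k * (k' * (s.1 : G) * (k' : G)⁻¹) * (k : G)⁻¹ by simp [mul_assoc])) }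
  have hfixed : ∀ r, ∀ s ∈ fixedPoints (zpowers y₀) (Fib r), ((s : Fib r).1 : G) = t₀ :=
    fun r s hs => hy₀uniq _ (mul_inv_eq_iff_eq_mul.mp
      (congrArg (fun x : Fib r => (x.1 : G)) (hs ⟨y₀, mem_zpowers y₀⟩)))
  have hndvd : ¬ p ∣ Nat.card (Fib t₀) := by
    intro hd
    let f₀ : Fib t₀ := ⟨⟨t₀, ht₀, ht₀2, ht₀a⟩, rfl⟩
    have hf₀ : f₀ ∈ fixedPoints (zpowers y₀) (Fib t₀) := fun k => by
      refine Subtype.ext (Subtype.ext ?_)
      show (k : G) * t₀ * (k : G)⁻¹ = t₀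
      obtain ⟨n, hn⟩ := mem_zpowers_iff.mp k.2
      rw [← hn, (hy₀t.zpow_left n).eq, mul_inv_cancel_right]
    obtain ⟨f₁, hf₁, hf₁ne⟩ := hy₀p.exists_fixed_point_of_prime_dvd_card_of_fixed_point _ hd hf₀
    exact hf₁ne (Subtype.ext (Subtype.ext (hfixed t₀ f₁ hf₁))).symm
  obtain ⟨f₁, hf₁⟩ := hy₀p.nonempty_fixed_point_of_prime_not_dvd_card (Fib s₁) (hfib_card ▸ hndvd)
  exact hne₁ (by rw [← f₁.2, hfixed s₁ f₁ hf₁])

end Cfsg.Agent.H53.SE
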