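import Cfsg.Agent.H53.SE.InvNormal
import Cfsg.Agent.H30.ClassFit.Fixed

/-!
Consequences of THEOREM V: an inverted normal subgroup of the pair stabiliser whose centraliser meets
the centraliser of the swapper trivially, in particular a non-cyclic elementary abelian one, makes the
inverted elements an abelian normal subgroup regular on the involutions at the point.
-/

set_option autoImplicit false
set_option linter.style.haveILetI false

namespace Cfsg.Agent.H53.SE

open Subgroup MulAction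
open Cfsg.Agent.H39
open Cfsg.Agent.H73.Bender
open Cfsg.Agent.Cores.SE

universe u v

variable {G : Type u} [Group G] {Ω : Type v} [MulAction G Ω] {S : Subgroup G} {C : Set Ω}

/-- A swapper normalises the pair stabiliser. -/
theorem conj_swap_mem_pair {a b : Ω} {w : G} (hw : w ∈ S) (hw2 : orderOf w = 2) (hwa : w • a = b)
    {d : G} (hd : d ∈ pair S a b) : w * d * w⁻¹ ∈ pair S a b := by
  obtain ⟨hdS, hda, hdb⟩ := mem_pair.mp hd
  refine mem_pair.mpr ⟨conj_mem_of_mem hw hdS, ?_, ?_⟩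
  · have h := conj_smul_of_smul (g := w) hdb
    rwa [swap_symm hw2 hwa] at h
  · have h := conj_smul_of_smul (g := w) hda
    rwa [hwa] at h

variable [Finite G]

/-- An element of odd order whose square commutes with `x` commutes with `x`. -/
theorem commute_of_sq {j x : G} (hj : Odd (orderOf j)) (h : Commute (j * j) x) : Commute j x := by
  obtain ⟨k, hk⟩ := hj
  have h3 := h.pow_left (k + 1)
  rwa [← sq, ← pow_mul, show 2 * (k + 1) = orderOf j + 1 by omega, pow_succ, pow_orderOf_eq_one,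
    one_mul] at h3

/-- Every element of the pair stabiliser is an element inverted by the swapper times one centralising
it. -/
theorem exists_inverted_mul (hS : SE S C) {a b : Ω} (ha : a ∈ C) (hb : b ∈ C) (hab : a ≠ b) {w : G}
    (hw : w ∈ S) (hw2 : orderOf w = 2) (hwa : w • a = b) {d : G} (hd : d ∈ pair S a b) :
    ∃ j ∈ invertedBy S a b w, ∃ f ∈ pair S a b, Commute f w ∧ d = j * f := by
  have hwi : w⁻¹ = w := inv_eq_of_orderOf_eq_two hw2
  have hww : w * w = 1 := mul_self_of_orderOf_eq_two hw2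
  set z := d * (w * d⁻¹ * w⁻¹) with hz
  have hzD : z ∈ pair S a b := mul_mem hd (conj_swap_mem_pair hw hw2 hwa (inv_mem hd))
  have hzi : w * z * w⁻¹ = z⁻¹ := by
    rw [hz, hwi]
    calc w * (d * (w * d⁻¹ * w)) * w = w * d * w * d⁻¹ * (w * w) := by group
      _ = (d * (w * d⁻¹ * w))⁻¹ := by
        rw [hww, mul_one, mul_inv_rev, mul_inv_rev, mul_inv_rev, hwi, inv_inv]; group
  obtain ⟨k, hk⟩ : Odd (orderOf z) :=
    (hS.odd_pair ha hb hab).of_dvd_nat (Subgroup.orderOf_dvd_natCard _ hzD)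
  set j := z ^ (k + 1) with hj
  have hjj : j * j = z := by
    rw [hj, ← pow_add, show k + 1 + (k + 1) = orderOf z + 1 by omega, pow_succ, pow_orderOf_eq_one,
      one_mul]
  have hji : w * j * w⁻¹ = j⁻¹ := by rw [hj, ← conj_pow, hzi, inv_pow]
  have hjD : j ∈ pair S a b := pow_mem hzD _
  refine ⟨j, ⟨hjD, hji⟩, j⁻¹ * d, mul_mem (inv_mem hjD) hd, ?_, by group⟩
  have hwj : w * j = j⁻¹ * w := mul_inv_eq_iff_eq_mul.mp hji
  have hdw : d * w * d⁻¹ = z * w := by rw [hz]; group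
  refine mul_inv_eq_iff_eq_mul.mp ?_
  calc j⁻¹ * d * w * (j⁻¹ * d)⁻¹ = j⁻¹ * (d * w * d⁻¹) * j := by group
    _ = j⁻¹ * (j * j) * (w * j) := by rw [hdw, ← hjj]; group
    _ = w := by rw [hwj]; group

/-- An inverted element commutes with every inverted subgroup it normalises. -/
theorem commute_of_inverted (hS : SE S C) {a b : Ω} (ha : a ∈ C) (hb : b ∈ C) (hab : a ≠ b) {w : G}
    {A : Subgroup G} (hAn : pair S a b ≤ normalizer (A : Set G))
    (hAi : ∀ x ∈ A, w * x * w⁻¹ = x⁻¹) {j : G} (hj : j ∈ invertedBy S a b w) {x : G} (hx : x ∈ A) :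
    Commute j x := by
  have h1 : w * (j * x * j⁻¹) * w⁻¹ = (j * x * j⁻¹)⁻¹ :=
    hAi _ ((Subgroup.mem_normalizer_iff.mp (hAn hj.1) x).mp hx)
  have h2 : j⁻¹ * x⁻¹ * j = j * x⁻¹ * j⁻¹ :=
    calc j⁻¹ * x⁻¹ * j = (w * j * w⁻¹) * (w * x * w⁻¹) * (w * j * w⁻¹)⁻¹ := by
          rw [hAi x hx, hj.2, inv_inv]
      _ = w * (j * x * j⁻¹) * w⁻¹ := by group
      _ = j * x⁻¹ * j⁻¹ := by rw [h1]; group
  refine commute_of_sq ((hS.odd_pair ha hb hab).of_dvd_nat (Subgroup.orderOf_dvd_natCard _ hj.1)) ?_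
  refine Commute.inv_right_iff.mp (mul_inv_eq_iff_eq_mul.mp ?_)
  calc j * j * x⁻¹ * (j * j)⁻¹ = j * (j * x⁻¹ * j⁻¹) * j⁻¹ := by group
    _ = x⁻¹ := by rw [← h2]; group

variable [Finite Ω]

/-- The inverted elements are in bijection with the involutions at the point. -/
theorem card_invertedBy (hS : SE S C) (hF : Faithful S C) {a b : Ω} (ha : a ∈ C) (hb : b ∈ C)
    (hab : a ≠ b) {w : G} (hw : w ∈ S) (hw2 : orderOf w = 2) (hwa : w • a = b) :
    Nat.card (invertedBy S a b w) = invBar S C a := by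
  have hwi : w⁻¹ = w := inv_eq_of_orderOf_eq_two hw2
  have hww : w * w = 1 := mul_self_of_orderOf_eq_two hw2
  rw [invBar_eq_card hF, ← hS.card_swap ha hb]
  refine Nat.card_congr
    { toFun := fun j => ⟨(j : G) * w, ?_⟩
      invFun := fun i => ⟨(i : G) * w, ?_, ?_⟩
      left_inv := fun j => Subtype.ext (show (j : G) * w * w = j by rw [mul_assoc, hww, mul_one])
      right_inv := fun i => Subtype.ext (show (i : G) * w * w = i by rw [mul_assoc, hww, mul_one]) }
  · obtain ⟨hjD, hj⟩ := j.2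
    obtain ⟨hjS, -, hjb⟩ := mem_pair.mp hjD
    have hmap : ((j : G) * w) • a = b := by rw [mul_smul, hwa, hjb]
    refine ⟨mul_mem hjS hw, orderOf_eq_two_of_mul_self ?_ fun h => ?_, hmap⟩
    · rw [hwi] at hj
      calc (j : G) * w * (j * w) = j * (w * j * w) := by group
        _ = 1 := by rw [hj, mul_inv_cancel]
    · rw [h, one_smul] at hmap
      exact hab hmap
  · exact mem_pair.mpr ⟨mul_mem i.2.1 hw, by rw [mul_smul, hwa, swap_symm i.2.2.1 i.2.2.2],
      by rw [mul_smul, swap_symm hw2 hwa, i.2.2.2]⟩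
  · rw [mul_inv_rev, inv_eq_of_orderOf_eq_two i.2.2.1, hwi,
      show w * ((i : G) * w) * w = w * i * (w * w) by group, hww, mul_one]

/-- An inverted normal subgroup whose centraliser contains no element centralising the swapper: the
inverted elements are an abelian normal subgroup regular on the involutions at `a`. -/
theorem exists_inverted_of_free (hS : SE S C) (hF : Faithful S C) {a b : Ω} (ha : a ∈ C)
    (hb : b ∈ C) (hab : a ≠ b) {w : G} (hw : w ∈ S) (hw2 : orderOf w = 2) (hwa : w • a = b)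
    {A : Subgroup G} (hAn : pair S a b ≤ normalizer (A : Set G))
    (hAi : ∀ x ∈ A, w * x * w⁻¹ = x⁻¹)
    (hfree : ∀ f ∈ pair S a b, Commute f w → (∀ x ∈ A, Commute x f) → f = 1) :
    ∃ J : Subgroup G, (J : Set G) = invertedBy S a b w ∧ J ≤ pair S a b ∧
      pair S a b ≤ normalizer (J : Set G) ∧ IsMulCommutative J ∧ Nat.card J = invBar S C a ∧
      (∀ j ∈ J, ∀ t ∈ S, orderOf t = 2 → t • a = a → Commute j t → j = 1) ∧
      (∀ t ∈ S, orderOf t = 2 → t • a = a → ∀ t' ∈ S, orderOf t' = 2 → t' • a = a →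
        ∃ j ∈ J, j * t * j⁻¹ = t') ∧
      ∀ d ∈ pair S a b, ∃ j ∈ J, ∃ f ∈ pair S a b, Commute f w ∧ d = j * f := by
  set J : Subgroup G := pair S a b ⊓ centralizer (A : Set G) with hJ
  have hin : ∀ j ∈ invertedBy S a b w, j ∈ J := fun j hj => ⟨hj.1, mem_centralizer_iff.mpr
    fun x hx => (commute_of_inverted hS ha hb hab hAn hAi hj hx).eq.symm⟩
  have hset : (J : Set G) = invertedBy S a b w := by
    refine Set.ext fun x => ⟨fun hx => ?_, hin x⟩
    obtain ⟨j, hj, f, hf, hfw, rfl⟩ := exists_inverted_mul hS ha hb hab hw hw2 hwa hx.1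
    have hfJ : f ∈ J := by simpa using mul_mem (inv_mem (hin j hj)) hx
    rw [hfree f hf hfw fun y hy => mem_centralizer_iff.mp hfJ.2 y hy, mul_one]
    exact hj
  have hinv : ∀ x ∈ J, w * x * w⁻¹ = x⁻¹ := fun x hx => ((Set.ext_iff.mp hset x).mp hx).2
  have hcomm : IsMulCommutative J := ⟨⟨fun x y => Subtype.ext (show (x : G) * y = y * x by
    have h := hinv _ (mul_mem x.2 y.2)
    rw [show w * ((x : G) * y) * w⁻¹ = (w * x * w⁻¹) * (w * y * w⁻¹) by group, hinv _ x.2,
      hinv _ y.2, ← mul_inv_rev, inv_inj] at h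
    exact h.symm)⟩⟩
  have hcard : Nat.card J = invBar S C a := by
    rw [← card_invertedBy hS hF ha hb hab hw hw2 hwa, ← hset]
    rfl
  have hfpf : ∀ j ∈ J, ∀ t ∈ S, orderOf t = 2 → t • a = a → Commute j t → j = 1 :=
    fun j hj t ht ht2 hta hjt =>
      eq_one_of_inverted_of_commute hS ha hb hab hw hw2 hwa hj.1 (hinv j hj) ht ht2 hta hjt
  refine ⟨J, hset, inf_le_left, fun d hd => ?_, hcomm, hcard, hfpf, ?_, fun d hd => ?_⟩
  · refine Subgroup.mem_normalizer_iff.mpr fun x => ?_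
    have hA' : ∀ y, y ∈ A ↔ d * y * d⁻¹ ∈ A := fun y => Subgroup.mem_normalizer_iff.mp (hAn hd) y
    constructor
    · rintro ⟨hxD, hxA⟩
      refine ⟨(pair S a b).mul_mem ((pair S a b).mul_mem hd hxD) ((pair S a b).inv_mem hd), mem_centralizer_iff.mpr fun y hy => ?_⟩
      have h := mem_centralizer_iff.mp hxA _
        ((hA' (d⁻¹ * y * d)).mpr (by rwa [show d * (d⁻¹ * y * d) * d⁻¹ = y by group]))
      calc y * (d * x * d⁻¹) = d * (d⁻¹ * y * d * x) * d⁻¹ := by group
        _ = _ := by rw [h]; group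
    · rintro ⟨hxD, hxA⟩
      refine ⟨by simpa [mul_assoc] using (pair S a b).mul_mem ((pair S a b).mul_mem ((pair S a b).inv_mem hd) hxD) hd,
        mem_centralizer_iff.mpr fun y hy => ?_⟩
      have h := mem_centralizer_iff.mp hxA _ ((hA' y).mp hy)
      calc y * x = d⁻¹ * (d * y * d⁻¹ * (d * x * d⁻¹)) * d := by group
        _ = _ := by rw [h]; group
  · intro t ht ht2 hta t' ht' ht'2 ht'a
    let f : J → {t : G // t ∈ S ∧ orderOf t = 2 ∧ t • a = a} := fun j =>
      ⟨(j : G) * t * (j : G)⁻¹, conj_mem_of_mem (mem_pair.mp j.2.1).1 ht,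
        by rw [orderOf_conj, ht2], by
          have h := conj_smul_of_smul (g := (j : G)) hta
          rwa [(mem_pair.mp j.2.1).2.1] at h⟩
    have hinj : Function.Injective f := by
      intro x y h
      have h' : (x : G) * t * (x : G)⁻¹ = y * t * (y : G)⁻¹ := congrArg Subtype.val h
      have hc : Commute ((y : G)⁻¹ * x) t := by
        show (y : G)⁻¹ * x * t = t * ((y : G)⁻¹ * x)
        calc (y : G)⁻¹ * x * t = (y : G)⁻¹ * (x * t * (x : G)⁻¹) * x := by group
          _ = t * ((y : G)⁻¹ * x) := by rw [h']; group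
      exact Subtype.ext
        (inv_mul_eq_one.mp (hfpf _ (mul_mem (inv_mem y.2) x.2) t ht ht2 hta hc)).symm
    have hsurj := (hinj.bijective_of_nat_card_le (le_of_eq
      ((invBar_eq_card hF a).symm.trans hcard.symm))).2
    obtain ⟨j, hj⟩ := hsurj ⟨t', ht', ht'2, ht'a⟩
    exact ⟨j, j.2, congrArg Subtype.val hj⟩
  · obtain ⟨j, hj, f, hf, hfw, rfl⟩ := exists_inverted_mul hS ha hb hab hw hw2 hwa hd
    exact ⟨j, hin j hj, f, hf, hfw, rfl⟩

/-- CYC: an inverted elementary abelian subgroup centralising an element of the pair stabiliser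
which centralises an involution at `a` is cyclic. -/
theorem mem_zpowers_of_inverted (hS : SE S C) {a b : Ω} (ha : a ∈ C) (hb : b ∈ C) (hab : a ≠ b)
    {w : G} (hw : w ∈ S) (hw2 : orderOf w = 2) (hwa : w • a = b) (hshare : ShareAt S a b)
    {q : ℕ} [Fact q.Prime] {A : Subgroup G} (hA : A ≤ pair S a b) (hAc : IsMulCommutative A)
    (hAq : ∀ x ∈ A, x ^ q = 1) (hAi : ∀ x ∈ A, w * x * w⁻¹ = x⁻¹) {e : G}
    (he : e ∈ pair S a b) (he1 : e ≠ 1) (heA : ∀ x ∈ A, Commute x e) {t : G} (ht : t ∈ S)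
    (ht2 : orderOf t = 2) (hta : t • a = a) (het : Commute e t) {g g' : G} (hg : g ∈ A)
    (hg' : g' ∈ A) (hg1 : g ≠ 1) : g' ∈ zpowers g := by
  by_contra hnot
  have hqodd : Odd q := by
    have hgq := orderOf_eq_prime (hAq g hg) hg1
    rw [← hgq]
    exact (hS.odd_pair ha hb hab).of_dvd_nat (Subgroup.orderOf_dvd_natCard _ (hA hg))
  let E : Subgroup G :=
    { carrier := {x | x = 1 ∨ ((x ∈ S ∧ orderOf x = 2 ∧ x • a = a) ∧ Commute e x)}
      one_mem' := Or.inl rfl
      mul_mem' := fun {x y} hx hy => by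
        rcases hx with rfl | ⟨⟨hxS, hx2, hxa⟩, hxe⟩
        · rwa [one_mul]
        rcases hy with rfl | ⟨⟨hyS, hy2, hya⟩, hye⟩
        · rw [mul_one]; exact Or.inr ⟨⟨hxS, hx2, hxa⟩, hxe⟩
        by_cases h1 : x * y = 1
        · exact Or.inl h1
        refine Or.inr ⟨⟨mul_mem hxS hyS, orderOf_eq_two_of_mul_self ?_ h1,
          by rw [mul_smul, hya, hxa]⟩, hxe.mul_right hye⟩
        rw [(hshare e he he1 x hxS hx2 hxa hxe y hyS hy2 hya hye).symm.mul_mul_mul_comm x y,
          mul_self_of_orderOf_eq_two hx2, mul_self_of_orderOf_eq_two hy2, one_mul]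
      inv_mem' := fun {x} hx => by
        rcases hx with rfl | ⟨⟨hxS, hx2, hxa⟩, hxe⟩
        · exact Or.inl inv_one
        · rw [inv_eq_of_orderOf_eq_two hx2]; exact Or.inr ⟨⟨hxS, hx2, hxa⟩, hxe⟩ }
  have hEc : ∀ x y : E, x * y = y * x := by
    rintro ⟨x, rfl | ⟨⟨hxS, hx2, hxa⟩, hxe⟩⟩ ⟨y, rfl | ⟨⟨hyS, hy2, hya⟩, hye⟩⟩ <;>
      refine Subtype.ext ?_ <;> simp
    exact (hshare e he he1 x hxS hx2 hxa hxe y hyS hy2 hya hye).eq
  have hAE : A ≤ normalizer (E : Set G) := by
    have key : ∀ d ∈ A, ∀ x ∈ E, d * x * d⁻¹ ∈ E := by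
      rintro d hd x (rfl | ⟨⟨hxS, hx2, hxa⟩, hxe⟩)
      · exact Or.inl (by group)
      obtain ⟨hdS, hda, -⟩ := mem_pair.mp (hA hd)
      refine Or.inr ⟨⟨conj_mem_of_mem hdS hxS, by rw [orderOf_conj, hx2], ?_⟩,
        ((heA d hd).symm.mul_right hxe).mul_right (heA d hd).symm.inv_right⟩
      have h := conj_smul_of_smul (g := d) hxa
      rwa [hda] at h
    exact fun d hd => Subgroup.mem_normalizer_iff.mpr fun x => ⟨key d hd x, fun h => by
      simpa [mul_assoc] using key d⁻¹ (inv_mem hd) _ h⟩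
  letI : CommGroup E := { (inferInstance : Group E) with mul_comm := hEc }
  let φ : A →* MulAut E := (Subgroup.normalizerMonoidHom E).comp (Subgroup.inclusion hAE)
  letI : DistribMulAction A (Additive E) :=
    { smul := fun p x => Additive.ofMul (φ p x.toMul)
      one_smul := fun x => show Additive.ofMul (φ 1 x.toMul) = x by simp
      mul_smul := fun p p' x => show Additive.ofMul (φ (p * p') x.toMul) =
        Additive.ofMul (φ p (φ p' x.toMul)) by rw [map_mul]; rfl
      smul_zero := fun p => show Additive.ofMul (φ p (1 : E)) = 0 by simp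
      smul_add := fun p x x' => show Additive.ofMul (φ p (x.toMul * x'.toMul)) =
        Additive.ofMul (φ p x.toMul) + Additive.ofMul (φ p x'.toMul) by rw [map_mul]; rfl }
  have ht1 : t ≠ 1 := fun h => by rw [h, orderOf_one] at ht2; omega
  haveI : Nontrivial (Additive E) := ⟨Additive.ofMul ⟨t, Or.inr ⟨⟨ht, ht2, hta⟩, het⟩⟩, 0, fun h =>
    ht1 (congrArg (fun x : Additive E => ((x.toMul : E) : G)) h)⟩
  have hV : ∀ x : Additive E, 2 • x = 0 := by
    intro x
    refine Additive.toMul.injective (Subtype.ext ?_)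
    show (((x.toMul) ^ 2 : E) : G) = 1
    rw [SubgroupClass.coe_pow]
    rcases x.toMul.2 with h | h
    · rw [h, one_pow]
    · rw [sq, mul_self_of_orderOf_eq_two h.1.2.1]
  obtain ⟨h, -, hh1, x, hx0, hhx⟩ := H30.ClassFit.exists_fixed_of_noncyclic (V := Additive E) hV
    (A := (⊤ : Subgroup A)) Fact.out hqodd (fun x _ y _ => hAc.is_comm.comm x y)
    (fun x _ => Subtype.ext (by rw [SubgroupClass.coe_pow]; exact hAq x x.2))
    (a := ⟨g, hg⟩) (b := ⟨g', hg'⟩) (mem_top _) (mem_top _) (fun h => hg1 (congrArg Subtype.val h))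
    (fun h => hnot (by
      obtain ⟨n, hn⟩ := mem_zpowers_iff.mp h
      exact mem_zpowers_iff.mpr ⟨n, congrArg Subtype.val hn⟩))
  obtain ⟨⟨hxS, hx2, hxa⟩, -⟩ := (x.toMul.2).resolve_left fun hh =>
    hx0 (Additive.toMul.injective (Subtype.ext hh))
  have hfix : (h : G) * x.toMul * (h : G)⁻¹ = (x.toMul : G) :=
    congrArg (fun y : Additive E => ((y.toMul : E) : G)) hhx
  exact hh1 (Subtype.ext (eq_one_of_inverted_of_commute hS ha hb hab hw hw2 hwa (hA h.2)
    (hAi _ h.2) hxS hx2 hxa (mul_inv_eq_iff_eq_mul.mp hfix)))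

/-- A non-cyclic inverted elementary abelian normal subgroup: the inverted elements are an abelian
normal subgroup regular on the involutions at `a`. -/
theorem exists_inverted_of_noncyclic (hS : SE S C) (hF : Faithful S C) (hG : Good S C) {a b : Ω}
    (ha : a ∈ C) (hb : b ∈ C) (hab : a ≠ b) {w : G} (hw : w ∈ S) (hw2 : orderOf w = 2)
    (hwa : w • a = b) (hshare : ShareAt S a b) {q : ℕ} [Fact q.Prime] {A : Subgroup G}
    (hA : A ≤ pair S a b) (hAn : pair S a b ≤ normalizer (A : Set G)) (hAc : IsMulCommutative A)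
    (hAq : ∀ x ∈ A, x ^ q = 1) (hAi : ∀ x ∈ A, w * x * w⁻¹ = x⁻¹) {g g' : G} (hg : g ∈ A)
    (hg' : g' ∈ A) (hg1 : g ≠ 1) (hgg : g' ∉ zpowers g) :
    ∃ J : Subgroup G, (J : Set G) = invertedBy S a b w ∧ J ≤ pair S a b ∧
      pair S a b ≤ normalizer (J : Set G) ∧ IsMulCommutative J ∧ Nat.card J = invBar S C a ∧
      (∀ j ∈ J, ∀ t ∈ S, orderOf t = 2 → t • a = a → Commute j t → j = 1) ∧
      (∀ t ∈ S, orderOf t = 2 → t • a = a → ∀ t' ∈ S, orderOf t' = 2 → t' • a = a →
        ∃ j ∈ J, j * t * j⁻¹ = t') ∧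
      ∀ d ∈ pair S a b, ∃ j ∈ J, ∃ f ∈ pair S a b, Commute f w ∧ d = j * f := by
  refine exists_inverted_of_free hS hF ha hb hab hw hw2 hwa hAn hAi fun f hf hfw hfA => ?_
  by_contra hf1
  -- an element of prime order among the powers of `f`
  obtain ⟨r, hr, hrd⟩ := Nat.exists_prime_and_dvd (fun h => hf1 (orderOf_eq_one_iff.mp h))
  haveI : Fact r.Prime := ⟨hr⟩
  set e := f ^ (orderOf f / r) with he
  have heo : orderOf e = r := by
    rw [he, orderOf_pow_of_dvd (Nat.div_pos (Nat.le_of_dvd (orderOf_pos f) hrd) hr.pos).ne'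
      (Nat.div_dvd_of_dvd hrd), Nat.div_div_self hrd (orderOf_pos f).ne']
  have heD : e ∈ pair S a b := pow_mem hf _
  have he1 : e ≠ 1 := fun h => hr.ne_one (by rw [← heo, h, orderOf_one])
  have hew : Commute e w := hfw.pow_left _
  obtain ⟨c, hcC, hwc⟩ := hS.exists_fix hw hw2
  have hca : c ≠ a := fun h => hab (by rw [h] at hwc; rw [← hwa, hwc])
  have hcb : c ≠ b := fun h => hab (by
    rw [h] at hwc
    rw [← swap_symm hw2 hwa, hwc])
  have hfix : ∀ {z : Ω}, e • z = z → ∀ p ∈ zpowers e, p • z = z := fun {z} hz p hp =>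
    mem_stabilizer_iff.mp ((zpowers_le.mpr (mem_stabilizer_iff.mpr hz)) hp)
  obtain ⟨heS, hea, heb⟩ := mem_pair.mp heD
  have hec : e • c = c := hS.fix_of_commute heS hw hw2 hew hcC hwc
  obtain ⟨t, ht, ht2, hta, hte⟩ := exists_inv_of_three hS hF hG (q := r) (zpowers e)
    (zpowers_le.mpr heS) (IsPGroup.of_card (n := 1) (by rw [Nat.card_zpowers, heo, pow_one]))
    ⟨a, ⟨ha, hfix hea⟩, b, ⟨hb, hfix heb⟩, c, ⟨hcC, hfix hec⟩, hab, hca, hcb⟩
    (f := a) ⟨ha, hfix hea⟩
  exact hgg (mem_zpowers_of_inverted hS ha hb hab hw hw2 hwa hshare hA hAc hAq hAi heD he1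
    (fun x hx => (hfA x hx).pow_right _) ht ht2 hta (hte e (mem_zpowers e)).symm hg hg' hg1)

end Cfsg.Agent.H53.SE
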