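import Cfsg.Agent.H53.SE.Reduce
import Cfsg.Agent.H29.Bender.Good
import Cfsg.Agent.Cores.SE.Point
import Cfsg.Agent.Cores.PCore
import Cfsg.Agent.S0009
import Cfsg.Agent.S0044
import Cfsg.Agent.S0205

/-!
bender2, section 3, in the coset setting: GOOD for a strongly embedded subgroup follows from GOOD for
a proper overgroup and GOOD in all groups of smaller order.
-/

set_option autoImplicit false
set_option linter.unusedSectionVars false
set_option linter.style.haveILetI false

namespace Cfsg.Agent.H53.SE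

open Cfsg.Agent.H39 Subgroup
open Cfsg.Agent.H29.Bender (NoBElement IsSyl)
open Cfsg.Agent.Coprime.SE (Fixed pair)

universe u

variable {G : Type u} [Group G] [Finite G] {H : Subgroup G}

/-- every faithful strongly embedded subgroup of a group with a four-group is GOOD. -/
def GoodProp (G : Type u) [Group G] : Prop :=
  ∀ H : Subgroup G, Cfsg.IsStronglyEmbedded H → H.normalCore = ⊥ → HasFourGroup G → NoBElement H

/-- GOOD in all groups of smaller order. -/
def GoodBelow (G : Type u) : Prop :=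
  ∀ (M : Type u) [Group M] [Finite M], Nat.card M < Nat.card G → GoodProp M

/-- there is a four-group at every point. -/
theorem exists_four_at (hH : Cfsg.IsStronglyEmbedded H) (h4 : HasFourGroup G) (x : G ⧸ H) :
    ∃ s t : G, orderOf s = 2 ∧ orderOf t = 2 ∧ s ≠ t ∧ Commute s t ∧ s • x = x ∧ t • x = x := by
  obtain ⟨u, v, hu, hv, huv, hc⟩ := h4
  obtain ⟨p, hp⟩ := se_exists_fix hH hu
  have hvp : v • p = p := se_fix_unique hH hu (by rw [← mul_smul, hc.eq, mul_smul, hp]) hp
  obtain ⟨g, rfl⟩ := MulAction.exists_smul_eq G p x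
  refine ⟨g * u * g⁻¹, g * v * g⁻¹, by rw [orderOf_conj, hu], by rw [orderOf_conj, hv], ?_, ?_, ?_, ?_⟩
  · exact fun h => huv (mul_left_cancel (mul_right_cancel h))
  · exact hc.map (MulAut.conj g)
  · rw [← mul_smul, inv_mul_cancel_right, mul_smul, hp]
  · rw [← mul_smul, inv_mul_cancel_right, mul_smul, hvp]

theorem hasFourGroup_of_le (hH : Cfsg.IsStronglyEmbedded H) (h4 : HasFourGroup G) {M : Subgroup G}
    (hM : H ≤ M) : HasFourGroup M := by
  obtain ⟨s, t, hs, ht, hst, hc, hsx, htx⟩ := exists_four_at hH h4 (QuotientGroup.mk 1)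
  have hsH : s ∈ H := by simpa using se_smul_mk_eq_iff.mp hsx
  have htH : t ∈ H := by simpa using se_smul_mk_eq_iff.mp htx
  exact ⟨⟨s, hM hsH⟩, ⟨t, hM htH⟩, (Subgroup.orderOf_mk _ _).trans hs,
    (Subgroup.orderOf_mk _ _).trans ht, fun h => hst (congrArg Subtype.val h), Subtype.ext hc.eq⟩

/-- `O(G) = 1`: the core of an overgroup of a faithful `H` is trivial. -/
theorem normalCore_eq_bot (hH : Cfsg.IsStronglyEmbedded H) (hcore : H.normalCore = ⊥)
    (h4 : HasFourGroup G) {H₁ : Subgroup G} (hH₁ : Cfsg.IsStronglyEmbedded H₁) :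
    H₁.normalCore = ⊥ := by
  rw [eq_bot_iff, ← hcore]
  refine Subgroup.normal_le_normalCore.mpr fun n hn => ?_
  obtain ⟨s, t, hs, ht, hst, hc, hsx, htx⟩ := exists_four_at hH h4 (QuotientGroup.mk 1)
  have hodd := se_odd_of_normal_le hH₁ _ H₁.normalCore_le
  have hN : ∀ g : G, g ∈ normalizer (H₁.normalCore : Set G) := fun g => by
    rw [Subgroup.normalizer_eq_top]; trivial
  simpa using se_smul_mk_eq_iff.mp (Cores.SE.four_odd_fix hH hodd hs ht hst hc (hN s) (hN t) hsx htx hn)

theorem odd_of_inverted {K : Subgroup G} (hK : Odd (Nat.card K)) {y : G} (hy : y ∈ K)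
    (h : y = y⁻¹) : y = 1 := by
  by_contra hne
  exact not_mem_of_odd_card hK (orderOf_eq_two_of_mul_self (mul_eq_one_iff_eq_inv.mpr h) hne) hy

theorem exists_pCore_not_centralized (K : Subgroup G) (hK : Odd (Nat.card K)) {u : G}
    (hu : orderOf u = 2) (huK : u ∈ normalizer (K : Set G)) {j : G} (hj : j ∈ K)
    (hju : ¬ Commute j u) : ∃ q : ℕ, q.Prime ∧ ∃ y ∈ Cfsg.pCore q K, ¬ Commute (y : G) u := by
  by_contra hall
  push Not at hall
  haveI : Group.IsSolvable K := Cfsg.Agent.S0205.result hK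
  have hF : ∀ f ∈ Cfsg.fittingSubgroup K, Commute (f : G) u := by
    intro f hf
    have hle : Cfsg.fittingSubgroup K ≤ (centralizer ({u} : Set G)).comap K.subtype := by
      rw [Cfsg.Agent.S0009.result]
      exact iSup_le fun p y hy => mem_centralizer_singleton_iff.mpr (hall p p.2 y hy).eq
    exact mem_centralizer_singleton_iff.mp (hle hf)
  have hu2 := mul_self_of_orderOf_eq_two hu
  have hui : u⁻¹ = u := inv_eq_of_orderOf_eq_two hu
  have hmem : u * j⁻¹ * u⁻¹ ∈ K := (Subgroup.mem_normalizer_iff.mp huK _).mp (inv_mem hj)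
  set z : K := ⟨j * (u * j⁻¹ * u⁻¹), mul_mem hj hmem⟩ with hz
  haveI : (Cfsg.fittingSubgroup K).Normal := Subgroup.sSup_normal _ fun _ h => h.1
  have hzC : z ∈ centralizer (Cfsg.fittingSubgroup K : Set K) := by
    refine mem_centralizer_iff.mpr fun f hf => Subtype.ext ?_
    have h1 : Commute ((f : G)) u := hF f hf
    have h2 : Commute (j⁻¹ * f * j) u := by
      have := hF _ (Subgroup.Normal.conj_mem inferInstance f hf (⟨j, hj⟩ : K)⁻¹)
      simpa using this
    have h3 : Commute (f : G) (j * u * j⁻¹) := by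
      have := h2.map (MulAut.conj j)
      simpa [mul_assoc] using this
    have h4 : Commute (f : G) (j * u * j⁻¹ * u⁻¹) := h3.mul_right h1.inv_right
    simpa [hz, mul_assoc] using h4.eq
  have hzu := (hF z (Cfsg.Agent.S0044.result hzC)).eq
  have hinv : (z : G) = (z : G)⁻¹ := by
    have h5 : u * (z : G) * u⁻¹ = (z : G)⁻¹ := by
      simp only [hz, mul_inv_rev, inv_inv, hui]
      calc u * (j * (u * j⁻¹ * u)) * u = u * j * (u * j⁻¹) * (u * u) := by simp only [mul_assoc]
        _ = u * j * u * j⁻¹ := by rw [hu2, mul_one, ← mul_assoc]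
        _ = u * (j * u) * j⁻¹ := by simp only [mul_assoc]
    rw [← h5, ← hzu, mul_inv_cancel_right]
  have h1 := odd_of_inverted hK z.2 hinv
  refine hju ?_
  simp only [hz, hui] at h1
  change j * u = u * j
  calc j * u = j * (u * j⁻¹ * u) * (u⁻¹ * j) := by group
    _ = u * j := by rw [h1, one_mul, hui]

/-- bender2, section 3: for a non-maximal `H` GOOD follows from the induction. -/
theorem good_of_overgroup (hH : Cfsg.IsStronglyEmbedded H) (hcore : H.normalCore = ⊥)
    (h4 : HasFourGroup G) {H₁ : Subgroup G} (hlt : H < H₁) (hne : H₁ ≠ ⊤)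
    (hbelow : GoodBelow G) (hgood : NoBElement H₁) : NoBElement H := by
  classical
  suffices main : ∀ (u j : G) (x : G ⧸ H), orderOf u = 2 →
      u • (QuotientGroup.mk 1 : G ⧸ H) = QuotientGroup.mk 1 → u * j * u⁻¹ = j⁻¹ →
      j • (QuotientGroup.mk 1 : G ⧸ H) = QuotientGroup.mk 1 → x ≠ QuotientGroup.mk 1 →
      j • x = x → j = 1 by
    intro u j c x hu huc hinv hjc hxc hjx
    obtain ⟨g, hg⟩ := MulAction.exists_smul_eq G c (QuotientGroup.mk 1 : G ⧸ H)
    have hfix : ∀ (a : G) (y : G ⧸ H), a • y = y → (g * a * g⁻¹) • (g • y) = g • y :=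
      fun a y h => by rw [← mul_smul, inv_mul_cancel_right, mul_smul, h]
    have h := main (g * u * g⁻¹) (g * j * g⁻¹) (g • x) (by rw [orderOf_conj, hu])
      (hg ▸ hfix u c huc) (by simp only [← MulAut.conj_apply, ← map_inv, ← map_mul, hinv])
      (hg ▸ hfix j c hjc) (fun e => hxc (MulAction.injective g (e.trans hg.symm))) (hfix j x hjx)
    simpa using h
  intro u j x hu huc hinv hjc hxc hjx
  by_contra hj1
  have hle := hlt.le
  have hH₁ := se_overgroup hH hle hne
  have hcore₁ := normalCore_eq_bot hH hcore h4 hH₁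
  induction x using QuotientGroup.induction_on with
  | _ h =>
  have huH : u ∈ H := by simpa using se_smul_mk_eq_iff.mp huc
  have hjH : j ∈ H := by simpa using se_smul_mk_eq_iff.mp hjc
  have hjh : h⁻¹ * j * h ∈ H := se_smul_mk_eq_iff.mp hjx
  have hhH : h ∉ H := fun e => hxc (QuotientGroup.eq.mpr (by simpa using H.inv_mem e))
  by_cases hh₁ : h ∈ H₁
  case neg =>
    exact hj1 (hgood u j (QuotientGroup.mk 1) (QuotientGroup.mk h) hu
      (se_smul_mk_eq_iff.mpr (by simpa using hle huH)) hinv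
      (se_smul_mk_eq_iff.mpr (by simpa using hle hjH))
      (fun e => hh₁ (by simpa using H₁.inv_mem (QuotientGroup.eq.mp e)))
      (se_smul_mk_eq_iff.mpr (hle hjh)))
  -- `j` lies in the kernel of the block
  set H' := H.subgroupOf H₁ with hH'def
  have huH' : (⟨u, hle huH⟩ : H₁) ∈ H' := huH
  have hSE := se_subgroup hH H₁ hu (hle huH) huH fun e => hhH (e hh₁)
  set N := H'.normalCore with hN
  have hNodd := se_odd_of_normal_le hSE N H'.normalCore_le
  have hcardlt : Nat.card (H₁ ⧸ N) < Nat.card G := by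
    refine lt_of_le_of_lt ?_ (lt_of_le_of_ne (Subgroup.card_le_card_group H₁)
      fun e => hne ((card_eq_iff_eq_top H₁).mp e))
    exact Nat.le_of_dvd Nat.card_pos (card_quotient_dvd_card N)
  have hgoodN := hbelow (H₁ ⧸ N) hcardlt _ (se_quotient hSE N H'.normalCore_le)
    normalCore_map_eq_bot (hasFourGroup_quotient N hNodd (hasFourGroup_of_le hH h4 hle))
  set f := QuotientGroup.mk' N with hf
  have hfix : ∀ (a b : H₁), b⁻¹ * a * b ∈ H' →
      f a • (QuotientGroup.mk (f b) : (H₁ ⧸ N) ⧸ H'.map f) = QuotientGroup.mk (f b) := fun a b hab =>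
    se_smul_mk_eq_iff.mpr ⟨_, hab, by simp⟩
  have hjN : (⟨j, hle hjH⟩ : H₁) ∈ N := by
    refine (QuotientGroup.eq_one_iff _).mp (hgoodN (f ⟨u, hle huH⟩) (f ⟨j, hle hjH⟩)
      (QuotientGroup.mk (f 1)) (QuotientGroup.mk (f ⟨h, hh₁⟩)) ?_ (hfix _ 1 (by simpa using huH'))
      ?_ (hfix _ 1 (by simpa [hH'def, mem_subgroupOf] using hjH)) ?_ (hfix _ _ ?_))
    · refine orderOf_eq_prime ?_ fun e => not_mem_of_odd_card hNodd
        ((Subgroup.orderOf_mk _ _).trans hu) ((QuotientGroup.eq_one_iff _).1 e)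
      rw [← map_pow, show (⟨u, hle huH⟩ : H₁) ^ 2 = 1 from Subtype.ext (by
        simp [sq, mul_self_of_orderOf_eq_two hu]), map_one]
    · rw [← map_inv, ← map_mul, ← map_mul, ← map_inv]
      exact congrArg f (Subtype.ext (by simpa using hinv))
    · intro e
      have e' := QuotientGroup.eq.mp e
      rw [← map_inv, ← map_mul, ← Subgroup.mem_comap, Subgroup.comap_map_eq_self
        (by rw [QuotientGroup.ker_mk']; exact H'.normalCore_le)] at e'
      exact hhH (by simpa [hH'def, mem_subgroupOf] using e')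
    · simpa [hH'def, mem_subgroupOf] using hjh
  -- a q-group normal in H₁ that u does not centralise
  have hju : ¬ Commute (⟨j, hle hjH⟩ : H₁) (⟨u, hle huH⟩ : H₁) := fun e => by
    have e2 : j * u = u * j := congrArg Subtype.val e.eq
    have hjj : j = j⁻¹ := by
      rw [← hinv, ← e2, mul_inv_cancel_right]
    exact hj1 (congrArg Subtype.val
      (odd_of_inverted hNodd hjN (Subtype.ext (by simpa using hjj))))
  obtain ⟨q, hqp, y, hy, hyu⟩ := exists_pCore_not_centralized N hNodd
    ((Subgroup.orderOf_mk _ _).trans hu) (by rw [Subgroup.normalizer_eq_top]; trivial) hjN hju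
  haveI := Fact.mk hqp
  set Q₁ := (Cfsg.pCore q N).map N.subtype with hQ₁
  haveI hQ₁n : Q₁.Normal := by rw [hQ₁, Cores.map_pCore_of_normal]; infer_instance
  set Q := Q₁.map H₁.subtype with hQ
  have hQp : IsPGroup q Q := (Cores.pCore_isPGroup.map _).map _
  have hyQ : ((y : H₁) : G) ∈ Q := ⟨_, ⟨y, hy, rfl⟩, rfl⟩
  have hyu' : ¬ Commute ((y : H₁) : G) u := fun e => hyu (Subtype.ext e.eq)
  have hQH₁ : Q ≤ H₁ := map_subtype_le _
  have hQH : Q ≤ H := by
    rintro _ ⟨a, ha, rfl⟩
    exact H'.normalCore_le ((map_subtype_le _ : Q₁ ≤ N) ha)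
  have hQn : ∀ g ∈ H₁, g ∈ normalizer (Q : Set G) := by
    intro g hg
    refine H39.mem_normalizer_of_conj_mem ?_
    rintro _ ⟨a, ha, rfl⟩
    exact ⟨_, hQ₁n.conj_mem a ha ⟨g, hg⟩, rfl⟩
  -- q divides the number of involutions of H₁
  have hq : Odd q := by
    refine hqp.odd_of_ne_two fun e => ?_
    have h2 : q ∣ Nat.card N := by
      have hy1 : y ≠ 1 := fun e1 => hyu (by rw [e1]; exact Commute.one_left _)
      obtain ⟨k, hk⟩ := (Cores.pCore_isPGroup (p := q) (G := N)) ⟨y, hy⟩
      refine (dvd_trans ?_ (orderOf_dvd_natCard y))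
      obtain ⟨i, -, hi⟩ := (Nat.dvd_prime_pow hqp).mp
        (orderOf_dvd_of_pow_eq_one (congrArg Subtype.val hk))
      rw [hi]
      refine dvd_pow_self q fun e0 => hy1 (orderOf_eq_one_iff.mp (by rw [hi, e0, pow_zero]))
    exact (Nat.not_even_iff_odd.mpr hNodd) (even_iff_two_dvd.mpr (e ▸ h2))
  have hm : q ∣ Nat.card {t : G // orderOf t = 2 ∧ t ∈ H₁} := by
    obtain ⟨v, hv⟩ := se_exists_not_mem hH₁
    have hcard := Coprime.SE.card_eq_conj_mul H₁ u (fun v => orderOf v = 2 ∧ v ∈ H₁)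
      (fun d hd => ⟨by rw [orderOf_conj, hu], H₁.mul_mem (H₁.mul_mem hd (hle huH)) (H₁.inv_mem hd)⟩)
      (fun s hs => by
        obtain ⟨d, hd, e⟩ := se_transitive hH₁ hv hu (hle huH) hs.1 hs.2
        exact ⟨d, hd.1, e⟩)
    by_contra hndvd
    obtain ⟨T, hT⟩ := H29.Bender.exists_isSyl_ge (q := q) (D := H₁ ⊓ centralizer ({u} : Set G))
      bot_le IsPGroup.of_bot
    have hTs : IsSyl q H₁ T := by
      refine ⟨hT.2.le.trans inf_le_left, hT.2.pgroup, fun P hP hPq => ?_⟩
      obtain ⟨k, hk⟩ := IsPGroup.iff_card.mp hPq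
      rw [hT.2.card_eq, hk]
      refine Nat.pow_le_pow_right hqp.pos ((hqp.pow_dvd_iff_le_factorization Nat.card_pos.ne').mp ?_)
      refine (Nat.Coprime.pow_left _ (hqp.coprime_iff_not_dvd.mpr hndvd)).dvd_of_dvd_mul_left ?_
      rw [← hcard, ← hk]
      exact card_dvd_of_le hP
    have hQT : Q ≤ T := by
      have := hTs.eq_of_ge (le_sup_right : T ≤ Q ⊔ T) (sup_le hQH₁ hTs.le)
        (IsPGroup.to_sup_of_normal_left' hQp hTs.pgroup fun g hg => hQn g (hTs.le hg))
      exact this ▸ le_sup_left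
    exact hyu' (mem_centralizer_singleton_iff.mp ((hT.2.le (hQT hyQ)).2))
  -- so Q fixes every block
  have hA := hgood.noNormalisingInvolution hH₁ hq hm
  have hQall : ∀ z : G ⧸ H₁, ∀ g ∈ Q, g • z = z := by
    intro z g hg
    by_cases hz : z = QuotientGroup.mk 1
    · subst hz; exact se_smul_mk_eq_iff.mpr (by simpa using hQH₁ hg)
    set a : G ⧸ H₁ := QuotientGroup.mk 1
    obtain ⟨S, -, hS⟩ := H29.Bender.exists_isSyl_ge (q := q) (D := pair a z) bot_le IsPGroup.of_bot
    have hex : ∀ v, Fixed S v → v = a ∨ v = z := fun v hv =>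
      H29.Bender.sylow_fixed_eq hH₁ hq hA (Ne.symm hz) hS hv
    have hStop := H29.Bender.isSyl_of_exact (N := ⊤) hq (x := a) (y := z)
      (by rwa [top_inf_eq]) hex
    have hSH₁ : S ≤ H₁ := fun s hs => by simpa using se_smul_mk_eq_iff.mp (hS.le hs).1
    have hsup := hStop.eq_of_ge (le_sup_right : S ≤ Q ⊔ S) le_top
      (IsPGroup.to_sup_of_normal_left' hQp hS.pgroup fun s hs => hQn s (hSH₁ hs))
    exact (hS.le (hsup ▸ mem_sup_left hg)).2
  have hQbot : ((y : H₁) : G) ∈ H₁.normalCore := fun g => by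
    have := se_smul_mk_eq_iff.mp (hQall (QuotientGroup.mk g⁻¹) _ hyQ)
    simpa using this
  rw [hcore₁, mem_bot] at hQbot
  exact hyu' (hQbot ▸ Commute.one_left u)

end Cfsg.Agent.H53.SE
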