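import Cfsg.Agent.H53.SE.Maximal
import Cfsg.Agent.H73.Bender.Transfer

/-!
bender2, section 3, for strongly embedded actions: a faithful minimal failure of `Good` has maximal
point stabilisers.  The proof passes to the cosets of the point stabiliser inside `S`.
-/

set_option autoImplicit false
set_option linter.unusedSectionVars false

namespace Cfsg.Agent.H53.SE

open Cfsg.Agent.H39 Subgroup
open Cfsg.Agent.H73.Bender
open Cfsg.Agent.H29.Bender (NoBElement)

universe u

variable {G : Type u} [Group G] [Finite G]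

/-- The coset form of `Good` for a faithful action on the cosets. -/
theorem noBElement_of_good {H : Subgroup G} (hcore : H.normalCore = ⊥)
    (h : Good (⊤ : Subgroup G) (Set.univ : Set (G ⧸ H))) : NoBElement H := by
  intro u j c x hu huc hinv hjc hxc hjx
  have hker : j ∈ kernel (⊤ : Subgroup G) (Set.univ : Set (G ⧸ H)) :=
    mem_kernel.mpr ⟨mem_top j, fun z _ => h u (mem_top u) hu j (mem_top j) hinv c (Set.mem_univ c) x
      (Set.mem_univ x) hxc.symm huc hjc hjx z (Set.mem_univ z)⟩
  rw [kernel_top, hcore] at hker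
  exact Subgroup.mem_bot.mp hker

theorem card_quotient_top (H : Subgroup G) :
    Nat.card (Set.univ : Set (G ⧸ H)) = H.index := Nat.card_congr (Equiv.Set.univ _)

/-- The reduction to a maximal point stabiliser (target of bender2, section 3). -/
theorem maximalStab : Targets.MaximalStab.{u, u} := by
  intro G _ _ Ω _ _ S C hmain hS hr hfaith hbad c hc T hcT hTS
  by_contra hne
  push Not at hne
  refine hbad ?_
  set H : Subgroup S := (ptStab S c).subgroupOf S with hHdef
  set H₁ : Subgroup S := T.subgroupOf S with hH₁def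
  have hH := isStronglyEmbedded_ptStab hS hc
  have hmk : ∀ a b : S, (QuotientGroup.mk a : S ⧸ H) = QuotientGroup.mk b ↔
      (a : G) • c = (b : G) • c := by
    intro a b
    rw [QuotientGroup.eq, hHdef, mem_subgroupOf, mem_ptStab]
    simp only [Subgroup.coe_mul, Subgroup.coe_inv, mul_smul, inv_smul_eq_iff]
    exact ⟨fun h => h.2.symm, fun h => ⟨mul_mem (inv_mem a.2) b.2, h.symm⟩⟩
  choose g hg hgc using fun z : C => hS.trans hc z.2
  have hcore : H.normalCore = ⊥ := by
    rw [eq_bot_iff]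
    intro n hn
    refine Subgroup.mem_bot.mpr (Subtype.ext ?_)
    have hk : (n : G) ∈ kernel S C := mem_kernel.mpr ⟨n.2, fun z hz => by
      have hmem := H.normalCore_le (H.normalCore_normal.conj_mem n hn ⟨g ⟨z, hz⟩, hg _⟩⁻¹)
      have h2 := (mem_ptStab.mp (mem_subgroupOf.mp hmem)).2
      simp only [Subgroup.coe_mul, Subgroup.coe_inv, inv_inv, mul_smul, inv_smul_eq_iff, hgc] at h2
      exact h2⟩
    rw [hfaith, Subgroup.mem_bot] at hk
    exact hk
  obtain ⟨s, hs, t, ht, hs2, ht2, hst, hst'⟩ := hr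
  have h4 : HasFourGroup S :=
    ⟨⟨s, hs⟩, ⟨t, ht⟩, (Subgroup.orderOf_mk _ _).trans hs2, (Subgroup.orderOf_mk _ _).trans ht2,
      fun e => hst (congrArg Subtype.val e), Subtype.ext hst'.eq⟩
  have hlt : H < H₁ := by
    refine lt_of_le_of_ne (fun a ha => hcT ha) fun e => hne.1 ?_
    have h1 := congrArg (Subgroup.map S.subtype) e
    rw [hHdef, hH₁def, map_subgroupOf_eq_of_le (show ptStab S c ≤ S from inf_le_left), map_subgroupOf_eq_of_le hTS] at h1
    exact h1.symm
  have hne1 : H₁ ≠ ⊤ := fun e => hne.2 (le_antisymm hTS (subgroupOf_eq_top.mp e))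
  -- GOOD in smaller groups and for `H₁`
  have hbelow : GoodBelow S := fun M _ _ hM H' hH' hc' hM4 =>
    noBElement_of_good hc' (hmain M (M ⧸ H') ⊤ Set.univ
      (Or.inl (by rwa [Subgroup.card_top])) (se_top hH') (rankTwo_top_iff.mpr hM4)).1
  have hH₁ := se_overgroup hH hlt.le hne1
  have hcardC : H.index ≤ Nat.card C := by
    refine Nat.card_le_card_of_surjective (fun z : C => QuotientGroup.mk ⟨g z, hg z⟩) fun q => ?_
    induction q using QuotientGroup.induction_on with
    | _ a =>
    exact ⟨⟨(a : G) • c, hS.smul_mem a.2 hc⟩, (hmk _ _).mpr (hgc _)⟩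
  have hindex : H₁.index < Nat.card C := by
    refine lt_of_lt_of_le ?_ hcardC
    have h0 : H.index ≠ 0 := Subgroup.index_ne_zero_of_finite
    refine lt_of_le_of_ne (Nat.le_of_dvd (Nat.pos_of_ne_zero h0) (index_dvd_of_le hlt.le)) fun e => ?_
    have h1 := Subgroup.card_mul_index H
    rw [← Subgroup.card_mul_index H₁, ← e] at h1
    exact hlt.ne (Subgroup.eq_of_le_of_card_ge hlt.le
      (Nat.le_of_eq (Nat.eq_of_mul_eq_mul_right (Nat.pos_of_ne_zero (e ▸ h0)) h1).symm))
  have hgood₁ : NoBElement H₁ := noBElement_of_good (normalCore_eq_bot hH hcore h4 hH₁)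
    (hmain S (S ⧸ H₁) ⊤ Set.univ
      (Or.inr ⟨by rw [Subgroup.card_top], by rwa [card_quotient_top]⟩)
      (se_top hH₁) (rankTwo_top_iff.mpr h4)).1
  have hgood := good_of_overgroup hH hcore h4 hlt hne1 hbelow hgood₁
  -- back to `C`
  intro u hu hu2 j hj hinv x hx y hy hxy hux hjx hjy z _
  have hfix : ∀ (a : S) (w : C), (a : G) • w.1 = w.1 →
      a • (QuotientGroup.mk ⟨g w, hg w⟩ : S ⧸ H) = QuotientGroup.mk ⟨g w, hg w⟩ := by
    intro a w h
    rw [MulAction.Quotient.smul_mk, hmk, smul_eq_mul, Subgroup.coe_mul, mul_smul, hgc, h]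
  have hj1 := hgood ⟨u, hu⟩ ⟨j, hj⟩ _ (QuotientGroup.mk ⟨g ⟨y, hy⟩, hg _⟩)
    ((Subgroup.orderOf_mk _ _).trans hu2) (hfix _ ⟨x, hx⟩ hux) (Subtype.ext hinv)
    (hfix _ ⟨x, hx⟩ hjx) (fun e => hxy (by
      have := (hmk _ _).mp e
      simp only [hgc] at this
      exact this.symm)) (hfix _ ⟨y, hy⟩ hjy)
  have hj' : j = 1 := congrArg Subtype.val hj1
  rw [hj', one_smul]

end Cfsg.Agent.H53.SE
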