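import Cfsg.Agent.H39.StronglyEmbedded

/-!
Elementary reductions for strongly embedded subgroups: the faithful quotient, strongly embedded
sections, point stabilisers and overgroups.
-/

set_option autoImplicit false
set_option linter.unusedSectionVars false

namespace Cfsg.Agent.H53.SE

open Cfsg.Agent.H39 Subgroup

universe u

variable {G : Type u} [Group G] [Finite G] {H : Subgroup G}

/-- two distinct commuting involutions exist. -/
def HasFourGroup (G : Type u) [Group G] : Prop :=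
  ∃ u v : G, orderOf u = 2 ∧ orderOf v = 2 ∧ u ≠ v ∧ Commute u v

/-- `H` is transitive on the cosets different from itself. -/
def IsTwoTransitive {G : Type u} [Group G] (H : Subgroup G) : Prop :=
  ∀ g₁ g₂ : G, g₁ ∉ H → g₂ ∉ H → ∃ h ∈ H, g₂⁻¹ * (h * g₁) ∈ H

theorem se_exists_not_mem (hH : Cfsg.IsStronglyEmbedded H) : ∃ g : G, g ∉ H :=
  SetLike.exists_not_mem_of_ne_top H hH.1

theorem se_odd_of_normal_le (hH : Cfsg.IsStronglyEmbedded H) (N : Subgroup G) [hN : N.Normal]
    (hNH : N ≤ H) : Odd (Nat.card N) := by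
  obtain ⟨g, hg⟩ := se_exists_not_mem hH
  refine (hH.2.2 g hg).of_dvd_nat (card_dvd_of_le (le_inf hNH fun n hn => ?_))
  exact mem_map_conj.mpr (hNH (by simpa using hN.conj_mem n hn g⁻¹))

theorem not_mem_of_odd_card {N : Subgroup G} (hN : Odd (Nat.card N)) {t : G} (ht : orderOf t = 2) :
    t ∉ N := fun h => by
  have := Subgroup.orderOf_dvd_natCard N h
  rw [ht, ← even_iff_two_dvd] at this
  exact (Nat.not_even_iff_odd.mpr hN) this

/-- the image in a quotient by a normal subgroup contained in `H` is strongly embedded. -/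
theorem se_quotient (hH : Cfsg.IsStronglyEmbedded H) (N : Subgroup G) [N.Normal] (hNH : N ≤ H) :
    Cfsg.IsStronglyEmbedded (H.map (QuotientGroup.mk' N)) := by
  have hker : (QuotientGroup.mk' N).ker ≤ H := by rwa [QuotientGroup.ker_mk']
  have hcm := Subgroup.comap_map_eq_self hker
  refine ⟨fun h => hH.1 ?_, ?_, fun q hq => ?_⟩
  · rw [← hcm, h, comap_top]
  · obtain ⟨t, ht, htH⟩ := se_exists_involution hH
    have htN := not_mem_of_odd_card (se_odd_of_normal_le hH N hNH) ht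
    have h2 : orderOf (QuotientGroup.mk' N t) = 2 := by
      refine orderOf_eq_prime ?_ fun h => htN ((QuotientGroup.eq_one_iff t).1 h)
      rw [← map_pow, ← ht, pow_orderOf_eq_one, map_one]
    exact even_iff_two_dvd.mpr (h2 ▸ Subgroup.orderOf_dvd_natCard _ (mem_map_of_mem _ htH))
  · obtain ⟨g, rfl⟩ := QuotientGroup.mk'_surjective N q
    have hg : g ∉ H := fun h => hq (mem_map_of_mem _ h)
    refine (hH.2.2 g hg).of_dvd_nat ?_
    refine dvd_trans (card_dvd_of_le ?_) (card_map_dvd _ (QuotientGroup.mk' N))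
    rintro y ⟨⟨a, ha, rfl⟩, hy2⟩
    refine mem_map_of_mem _ ⟨ha, mem_map_conj.mpr ?_⟩
    have hy := mem_map_conj.mp hy2
    rw [← map_inv, ← map_mul, ← map_mul, ← Subgroup.mem_comap, hcm] at hy
    exact hy

theorem twoTransitive_of_quotient (N : Subgroup G) [N.Normal] (hNH : N ≤ H)
    (h2 : IsTwoTransitive (H.map (QuotientGroup.mk' N))) : IsTwoTransitive H := by
  have hker : (QuotientGroup.mk' N).ker ≤ H := by rwa [QuotientGroup.ker_mk']
  have hcm := Subgroup.comap_map_eq_self hker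
  have hmem : ∀ g : G, QuotientGroup.mk' N g ∈ H.map (QuotientGroup.mk' N) → g ∈ H :=
    fun g hg => hcm ▸ (Subgroup.mem_comap.mpr hg)
  intro g₁ g₂ h₁ h₂
  obtain ⟨_, ⟨h, hh, rfl⟩, hr⟩ :=
    h2 _ _ (fun e => h₁ (hmem _ e)) (fun e => h₂ (hmem _ e))
  exact ⟨h, hh, hmem _ (by simpa only [map_mul, map_inv] using hr)⟩

theorem hasFourGroup_quotient (N : Subgroup G) [N.Normal] (hodd : Odd (Nat.card N))
    (h : HasFourGroup G) : HasFourGroup (G ⧸ N) := by
  obtain ⟨u, v, hu, hv, huv, hc⟩ := h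
  have hinv : ∀ {t : G}, orderOf t = 2 → orderOf (QuotientGroup.mk' N t) = 2 := fun {t} ht =>
    orderOf_eq_prime (by rw [← map_pow, ← ht, pow_orderOf_eq_one, map_one])
      fun e => not_mem_of_odd_card hodd ht ((QuotientGroup.eq_one_iff t).1 e)
  refine ⟨_, _, hinv hu, hinv hv, fun e => ?_, hc.map (QuotientGroup.mk' N)⟩
  have hne : u⁻¹ * v ≠ 1 := fun e' => huv (inv_mul_eq_one.mp e')
  have hu2 := mul_self_of_orderOf_eq_two hu
  have hv2 := mul_self_of_orderOf_eq_two hv
  have h2 : orderOf (u⁻¹ * v) = 2 := by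
    refine orderOf_eq_prime ?_ hne
    rw [(hc.inv_left).mul_pow, inv_pow, sq, sq, hu2, hv2, inv_one, one_mul]
  exact not_mem_of_odd_card hodd h2 (QuotientGroup.eq.mp e)

theorem normalCore_map_eq_bot :
    (H.map (QuotientGroup.mk' H.normalCore)).normalCore = ⊥ := by
  set f := QuotientGroup.mk' H.normalCore
  set K := (H.map f).normalCore with hK
  have hle : K.comap f ≤ H.normalCore := by
    refine Subgroup.normal_le_normalCore.mpr fun g hg => ?_
    have hker : f.ker ≤ H := by rw [QuotientGroup.ker_mk']; exact H.normalCore_le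
    rw [← Subgroup.comap_map_eq_self hker]
    exact (H.map f).normalCore_le hg
  rw [eq_bot_iff]
  intro q hq
  obtain ⟨g, rfl⟩ := QuotientGroup.mk'_surjective H.normalCore q
  exact (QuotientGroup.eq_one_iff g).mpr (hle hq)

/-- a subgroup with an involution in `H` and not contained in `H` has a strongly embedded subgroup. -/
theorem se_subgroup (hH : Cfsg.IsStronglyEmbedded H) (M : Subgroup G) {t : G} (ht : orderOf t = 2)
    (htM : t ∈ M) (htH : t ∈ H) (hMH : ¬ M ≤ H) : Cfsg.IsStronglyEmbedded (H.subgroupOf M) := by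
  refine ⟨fun h => hMH (subgroupOf_eq_top.mp h), ?_, fun g hg => ?_⟩
  · have h2 : orderOf (⟨⟨t, htM⟩, htH⟩ : H.subgroupOf M) = 2 := by
      rw [← Subgroup.orderOf_coe, ← Subgroup.orderOf_coe]; exact ht
    exact even_iff_two_dvd.mpr (h2 ▸ orderOf_dvd_natCard _)
  · refine (hH.2.2 g.1 (fun h => hg h)).of_dvd_nat ?_
    rw [← Subgroup.card_map_of_injective M.subtype_injective]
    refine card_dvd_of_le ?_
    rintro _ ⟨x, ⟨hx1, hx2⟩, rfl⟩
    exact ⟨hx1, mem_map_conj.mpr (by simpa [mem_subgroupOf] using mem_map_conj.mp hx2)⟩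

/-- every coset stabiliser is strongly embedded. -/
theorem se_stabilizer (hH : Cfsg.IsStronglyEmbedded H) (a : G ⧸ H) :
    Cfsg.IsStronglyEmbedded (MulAction.stabilizer G a) := by
  induction a using QuotientGroup.induction_on with
  | _ c =>
  have hmem : ∀ x : G, x ∈ MulAction.stabilizer G (QuotientGroup.mk c : G ⧸ H) ↔ c⁻¹ * x * c ∈ H :=
    fun x => MulAction.mem_stabilizer_iff.trans se_smul_mk_eq_iff
  have heq : MulAction.stabilizer G (QuotientGroup.mk c : G ⧸ H) =
      H.map (MulAut.conj c).toMonoidHom := ext fun x => (hmem x).trans mem_map_conj.symm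
  refine ⟨fun h => hH.1 (eq_top_iff.mpr fun x _ => ?_), ?_, fun g hg => ?_⟩
  · have := (hmem (c * x * c⁻¹)).mp (h ▸ mem_top _)
    simpa [mul_assoc] using this
  · rw [heq, card_map_conj]; exact hH.2.1
  · have hg' : c⁻¹ * g * c ∉ H := fun h => hg ((hmem g).mpr h)
    refine (hH.2.2 _ hg').of_dvd_nat ?_
    rw [← card_map_conj (_ ⊓ _) c⁻¹]
    refine card_dvd_of_le ?_
    rintro _ ⟨x, ⟨hx1, hx2⟩, rfl⟩
    have h1 := (hmem x).mp hx1
    have h2 := (hmem _).mp (mem_map_conj.mp hx2)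
    refine ⟨by simpa [mul_assoc] using h1, mem_map_conj.mpr ?_⟩
    simpa [mul_assoc] using h2

/-- a subgroup containing a strongly embedded subgroup is strongly embedded or everything. -/
theorem se_overgroup (hH : Cfsg.IsStronglyEmbedded H) {H₁ : Subgroup G} (hle : H ≤ H₁)
    (hne : H₁ ≠ ⊤) : Cfsg.IsStronglyEmbedded H₁ := by
  refine ⟨hne, even_iff_two_dvd.mpr ((even_iff_two_dvd.mp hH.2.1).trans (card_dvd_of_le hle)),
    fun g hg => ?_⟩
  by_contra hodd
  obtain ⟨y, hy⟩ := exists_prime_orderOf_dvd_card' (G := ↥(H₁ ⊓ H₁.map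
    (MulAut.conj g).toMonoidHom)) 2 (even_iff_two_dvd.mp (Nat.not_odd_iff_even.mp hodd))
  obtain ⟨ht1, ht2⟩ := y.2
  generalize ht' : (y : G) = t at ht1 ht2
  have ht : orderOf t = 2 := by rw [← ht', Subgroup.orderOf_coe, hy]
  have hs : orderOf (g⁻¹ * t * g) = 2 := by
    have := orderOf_conj g⁻¹ t
    rw [inv_inv] at this
    rw [this, ht]
  have hsH₁ := mem_map_conj.mp ht2
  obtain ⟨R, hR⟩ := se_exists_sylow_le hH
  have key : ∀ s : G, orderOf s = 2 → s ∈ H₁ → ∃ x ∈ H₁, x⁻¹ * s * x ∈ H := by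
    intro s hs hs1
    have hp : IsPGroup 2 (Subgroup.zpowers (⟨s, hs1⟩ : H₁)) :=
      IsPGroup.of_card (n := 1) (by rw [Nat.card_zpowers, ← Subgroup.orderOf_coe, hs, pow_one])
    obtain ⟨x, hx⟩ := exists_conj_le_sylow hp (R.subtype (hR.trans hle))
    exact ⟨(x⁻¹ : H₁), (x⁻¹).2, by simpa using hR (hx _ (Subgroup.mem_zpowers _))⟩
  obtain ⟨a, ha, haH⟩ := key t ht ht1
  obtain ⟨b, hb, hbH⟩ := key _ hs hsH₁
  have ho : orderOf (b⁻¹ * (g⁻¹ * t * g) * b) = 2 := by
    have := orderOf_conj b⁻¹ (g⁻¹ * t * g)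
    rw [inv_inv] at this
    rw [this, hs]
  have hz : a⁻¹ * g * b ∈ H := se_mem_of_conj hH ho hbH (by simpa [mul_assoc] using haH)
  exact hg (by simpa [mul_assoc] using H₁.mul_mem (H₁.mul_mem ha (hle hz)) (H₁.inv_mem hb))

end Cfsg.Agent.H53.SE
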